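import Cfsg.Agent.Omega.NO1.WRF.Dec

/-!
# THEOREM WRF (bb OMEGA 16078), parts (1) and (2)

`FlatM V E F W` : the module facts of FLAT for `W = W_F` acting on `V` (`E < V`, `F = C_V(W) < E`, `[V,W] ≤ E`,
`[E,W] ≤ F`, `E = [w,W]F` for every `w ∈ V - E`, `W` acts on `V` as an elementary abelian 2-group).
`Dec V Vf` : `V` is the direct product of the `Vf i`, permuted by `W`.

* `FlatM.one` **(1)** : one `W`-orbit `O` of members is not in `E`; `Vf j ≤ F` for `j ∉ O`.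
* `FlatM.two` **(2)** : a member `Vf i₀ ≰ E` with at least three `W`-conjugates has order 2.
* `FlatM.two'` : for a group `P` permuting the members transitively with `C_V(P) = 1` : at most two conjugates.
-/

set_option autoImplicit false

namespace Cfsg.Agent.Omega.NO1.WRF

open Subgroup

universe u v

variable {G : Type u} [Group G] {ι : Type v}

/-- The module facts of FLAT for the action of `W` on `V`. -/
structure FlatM (V E F W : Subgroup G) : Prop where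
  le : E ≤ V
  F_eq : F = V ⊓ centralizer (W : Set G)
  norm : ∀ s ∈ W, ∀ v ∈ V, s * v * s⁻¹ ∈ V
  VE : ∀ s ∈ W, ∀ v ∈ V, v⁻¹ * (s * v * s⁻¹) ∈ E
  EF : ∀ s ∈ W, ∀ v ∈ E, v⁻¹ * (s * v * s⁻¹) ∈ F
  reg : ∀ w ∈ V, w ∉ E → ∀ e ∈ E, ∃ s ∈ W, ∃ f ∈ F, e = w⁻¹ * (s * w * s⁻¹) * f
  ab : ∀ s ∈ W, ∀ t ∈ W, ∀ v ∈ V, s * (t * v * t⁻¹) * s⁻¹ = t * (s * v * s⁻¹) * t⁻¹
  inv : ∀ s ∈ W, ∀ v ∈ V, s * (s * v * s⁻¹) * s⁻¹ = v
  ne : ¬ E ≤ F
  ne' : ¬ V ≤ E

/-- `W` permutes the family. -/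
def Perm (W : Subgroup G) (Vf : ι → Subgroup G) : Prop :=
  ∀ s ∈ W, ∀ i, ∃ j, (Vf i).map (MulAut.conj s).toMonoidHom = Vf j

theorem conj_mem_of_eq {g : G} {A B : Subgroup G} (h : A.map (MulAut.conj g).toMonoidHom = B) {x : G}
    (hx : x ∈ A) : g * x * g⁻¹ ∈ B := by
  rw [← h]
  exact ⟨x, hx, by simp [MulAut.conj_apply]⟩

theorem mem_of_conj_mem {g : G} {A B : Subgroup G} (h : A.map (MulAut.conj g).toMonoidHom = B) {y : G}
    (hy : y ∈ B) : ∃ x ∈ A, g * x * g⁻¹ = y := by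
  rw [← h] at hy
  obtain ⟨x, hx, rfl⟩ := hy
  exact ⟨x, hx, by simp [MulAut.conj_apply]⟩

theorem map_eq_of {g : G} {A B : Subgroup G} (h1 : ∀ x ∈ A, g * x * g⁻¹ ∈ B)
    (h2 : ∀ y ∈ B, ∃ x ∈ A, g * x * g⁻¹ = y) : A.map (MulAut.conj g).toMonoidHom = B := by
  apply le_antisymm
  · rintro _ ⟨x, hx, rfl⟩
    simpa [MulAut.conj_apply] using h1 x hx
  · intro y hy
    obtain ⟨x, hx, rfl⟩ := h2 y hy
    exact ⟨x, hx, by simp [MulAut.conj_apply]⟩

/-- `Vf j` is a `W`-conjugate of `Vf i`. -/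
def Rel (W : Subgroup G) (Vf : ι → Subgroup G) (i j : ι) : Prop :=
  ∃ s ∈ W, (Vf i).map (MulAut.conj s).toMonoidHom = Vf j

section Rel

variable {W : Subgroup G} {Vf : ι → Subgroup G} {i j k : ι}

theorem Rel.refl (i : ι) : Rel W Vf i i :=
  ⟨1, one_mem W, map_eq_of (fun x hx => by simpa using hx) fun y hy => ⟨y, hy, by simp⟩⟩

theorem map_inv {s : G} (h : (Vf i).map (MulAut.conj s).toMonoidHom = Vf j) :
    (Vf j).map (MulAut.conj s⁻¹).toMonoidHom = Vf i := by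
  apply map_eq_of
  · intro x hx
    obtain ⟨y, hy, rfl⟩ := mem_of_conj_mem h hx
    have : s⁻¹ * (s * y * s⁻¹) * s⁻¹⁻¹ = y := by group
    rwa [this]
  · intro y hy
    exact ⟨_, conj_mem_of_eq h hy, by group⟩

theorem map_mul {s t : G} (h1 : (Vf i).map (MulAut.conj s).toMonoidHom = Vf j)
    (h2 : (Vf j).map (MulAut.conj t).toMonoidHom = Vf k) :
    (Vf i).map (MulAut.conj (t * s)).toMonoidHom = Vf k := by
  apply map_eq_of
  · intro x hx
    have : t * s * x * (t * s)⁻¹ = t * (s * x * s⁻¹) * t⁻¹ := by group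
    rw [this]
    exact conj_mem_of_eq h2 (conj_mem_of_eq h1 hx)
  · intro y hy
    obtain ⟨z, hz, rfl⟩ := mem_of_conj_mem h2 hy
    obtain ⟨x, hx, rfl⟩ := mem_of_conj_mem h1 hz
    exact ⟨x, hx, by group⟩

theorem Rel.symm (h : Rel W Vf i j) : Rel W Vf j i := by
  obtain ⟨s, hs, h⟩ := h
  exact ⟨s⁻¹, inv_mem hs, map_inv h⟩

theorem Rel.trans (h1 : Rel W Vf i j) (h2 : Rel W Vf j k) : Rel W Vf i k := by
  obtain ⟨s, hs, h1⟩ := h1
  obtain ⟨t, ht, h2⟩ := h2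
  exact ⟨t * s, mul_mem ht hs, map_mul h1 h2⟩

end Rel

namespace FlatM

variable {V E F W : Subgroup G} {Vf : ι → Subgroup G} (h : FlatM V E F W)

section basic
include h

theorem F_le : F ≤ V := by
  rw [h.F_eq]
  exact inf_le_left

theorem F_cent {f s : G} (hf : f ∈ F) (hs : s ∈ W) : s * f * s⁻¹ = f := by
  have h1 := hf
  rw [h.F_eq] at h1
  rw [mem_centralizer_iff.1 h1.2 s hs, mul_assoc, mul_inv_cancel, mul_one]

theorem mem_F {v : G} (hv : v ∈ V) (hc : ∀ s ∈ W, s * v * s⁻¹ = v) : v ∈ F := by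
  rw [h.F_eq]
  refine ⟨hv, mem_centralizer_iff.2 fun s hs => ?_⟩
  rw [← mul_inv_eq_iff_eq_mul]
  exact hc s hs

end basic

variable [Finite ι] (hD : Dec V Vf) (hP : Perm W Vf) (hne : ∀ i, Vf i ≠ ⊥)

include h hD hP

/-- outside the orbit of `i₀` elements of `E` have the coordinates of elements of `F` -/
theorem cd_E {w e : G} {i₀ : ι} (hw : w ∈ Vf i₀) (hwE : w ∉ E) (he : e ∈ E) :
    ∃ f ∈ F, ∀ j, ¬ Rel W Vf i₀ j → hD.cd e j = hD.cd f j := by
  have hwV := hD.le i₀ hw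
  obtain ⟨s, hs, f, hf, rfl⟩ := h.reg w hwV hwE e he
  refine ⟨f, hf, fun j hj => ?_⟩
  have h0 : j ≠ i₀ := by
    rintro rfl
    exact hj (Rel.refl _)
  obtain ⟨k, hk⟩ := hP s hs i₀
  have hjk : j ≠ k := by
    rintro rfl
    exact hj ⟨s, hs, hk⟩
  have hsw := conj_mem_of_eq hk hw
  rw [hD.cd_mul (mul_mem (inv_mem hwV) (h.norm s hs w hwV)) (h.F_le hf),
    hD.cd_mul (inv_mem hwV) (h.norm s hs w hwV), hD.cd_inv hwV, hD.cd_other hw h0, hD.cd_other hsw hjk]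
  simp

include hne

/-- coordinates of an element of `F` -/
theorem cd_F {f s : G} (hf : f ∈ F) (hs : s ∈ W) {i j : ι}
    (hij : (Vf i).map (MulAut.conj s).toMonoidHom = Vf j) : hD.cd f j = s * hD.cd f i * s⁻¹ := by
  rw [← hD.cd_conj hne (hP s hs) (h.F_le hf) hij, h.F_cent hf hs]

/-- an element whose coordinates are, orbit by orbit, those of elements of `F`, lies in `F` -/
theorem mem_F_of {v : G} (hv : v ∈ V)
    (hc : ∀ i, ∃ f ∈ F, ∀ j, Rel W Vf i j → hD.cd v j = hD.cd f j) : v ∈ F := by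
  refine h.mem_F hv fun t ht => ?_
  refine hD.ext (h.norm t ht v hv) hv fun j => ?_
  obtain ⟨i, hi⟩ := hP t⁻¹ (inv_mem ht) j
  have hij : (Vf i).map (MulAut.conj t).toMonoidHom = Vf j := by
    have := map_inv hi
    rwa [inv_inv] at this
  obtain ⟨f, hf, h1⟩ := hc i
  rw [hD.cd_conj hne (hP t ht) hv hij, h1 i (Rel.refl _), h1 j ⟨t, ht, hij⟩, h.cd_F hD hP hne hf ht hij]

/-- **(1)** -/
theorem one : ∃ i₀, ¬ Vf i₀ ≤ E ∧ ∀ j, ¬ Rel W Vf i₀ j → Vf j ≤ F := by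
  have h0 : ∃ i₀, ¬ Vf i₀ ≤ E := by
    by_contra hcon
    push Not at hcon
    exact h.ne' (hD.sup ▸ iSup_le hcon)
  obtain ⟨i₀, hi₀⟩ := h0
  refine ⟨i₀, hi₀, fun j₁ hj₁ => ?_⟩
  obtain ⟨w, hw, hwE⟩ := SetLike.not_le_iff_exists.1 hi₀
  have hle : Vf j₁ ≤ E := by
    by_contra hcon
    obtain ⟨w', hw', hwE'⟩ := SetLike.not_le_iff_exists.1 hcon
    apply h.ne
    intro e he
    refine h.mem_F_of hD hP hne (h.le he) fun i => ?_
    by_cases hi : Rel W Vf i₀ i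
    · obtain ⟨f, hf, h1⟩ := h.cd_E hD hP hw' hwE' he
      exact ⟨f, hf, fun j hj => h1 j fun h2 => hj₁ ((hi.trans hj).trans h2.symm)⟩
    · obtain ⟨f, hf, h1⟩ := h.cd_E hD hP hw hwE he
      exact ⟨f, hf, fun j hj => h1 j fun h2 => hi (h2.trans hj.symm)⟩
  intro v hv
  refine h.mem_F_of hD hP hne (hD.le j₁ hv) fun i => ?_
  by_cases hi : Rel W Vf i₀ i
  · refine ⟨1, one_mem F, fun j hj => ?_⟩
    have hjj : j ≠ j₁ := by
      rintro rfl
      exact hj₁ (hi.trans hj)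
    rw [hD.cd_one, hD.cd_other hv hjj]
  · obtain ⟨f, hf, h1⟩ := h.cd_E hD hP hw hwE (hle hv)
    exact ⟨f, hf, fun j hj => h1 j fun h2 => hi (h2.trans hj.symm)⟩

/-- `Vf i₀ ∩ E = 1` if it has at least three conjugates -/
theorem inf_eq {i₀ a b : ι} {s t : G} (hs : s ∈ W) (ht : t ∈ W)
    (ha : (Vf i₀).map (MulAut.conj s).toMonoidHom = Vf a) (hb : (Vf i₀).map (MulAut.conj t).toMonoidHom = Vf b)
    (hab : b ≠ a) (hb0 : b ≠ i₀) (ha0 : a ≠ i₀) {x : G} (hx : x ∈ Vf i₀) (hxE : x ∈ E) : x = 1 := by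
  have hxV := hD.le i₀ hx
  have hF := h.EF s hs x hxE
  have h1 := h.cd_F hD hP hne hF ht hb
  have hsx := conj_mem_of_eq ha hx
  have key : ∀ j, hD.cd (x⁻¹ * (s * x * s⁻¹)) j = (hD.cd x j)⁻¹ * hD.cd (s * x * s⁻¹) j := fun j => by
    rw [hD.cd_mul (inv_mem hxV) (h.norm s hs x hxV), hD.cd_inv hxV]
  rw [key, key, hD.cd_other hx hb0, hD.cd_other hsx hab, hD.cd_self hx, hD.cd_other hsx ha0.symm] at h1
  simp only [inv_one, mul_one] at h1
  have h2 : x⁻¹ = t⁻¹ * (t * x⁻¹ * t⁻¹) * t := by group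
  rw [← inv_inj, inv_one, h2, ← h1]
  group

/-- **(2)** -/
theorem two {i₀ a b : ι} {s t : G} (hs : s ∈ W) (ht : t ∈ W)
    (ha : (Vf i₀).map (MulAut.conj s).toMonoidHom = Vf a) (hb : (Vf i₀).map (MulAut.conj t).toMonoidHom = Vf b)
    (hab : b ≠ a) (hb0 : b ≠ i₀) (ha0 : a ≠ i₀) {x y : G} (hx : x ∈ Vf i₀) (hy : y ∈ Vf i₀)
    (hx1 : x ≠ 1) (hy1 : y ≠ 1) : x = y := by
  have hinj := hD.inj_of_ne hne
  obtain ⟨c, hc⟩ := hP s hs b
  -- distinctness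
  have hsinv : ∀ {k l : ι}, (Vf k).map (MulAut.conj s).toMonoidHom = Vf l →
      (Vf l).map (MulAut.conj s).toMonoidHom = Vf k := by
    intro k l hkl
    apply map_eq_of
    · intro x hx
      obtain ⟨y, hy, rfl⟩ := mem_of_conj_mem hkl hx
      rw [h.inv s hs y (hD.le k hy)]
      exact hy
    · intro y hy
      exact ⟨_, conj_mem_of_eq hkl hy, h.inv s hs y (hD.le k hy)⟩
  have hc0 : c ≠ i₀ := by
    rintro rfl
    have h1 := hsinv hc
    rw [ha] at h1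
    exact hab (hinj h1).symm
  have hca : c ≠ a := by
    rintro rfl
    exact hb0 (hinj (Subgroup.map_injective (MulAut.conj s).injective (hc.trans ha.symm)))
  have htc : (Vf a).map (MulAut.conj t).toMonoidHom = Vf c := by
    apply map_eq_of
    · intro x hx
      obtain ⟨y, hy, rfl⟩ := mem_of_conj_mem ha hx
      rw [← h.ab s hs t ht y (hD.le i₀ hy)]
      exact conj_mem_of_eq hc (conj_mem_of_eq hb hy)
    · intro z hz
      obtain ⟨y, hy, rfl⟩ := mem_of_conj_mem hc hz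
      obtain ⟨x, hx, rfl⟩ := mem_of_conj_mem hb hy
      exact ⟨_, conj_mem_of_eq ha hx, (h.ab s hs t ht x (hD.le i₀ hx)).symm⟩
  have hcb : c ≠ b := by
    rintro rfl
    exact ha0 (hinj (Subgroup.map_injective (MulAut.conj t).injective (htc.trans hb.symm)))
  by_contra hxy
  have hxE : x ∉ E := fun hE => hx1 (h.inf_eq hD hP hne hs ht ha hb hab hb0 ha0 hx hE)
  have hxV := hD.le i₀ hx
  have hyV := hD.le i₀ hy
  obtain ⟨u, hu, f, hf, he⟩ := h.reg x hxV hxE _ (h.VE s hs y hyV)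
  obtain ⟨d, hd⟩ := hP u hu i₀
  have hux := conj_mem_of_eq hd hx
  have hsy := conj_mem_of_eq ha hy
  have cf : ∀ j, hD.cd f j = (hD.cd (u * x * u⁻¹) j)⁻¹ * hD.cd x j * (hD.cd y j)⁻¹ * hD.cd (s * y * s⁻¹) j := by
    intro j
    have h1 : hD.cd (y⁻¹ * (s * y * s⁻¹)) j = hD.cd (x⁻¹ * (u * x * u⁻¹) * f) j := by rw [he]
    rw [hD.cd_mul (inv_mem hyV) (h.norm s hs y hyV), hD.cd_inv hyV,
      hD.cd_mul (mul_mem (inv_mem hxV) (h.norm u hu x hxV)) (h.F_le hf),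
      hD.cd_mul (inv_mem hxV) (h.norm u hu x hxV), hD.cd_inv hxV] at h1
    calc hD.cd f j = (hD.cd (u * x * u⁻¹) j)⁻¹ * hD.cd x j *
          ((hD.cd x j)⁻¹ * hD.cd (u * x * u⁻¹) j * hD.cd f j) := by group
      _ = _ := by rw [← h1]; group
  have hfb := h.cd_F hD hP hne hf ht hb
  have hfc := h.cd_F hD hP hne hf (mul_mem hs ht) (map_mul hb hc)
  have hne1 : ∀ (g : G) {z : G}, z ≠ 1 → g * z * g⁻¹ ≠ 1 := by
    intro g z hz h1
    apply hz
    have : z = g⁻¹ * (g * z * g⁻¹) * g := by group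
    rw [this, h1]
    group
  rcases eq_or_ne d i₀ with rfl | hd0
  · -- `u` fixes the member: `[x,u] = 1`
    have h1 : x⁻¹ * (u * x * u⁻¹) = 1 :=
      h.inf_eq hD hP hne hs ht ha hb hab hb0 ha0 (mul_mem (inv_mem hx) hux) (h.VE u hu x hxV)
    have h2 : u * x * u⁻¹ = x := by
      calc u * x * u⁻¹ = x * (x⁻¹ * (u * x * u⁻¹)) := by group
        _ = x := by rw [h1, mul_one]
    rw [cf, cf, hD.cd_other hux hb0, hD.cd_other hx hb0, hD.cd_other hy hb0, hD.cd_other hsy hab, h2,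
      hD.cd_self hx, hD.cd_self hy, hD.cd_other hsy ha0.symm] at hfb
    simp only [inv_one, mul_one, inv_mul_cancel, one_mul] at hfb
    exact hne1 t (inv_ne_one.2 hy1) hfb.symm
  · have h0 : hD.cd f i₀ = x * y⁻¹ := by
      rw [cf, hD.cd_other hux hd0.symm, hD.cd_self hx, hD.cd_self hy, hD.cd_other hsy ha0.symm]
      simp
    have h1 : x * y⁻¹ ≠ 1 := fun h2 => hxy (mul_inv_eq_one.1 h2)
    rw [h0] at hfb hfc
    have hdb : b = d := by
      by_contra hbd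
      rw [cf, hD.cd_other hux hbd, hD.cd_other hx hb0, hD.cd_other hy hb0, hD.cd_other hsy hab] at hfb
      simp only [inv_one, mul_one] at hfb
      exact hne1 t h1 hfb.symm
    have hdc : c = d := by
      by_contra hcd
      rw [cf, hD.cd_other hux hcd, hD.cd_other hx hc0, hD.cd_other hy hc0, hD.cd_other hsy hca] at hfc
      simp only [inv_one, mul_one] at hfc
      exact hne1 (s * t) h1 hfc.symm
    exact hcb (hdc.trans hdb.symm)

/-- **(2)** -/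
theorem two' {P : Subgroup G} (hPP : Perm P Vf) (htr : ∀ i j, Rel P Vf i j)
    (hcv : ∀ v ∈ V, (∀ g ∈ P, g * v * g⁻¹ = v) → v = 1) (i₀ : ι) :
    (∀ s ∈ W, (Vf i₀).map (MulAut.conj s).toMonoidHom = Vf i₀) ∨
      ∃ j₀, j₀ ≠ i₀ ∧ Rel W Vf i₀ j₀ ∧ ∀ s ∈ W, (Vf i₀).map (MulAut.conj s).toMonoidHom = Vf i₀ ∨
        (Vf i₀).map (MulAut.conj s).toMonoidHom = Vf j₀ := by
  by_contra hcon
  rw [not_or] at hcon
  obtain ⟨h1, h2⟩ := hcon
  push Not at h1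
  obtain ⟨s, hs, hsi⟩ := h1
  obtain ⟨a, ha⟩ := hP s hs i₀
  have ha0 : a ≠ i₀ := by
    rintro rfl
    exact hsi ha
  have h3 : ∃ t ∈ W, (Vf i₀).map (MulAut.conj t).toMonoidHom ≠ Vf i₀ ∧
      (Vf i₀).map (MulAut.conj t).toMonoidHom ≠ Vf a := by
    by_contra hcon
    push Not at hcon
    apply h2
    refine ⟨a, ha0, ⟨s, hs, ha⟩, fun t ht => ?_⟩
    by_cases h4 : (Vf i₀).map (MulAut.conj t).toMonoidHom = Vf i₀
    · exact Or.inl h4
    · exact Or.inr (hcon t ht h4)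
  obtain ⟨t, ht, ht0, hta⟩ := h3
  obtain ⟨b, hb⟩ := hP t ht i₀
  have hb0 : b ≠ i₀ := by
    rintro rfl
    exact ht0 hb
  have hab : b ≠ a := by
    rintro rfl
    exact hta hb
  have key : ∀ x ∈ Vf i₀, ∀ y ∈ Vf i₀, x ≠ 1 → y ≠ 1 → x = y := fun x hx y hy hx1 hy1 =>
    h.two hD hP hne hs ht ha hb hab hb0 ha0 hx hy hx1 hy1
  -- all members have order 2
  have key2 : ∀ i, ∀ x ∈ Vf i, ∀ y ∈ Vf i, x ≠ 1 → y ≠ 1 → x = y := by
    intro i x hx y hy hx1 hy1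
    obtain ⟨g, hg, hgi⟩ := htr i₀ i
    obtain ⟨x', hx', rfl⟩ := mem_of_conj_mem hgi hx
    obtain ⟨y', hy', rfl⟩ := mem_of_conj_mem hgi hy
    rw [key x' hx' y' hy' (by rintro rfl; exact hx1 (by group)) (by rintro rfl; exact hy1 (by group))]
  have hex : ∀ i, ∃ x ∈ Vf i, x ≠ 1 := by
    intro i
    by_contra hcon
    push Not at hcon
    exact hne i ((Subgroup.eq_bot_iff_forall _).2 hcon)
  choose x hx hx1 using hex
  obtain ⟨z, hz, hzc⟩ := hD.exists_cd x hx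
  have hz1 : z = 1 := by
    apply hcv z hz
    intro g hg
    refine hD.ext (hD.conj_mem (hPP g hg) hz) hz fun j => ?_
    obtain ⟨i, hi⟩ := hPP g⁻¹ (inv_mem hg) j
    have hij : (Vf i).map (MulAut.conj g).toMonoidHom = Vf j := by
      have := map_inv hi
      rwa [inv_inv] at this
    rw [hD.cd_conj hne (hPP g hg) hz hij, hzc, hzc]
    refine key2 j _ (conj_mem_of_eq hij (hx i)) _ (hx j) (fun h4 => hx1 i ?_) (hx1 j)
    have : x i = g⁻¹ * (g * x i * g⁻¹) * g := by group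
    rw [this, h4]
    group
  apply hx1 i₀
  rw [← hzc i₀, hz1, hD.cd_one]

end FlatM

end Cfsg.Agent.Omega.NO1.WRF
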