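import Cfsg.Agent.Omega.NO1.WRF.Irr
import Cfsg.Agent.Omega.NOne.Flat.Nine

/-!
# TEXT B4 #15506, step (10): back to `V_P`

`Hyp V F` (THEOREM FLAT for the big module `V`), `V_P ≤ V`, `W = W_F ≤ S`, `V_P ≰ E_F`:

* `flat_of_hyp` : `FlatM V_P (V_P ∩ E_F) (V_P ∩ F) W_F`;
* `fdat_of_hyp` : `FDat S P (V_P ∩ E_F) (V_P ∩ F) W_F`, so (IRR) holds: `irr_of_hyp`, `irrK_of_hyp`.
-/

set_option autoImplicit false
set_option linter.unusedSectionVars false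

namespace Cfsg.Agent.Omega.NO1.WRF.Irr

open Subgroup Cfsg Cfsg.Agent.ZN Cfsg.Agent.ZN.ChoiceBase Cfsg.Agent.Omega.MinPar Cfsg.Agent.Omega.Frame
open Cfsg.Agent.Omega.NO1 Cfsg.Agent.Omega.NO1.WRF.Single Cfsg.Agent.Omega.NO1.WRF.Indec
open Cfsg.Agent.Omega.NOne.Flat (Hyp WW)
open Cfsg.Agent.Omega.NOne.NearFF (c c_def)

universe u

variable {G : Type u} [Group G] [Finite G] {S : Sylow 2 G} {P V F V₀ : Subgroup G}

section

variable (H : Hyp V F)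
include H

theorem hyp_VE {v s : G} (hv : v ∈ V) (hs : s ∈ WW V F) : v⁻¹ * (s * v * s⁻¹) ∈ NOne.Flat.EE V F := by
  have h1 := H.c_memE (inv_mem hv) hs
  have e : c v⁻¹ s = v⁻¹ * (s * v * s⁻¹) := by rw [c_def]; group
  rwa [e] at h1

theorem hyp_EF {v s : G} (hv : v ∈ NOne.Flat.EE V F) (hs : s ∈ WW V F) : v⁻¹ * (s * v * s⁻¹) ∈ F := by
  have h1 := H.comm_EW (inv_mem hv) hs
  have e : c v⁻¹ s = v⁻¹ * (s * v * s⁻¹) := by rw [c_def]; group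
  rwa [e] at h1

theorem hyp_fix {f v : G} (hf : f ∈ F) (hv : v ∈ V) : f * v * f⁻¹ = v := by
  rw [H.V_comm (H.F_le_V hf) hv, mul_inv_cancel_right]

theorem hyp_norm {v s : G} (hv : v ∈ V) (hs : s ∈ WW V F) : s * v * s⁻¹ ∈ V :=
  (mem_normalizer_iff.mp (H.W_norm_V hs) v).mp hv

/-- `E_F ≤ V₀ F` for `V₀ ≰ E_F` normalised by `W` -/
theorem hyp_EE_le (h0V : V₀ ≤ V) (hn : WW V F ≤ normalizer (V₀ : Set G)) (hnot : ¬ V₀ ≤ NOne.Flat.EE V F) :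
    NOne.Flat.EE V F ≤ (V₀ ⊓ NOne.Flat.EE V F) ⊔ F := by
  obtain ⟨w, hw, hwE⟩ := SetLike.not_le_iff_exists.1 hnot
  intro e he
  obtain ⟨s, hs, hse⟩ := H.surj (h0V hw) hwE he
  have h1 : c w s ∈ V₀ := by
    have h2 := (mem_normalizer_iff.mp (hn hs) w⁻¹).mp (inv_mem hw)
    have e1 : c w s = w * (s * w⁻¹ * s⁻¹) := by rw [c_def]; group
    rw [e1]
    exact V₀.mul_mem hw h2
  have e2 : e = c w s * (c w s * e⁻¹)⁻¹ := by
    have h3 : (c w s * e⁻¹)⁻¹ = e * (c w s)⁻¹ := by group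
    rw [h3, H.V_comm he.1 (inv_mem (H.c_memV (h0V hw) hs))]
    group
  rw [e2]
  exact mul_mem_sup ⟨h1, H.c_memE (h0V hw) hs⟩ (inv_mem hse)

/-- **(10)** -/
theorem flat_of_hyp (h0V : V₀ ≤ V) (hn : WW V F ≤ normalizer (V₀ : Set G)) (hnot : ¬ V₀ ≤ NOne.Flat.EE V F) :
    FlatM V₀ (V₀ ⊓ NOne.Flat.EE V F) (V₀ ⊓ F) (WW V F) where
  le := inf_le_left
  F_eq := by
    conv_lhs => rw [← H.cent_VW]
    rw [← inf_assoc, inf_eq_left.2 h0V]
  norm := fun s hs v hv => (mem_normalizer_iff.mp (hn hs) v).mp hv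
  VE := fun s hs v hv => ⟨V₀.mul_mem (V₀.inv_mem hv) ((mem_normalizer_iff.mp (hn hs) v).mp hv),
    hyp_VE H (h0V hv) hs⟩
  EF := fun s hs v hv => ⟨V₀.mul_mem (V₀.inv_mem hv.1) ((mem_normalizer_iff.mp (hn hs) v).mp hv.1),
    hyp_EF H hv.2 hs⟩
  reg := fun w hw hwE e he => by
    have hwE' : w ∉ NOne.Flat.EE V F := fun h1 => hwE ⟨hw, h1⟩
    have hwV := h0V hw
    have hw' : w⁻¹ ∉ NOne.Flat.EE V F := fun h1 => hwE' (by simpa using inv_mem h1)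
    obtain ⟨s, hs, hse⟩ := H.surj (inv_mem hwV) hw' he.2
    have e1 : c w⁻¹ s = w⁻¹ * (s * w * s⁻¹) := by rw [c_def]; group
    rw [e1] at hse
    have hm : w⁻¹ * (s * w * s⁻¹) ∈ V₀ := V₀.mul_mem (V₀.inv_mem hw) ((mem_normalizer_iff.mp (hn hs) w).mp hw)
    refine ⟨s, hs, (w⁻¹ * (s * w * s⁻¹))⁻¹ * e, ⟨V₀.mul_mem (V₀.inv_mem hm) he.1, ?_⟩, by group⟩
    have h2 := F.inv_mem hse
    have e2 : (w⁻¹ * (s * w * s⁻¹) * e⁻¹)⁻¹ = e * (w⁻¹ * (s * w * s⁻¹))⁻¹ := by group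
    rw [e2, H.V_comm (h0V he.1) (inv_mem (h0V hm))] at h2
    exact h2
  ab := fun s hs t ht v hv => by
    have hx : t * (s * v * s⁻¹) * t⁻¹ ∈ V := hyp_norm H (hyp_norm H (h0V hv) hs) ht
    have h1 := hyp_fix H (H.comm_WW hs ht) hx
    rw [← h1, c_def]
    group
  inv := fun s hs v hv => by
    have h1 := hyp_fix H (H.sq_W hs) (h0V hv)
    calc s * (s * v * s⁻¹) * s⁻¹ = s * s * v * (s * s)⁻¹ := by group
      _ = v := h1
  ne := by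
    intro hle
    have h1 := hyp_EE_le H h0V hn hnot
    have h2 : NOne.Flat.EE V F ≤ F := h1.trans (sup_le (hle.trans inf_le_right) le_rfl)
    exact absurd (lt_of_lt_of_le H.F_lt_E h2) (lt_irrefl _)
  ne' := fun hle => hnot (hle.trans inf_le_right)

theorem hyp_lt (h0V : V₀ ≤ V) (hn : WW V F ≤ normalizer (V₀ : Set G)) (hnot : ¬ V₀ ≤ NOne.Flat.EE V F) :
    (V₀ ⊓ NOne.Flat.EE V F).relIndex V₀ < (V₀ ⊓ F).relIndex (V₀ ⊓ NOne.Flat.EE V F) := by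
  have h1 : (V₀ ⊓ NOne.Flat.EE V F).relIndex V₀ ≤ (NOne.Flat.EE V F).relIndex V := by
    rw [inf_relIndex_left]
    exact relIndex_le_of_le_right h0V Subgroup.index_ne_zero_of_finite
  have h2 : (V₀ ⊓ F).relIndex (V₀ ⊓ NOne.Flat.EE V F) = F.relIndex (NOne.Flat.EE V F) := by
    have h3 : (V₀ ⊓ NOne.Flat.EE V F) ⊔ F = NOne.Flat.EE V F :=
      le_antisymm (sup_le inf_le_right H.F_lt_E.le) (hyp_EE_le H h0V hn hnot)
    have h4 : V₀ ⊓ NOne.Flat.EE V F ≤ normalizer (F : Set G) :=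
      ((inf_le_left.trans h0V).trans (H.comm.trans (centralizer_le H.F_le_V))).trans (centralizer_le_normalizer _)
    have h5 := relIndex_sup_of_norm h4
    rw [h3] at h5
    rw [h5, ← inf_relIndex_right F, ← inf_relIndex_right (V₀ ⊓ F)]
    congr 1
    refine le_antisymm (le_inf (inf_le_left.trans inf_le_right) inf_le_right)
      (le_inf (le_inf (inf_le_right.trans inf_le_left) inf_le_left) inf_le_right)
  rw [h2]
  exact lt_of_le_of_lt h1 H.relIndex_lt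

/-- **(10)** for `V_P` -/
theorem fdat_of_hyp (h : Cfg S P) (h0V : zl (S : Subgroup G) P ≤ V) (hWS : WW V F ≤ S)
    (hnot : ¬ zl (S : Subgroup G) P ≤ NOne.Flat.EE V F) :
    FDat S P (zl (S : Subgroup G) P ⊓ NOne.Flat.EE V F) (zl (S : Subgroup G) P ⊓ F) (WW V F) := by
  have hWP : WW V F ≤ P := hWS.trans h.S_le
  have hn : WW V F ≤ normalizer (zl (S : Subgroup G) P : Set G) := hWP.trans h.sit.norm
  refine ⟨h, flat_of_hyp H h0V hn hnot, hyp_lt H h0V hn hnot, hWP, S.isPGroup'.to_le hWS, ?_⟩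
  refine le_inf h.Z_le_V ?_
  rw [← H.cent_VW]
  refine le_inf (h.Z_le_V.trans h0V) fun z hz => mem_centralizer_iff.mpr fun s hs => ?_
  exact (ChoiceBase.mem_zc.1 hz).2.2 s (hWS hs)

/-- `V_P ≰ O₂(C_G(F))` -/
theorem hyp_bad (h0V : V₀ ≤ V) (hnot : ¬ V₀ ≤ NOne.Flat.EE V F) : ¬ V₀ ≤ o2 (centralizer (F : Set G)) :=
  fun h1 => hnot (le_inf h0V h1)

/-- **(IRR)** : every `P`-invariant `1 ≠ V' ≤ V_P` contains `V₁`. -/
theorem irr_of_hyp (h : Cfg S P) (h0V : zl (S : Subgroup G) P ≤ V) (hWS : WW V F ≤ S)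
    (hnot : ¬ zl (S : Subgroup G) P ≤ NOne.Flat.EE V F) {V' : Subgroup G} (hV' : V' ≤ zl (S : Subgroup G) P)
    (hn : P ≤ normalizer (V' : Set G)) (hne : V' ≠ ⊥) : V1 S P ≤ V' :=
  (fdat_of_hyp H h h0V hWS hnot).le_of hV' hn hne

/-- **(IRR)** : `V₁` is an irreducible module for `K = ⟨W_F^P⟩`. -/
theorem irrK_of_hyp (h : Cfg S P) (h0V : zl (S : Subgroup G) P ≤ V) (hWS : WW V F ≤ S)
    (hnot : ¬ zl (S : Subgroup G) P ≤ NOne.Flat.EE V F) {X : Subgroup G} (hX : X ≤ V1 S P)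
    (hn : KW P (WW V F) ≤ normalizer (X : Set G)) : X = ⊥ ∨ X = V1 S P := by
  have hV2 : IsPGroup 2 F := S.isPGroup'.to_le (H.F_le_E.trans (NOne.Flat.Hyp.E_le_W.trans hWS))
  exact (fdat_of_hyp H h h0V hWS hnot).irr_K inf_le_right
    (h0V.trans (H.comm.trans (centralizer_le H.F_le_V)))
    (H.F_le_V.trans (H.comm.trans (centralizer_le H.F_le_V))) hV2 (hyp_bad H h0V hnot) hX hn

end

end Cfsg.Agent.Omega.NO1.WRF.Irr
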