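import Cfsg.Agent.Omega.NO1.WRF.Graph
import Cfsg.Agent.Omega.NO1.WRF.OfHyp
import Cfsg.Agent.Omega.NO1.JOff

/-!
# THEOREM WRF (bb OMEGA #16078) on `FDat`, transitive families

`FDat S P E F W`, `P` without offender on `V_P`, `F ≤ FF`, `V_P ≰ O₂(C_G(FF))`:

* `FDat.wrf` : `V_P` is not the sum of `|ι| ≥ 2` subgroups permuted transitively by `P`;
* `FDat.wrf1` : the same for `V₁ = [V_P, O²(P)]`;
* `wrf_of_hyp`, `wrf1_of_hyp` : from THEOREM FLAT (`Hyp V F`, `V_P ≤ V`, `W_F ≤ S`, `V_P ≰ E_F`).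
-/

set_option autoImplicit false
set_option linter.unusedSectionVars false

namespace Cfsg.Agent.Omega.NO1.WRF.Irr

open Subgroup Cfsg Cfsg.Agent.ZN Cfsg.Agent.ZN.ChoiceBase Cfsg.Agent.Omega.MinPar Cfsg.Agent.Omega.Frame
open Cfsg.Agent.Omega.NO1 Cfsg.Agent.Omega.NO1.WRF.Single
open Cfsg.Agent.Omega.FFThm (ElemM OffM)
open Cfsg.Agent.Omega.NOne.Flat (Hyp WW)
open Cfsg.Agent.MinSimple.VModule (oddGen)

universe u v

variable {G : Type u} [Group G] [Finite G]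

/-- offenders under conjugation by `g ∈ N(V)` -/
theorem offM_cj' {V A : Subgroup G} (h : OffM V A) {g : G} (hg : g ∈ normalizer (V : Set G)) : OffM V (cj g A) := by
  have hW : cj g V = V := cj_eq_of_mem_normalizer hg
  have hc : ∀ x, x ∈ centralizer (V : Set G) → g * x * g⁻¹ ∈ centralizer (V : Set G) := by
    intro x hx
    have h1 := cj_centralizer g V
    rw [hW] at h1
    rw [← h1]
    exact ⟨x, hx, rfl⟩
  refine ⟨⟨?_, ?_⟩, fun h0 => h.ne ?_, ?_⟩
  · rintro _ ⟨a, ha, rfl⟩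
    have h1 := hc _ (h.sq a ha)
    change (g * a * g⁻¹) ^ 2 ∈ _
    have e : (g * a * g⁻¹) ^ 2 = g * a ^ 2 * g⁻¹ := by rw [pow_two, pow_two]; group
    rwa [e]
  · rintro _ ⟨a, ha, rfl⟩ _ ⟨b, hb, rfl⟩
    have h1 := hc _ (h.comm a ha b hb)
    change g * a * g⁻¹ * (g * b * g⁻¹) * (g * a * g⁻¹)⁻¹ * (g * b * g⁻¹)⁻¹ ∈ _
    have e : g * a * g⁻¹ * (g * b * g⁻¹) * (g * a * g⁻¹)⁻¹ * (g * b * g⁻¹)⁻¹ =
      g * (a * b * a⁻¹ * b⁻¹) * g⁻¹ := by group
    rwa [e]
  · rw [← hW, ← cj_centralizer, cj_le_iff, cj_inv_cj] at h0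
    exact h0
  · have e1 : cj g A ⊓ centralizer (V : Set G) = cj g (A ⊓ centralizer (V : Set G)) := by
      conv_lhs => rw [← hW, ← cj_centralizer, ← cj_inf]
    have e2 : V ⊓ centralizer (cj g A : Set G) = cj g (V ⊓ centralizer (A : Set G)) := by
      conv_lhs => rw [← hW, ← cj_centralizer, ← cj_inf]
    rw [e1, e2, card_cj, card_cj, card_cj]
    exact h.le

namespace FDat

variable {S : Sylow 2 G} {P E F W FF : Subgroup G} (h : FDat S P E F W)
include h

theorem cv {v : G} (hv : v ∈ zl (S : Subgroup G) P) (hc : ∀ g ∈ P, g * v * g⁻¹ = v) : v = 1 := by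
  have h1 : v ∈ zl (S : Subgroup G) P ⊓ centralizer (oddGen P : Set G) := by
    refine ⟨hv, mem_centralizer_iff.mpr fun x hx => ?_⟩
    rw [← mul_inv_eq_iff_eq_mul]
    exact hc x (MinSimple.VModule.oddGen_le P hx)
  rw [h.cfg.one.cen, mem_bot] at h1
  exact h1

/-- no offender on `V₁` -/
theorem noff1 (hoff : ∀ A : Subgroup G, A ≤ P → ¬ OffM (zl (S : Subgroup G) P) A) :
    ∀ A : Subgroup G, A ≤ P → ¬ OffM (V1 S P) A := by
  intro A hA ho
  obtain ⟨B, hBA, hB2, hoB⟩ := Cfsg.Agent.Omega.NO1.JMin.exists_two ho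
  obtain ⟨R, hR, hBR⟩ := ChoiceSit.exists_syl hB2 (hBA.trans hA)
  obtain ⟨p, hp, hpR⟩ := ChoiceSit.syl_conj hR h.syl
  have hX := offM_cj' hoB (h.P_norm_V1 hp)
  have hXS : cj p B ≤ (S : Subgroup G) := by
    rw [← hpR]; exact cj_mono p hBR
  set X := cj p B with hXd
  have hXC : ∀ x : G, x ∈ (S : Subgroup G) → x ∈ centralizer (V1 S P : Set G) →
      x ∈ centralizer (zl (S : Subgroup G) P : Set G) := by
    intro x hxS hx
    have h1 : zl (S : Subgroup G) P ≤ centralizer ({x} : Set G) := by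
      rw [← h.sup_eq]
      refine sup_le ?_ ?_
      · intro v hv
        rw [mem_centralizer_singleton_iff]
        exact mem_centralizer_iff.mp hx v hv
      · intro z hz
        rw [mem_centralizer_singleton_iff]
        exact ((ChoiceBase.mem_zc.1 hz).2.2 x hxS).symm
    rw [mem_centralizer_iff]
    intro v hv
    exact mem_centralizer_singleton_iff.mp (h1 hv)
  have hXP : X ≤ P := hXS.trans h.cfg.S_le
  refine hoff X hXP ⟨⟨fun a ha => hXC _ (Subgroup.pow_mem _ (hXS ha) 2) (hX.sq a ha), fun a ha b hb => hXC _ ?_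
    (hX.comm a ha b hb)⟩, fun h1 => hX.ne (h1.trans (centralizer_le h.V1_le)), ?_⟩
  · exact Subgroup.mul_mem _ (Subgroup.mul_mem _ (Subgroup.mul_mem _ (hXS ha) (hXS hb)) (Subgroup.inv_mem _ (hXS ha)))
      (Subgroup.inv_mem _ (hXS hb))
  · have e1 : X ⊓ centralizer (zl (S : Subgroup G) P : Set G) = X ⊓ centralizer (V1 S P : Set G) :=
      le_antisymm (inf_le_inf_left _ (centralizer_le h.V1_le)) (le_inf inf_le_left fun x hx => hXC x (hXS hx.1) hx.2)
    rw [e1]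
    have hZ : zc (S : Subgroup G) ≤ zl (S : Subgroup G) P ⊓ centralizer (X : Set G) := by
      refine le_inf h.cfg.Z_le_V fun z hz => mem_centralizer_iff.mpr fun x hx => ?_
      exact (ChoiceBase.mem_zc.1 hz).2.2 x (hXS hx)
    have e2 : V1 S P ⊔ (zl (S : Subgroup G) P ⊓ centralizer (X : Set G)) = zl (S : Subgroup G) P := by
      refine le_antisymm (sup_le h.V1_le inf_le_left) ?_
      conv_lhs => rw [← h.sup_eq]
      exact sup_le_sup_left hZ _
    have e3 : V1 S P ⊓ (zl (S : Subgroup G) P ⊓ centralizer (X : Set G)) = V1 S P ⊓ centralizer (X : Set G) := by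
      rw [← inf_assoc, inf_eq_left.mpr h.V1_le]
    have e4 := Cfsg.Agent.PLocal.ElemAbSup.card_sup_mul_card_inf (A := V1 S P)
      (B := zl (S : Subgroup G) P ⊓ centralizer (X : Set G))
      (inf_le_left.trans (h.cfg.V_comm.trans (centralizer_le h.V1_le)))
    rw [e2, e3] at e4
    have hpos : 0 < Nat.card ↥(V1 S P ⊓ centralizer (X : Set G)) := Nat.card_pos
    refine Nat.le_of_mul_le_mul_right ?_ hpos
    calc Nat.card (zl (S : Subgroup G) P) * Nat.card ↥(X ⊓ centralizer (V1 S P : Set G)) *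
          Nat.card ↥(V1 S P ⊓ centralizer (X : Set G))
        = Nat.card (V1 S P) * Nat.card ↥(X ⊓ centralizer (V1 S P : Set G)) *
          Nat.card ↥(zl (S : Subgroup G) P ⊓ centralizer (X : Set G)) := by
          rw [mul_right_comm, e4]; ring
      _ ≤ Nat.card X * Nat.card ↥(V1 S P ⊓ centralizer (X : Set G)) *
          Nat.card ↥(zl (S : Subgroup G) P ⊓ centralizer (X : Set G)) := Nat.mul_le_mul_right _ hX.le
      _ = _ := by ring

theorem lt1 : (E ⊓ V1 S P).relIndex (V1 S P) < (F ⊓ V1 S P).relIndex (E ⊓ V1 S P) := by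
  have hFE := h.F_le_E
  have hVn : ∀ {A B : Subgroup G}, A ≤ zl (S : Subgroup G) P → B ≤ zl (S : Subgroup G) P →
      A ≤ normalizer (B : Set G) := fun hA hB =>
    (hA.trans (h.cfg.V_comm.trans (centralizer_le hB))).trans (centralizer_le_normalizer _)
  have e1 : (E ⊓ V1 S P).relIndex (V1 S P) = E.relIndex (zl (S : Subgroup G) P) := by
    rw [inf_relIndex_right]
    have h1 := relIndex_sup_of_norm (hVn h.V1_le h.E_le_V)
    have h2 : V1 S P ⊔ E = zl (S : Subgroup G) P := by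
      refine le_antisymm (sup_le h.V1_le h.E_le_V) ?_
      conv_lhs => rw [← h.sup_eq]
      exact sup_le_sup_left (h.Z_le.trans hFE) _
    rw [h2] at h1
    exact h1.symm
  have e2 : (F ⊓ V1 S P).relIndex (E ⊓ V1 S P) = F.relIndex E := by
    have h1 := relIndex_sup_of_norm (hVn (inf_le_left.trans h.E_le_V : E ⊓ V1 S P ≤ _) h.F_le_V)
    have h2 : (E ⊓ V1 S P) ⊔ F = E := by
      refine le_antisymm (sup_le inf_le_left hFE) ?_
      intro e he
      have h3 : e ∈ V1 S P ⊔ zc (S : Subgroup G) := by rw [h.sup_eq]; exact h.E_le_V he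
      obtain ⟨v, hv, z, hz, rfl⟩ := exists_mul_of_mem_sup h.cfg.V_comm h.V1_le h.cfg.Z_le_V h3
      have hzF := h.Z_le hz
      refine mul_mem_sup ⟨?_, hv⟩ hzF
      have := E.mul_mem he (E.inv_mem (hFE hzF))
      rwa [mul_inv_cancel_right] at this
    rw [h2] at h1
    rw [h1, ← inf_relIndex_right F, ← inf_relIndex_right (F ⊓ V1 S P)]
    congr 1
    refine le_antisymm (le_inf (inf_le_left.trans inf_le_left) inf_le_right)
      (le_inf (le_inf inf_le_left (inf_le_right.trans inf_le_right)) inf_le_right)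
  rw [e1, e2]
  exact h.lt

/-- **WRF** for `V_P` -/
theorem wrf {ι : Type v} [Finite ι] [Nontrivial ι] {Vf : ι → Subgroup G}
    (hoff : ∀ A : Subgroup G, A ≤ P → ¬ OffM (zl (S : Subgroup G) P) A)
    (hFF : F ≤ FF) (hFV : zl (S : Subgroup G) P ≤ centralizer (FF : Set G))
    (hFc : FF ≤ centralizer (FF : Set G)) (hF2 : IsPGroup 2 FF)
    (hbad : ¬ zl (S : Subgroup G) P ≤ o2 (centralizer (FF : Set G)))
    (hind : iSupIndep Vf) (hsup : ⨆ i, Vf i = zl (S : Subgroup G) P)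
    (hperm : ∀ p ∈ P, ∀ i, ∃ j, cj p (Vf i) = Vf j) (htr : ∀ i j, ∃ p ∈ P, cj p (Vf i) = Vf j) : False :=
  hbad (WRF.wrf h.cfg.sit hoff h.flat h.lt (fun _ hv hc => h.cv hv hc) hind hsup hperm htr h.WP h.W2 hFV hFc hF2 hFF
    (inf_le_right.trans (h.Z_le.trans hFF)))

/-- **WRF** for `V₁` -/
theorem wrf1 {ι : Type v} [Finite ι] [Nontrivial ι] {Vf : ι → Subgroup G}
    (hoff : ∀ A : Subgroup G, A ≤ P → ¬ OffM (zl (S : Subgroup G) P) A)
    (hFF : F ≤ FF) (hFV : zl (S : Subgroup G) P ≤ centralizer (FF : Set G))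
    (hFc : FF ≤ centralizer (FF : Set G)) (hF2 : IsPGroup 2 FF)
    (hbad : ¬ zl (S : Subgroup G) P ≤ o2 (centralizer (FF : Set G)))
    (hind : iSupIndep Vf) (hsup : ⨆ i, Vf i = V1 S P)
    (hperm : ∀ p ∈ P, ∀ i, ∃ j, cj p (Vf i) = Vf j) (htr : ∀ i j, ∃ p ∈ P, cj p (Vf i) = Vf j) : False := by
  have hFo : FF ≤ o2 (centralizer (FF : Set G)) := le_o2 hFc hF2 (centralizer_le_normalizer _)
  have h1 := WRF.wrf h.sit1 (h.noff1 hoff) h.flat1 h.lt1 (fun _ hv hc => h.cv (h.V1_le hv) hc) hind hsup hperm htr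
    h.WP h.W2 (h.V1_le.trans hFV) hFc hF2 (inf_le_left.trans hFF) (inf_le_right.trans (h.Z_le.trans hFF))
  apply hbad
  rw [← h.sup_eq]
  exact sup_le h1 ((h.Z_le.trans hFF).trans hFo)

end FDat

section hyp

variable {S : Sylow 2 G} {P V F : Subgroup G} (H : Hyp V F)
include H

/-- **WRF** for `V_P`, from THEOREM FLAT -/
theorem wrf_of_hyp (h : Cfg S P) (hoff : ∀ A : Subgroup G, A ≤ P → ¬ OffM (zl (S : Subgroup G) P) A)
    (h0V : zl (S : Subgroup G) P ≤ V) (hWS : WW V F ≤ S)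
    (hnot : ¬ zl (S : Subgroup G) P ≤ NOne.Flat.EE V F) {ι : Type v} [Finite ι] [Nontrivial ι]
    {Vf : ι → Subgroup G} (hind : iSupIndep Vf) (hsup : ⨆ i, Vf i = zl (S : Subgroup G) P)
    (hperm : ∀ p ∈ P, ∀ i, ∃ j, cj p (Vf i) = Vf j) (htr : ∀ i j, ∃ p ∈ P, cj p (Vf i) = Vf j) : False := by
  have hV2 : IsPGroup 2 F := S.isPGroup'.to_le (H.F_le_E.trans (NOne.Flat.Hyp.E_le_W.trans hWS))
  exact (fdat_of_hyp H h h0V hWS hnot).wrf hoff inf_le_right
    (h0V.trans (H.comm.trans (centralizer_le H.F_le_V)))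
    (H.F_le_V.trans (H.comm.trans (centralizer_le H.F_le_V))) hV2 (hyp_bad H h0V hnot) hind hsup hperm htr

/-- **WRF** for `V₁`, from THEOREM FLAT -/
theorem wrf1_of_hyp (h : Cfg S P) (hoff : ∀ A : Subgroup G, A ≤ P → ¬ OffM (zl (S : Subgroup G) P) A)
    (h0V : zl (S : Subgroup G) P ≤ V) (hWS : WW V F ≤ S)
    (hnot : ¬ zl (S : Subgroup G) P ≤ NOne.Flat.EE V F) {ι : Type v} [Finite ι] [Nontrivial ι]
    {Vf : ι → Subgroup G} (hind : iSupIndep Vf) (hsup : ⨆ i, Vf i = V1 S P)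
    (hperm : ∀ p ∈ P, ∀ i, ∃ j, cj p (Vf i) = Vf j) (htr : ∀ i j, ∃ p ∈ P, cj p (Vf i) = Vf j) : False := by
  have hV2 : IsPGroup 2 F := S.isPGroup'.to_le (H.F_le_E.trans (NOne.Flat.Hyp.E_le_W.trans hWS))
  exact (fdat_of_hyp H h h0V hWS hnot).wrf1 hoff inf_le_right
    (h0V.trans (H.comm.trans (centralizer_le H.F_le_V)))
    (H.F_le_V.trans (H.comm.trans (centralizer_le H.F_le_V))) hV2 (hyp_bad H h0V hnot) hind hsup hperm htr

end hyp

end Cfsg.Agent.Omega.NO1.WRF.Irr
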