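import Mathlib

/-!
# Internal direct products of commuting subgroups: coordinates (THEOREM WRF, bb OMEGA 16078)

`Dec V Vf` : `V` is abelian, `V = ⨆ i, Vf i`, and the family `Vf` is independent.
`h.cd v i` = the `i`-th coordinate of `v ∈ V`.

* `cd_mem`, `cd_mul`, `cd_self`, `cd_other`, `ext`, `exists_cd`;
* `cd_conj` : if `g Vᵢ g⁻¹ = Vⱼ` and `g` permutes the family, then `(g v g⁻¹)ⱼ = g vᵢ g⁻¹`.
-/

set_option autoImplicit false

namespace Cfsg.Agent.Omega.NO1.WRF

open Subgroup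

universe u v

variable {G : Type u} [Group G] {ι : Type v}

/-- `V` is the internal direct product of the subgroups `Vf i`. -/
structure Dec (V : Subgroup G) (Vf : ι → Subgroup G) : Prop where
  comm : ∀ a ∈ V, ∀ b ∈ V, a * b = b * a
  indep : iSupIndep Vf
  sup : ⨆ i, Vf i = V

namespace Dec

variable {V : Subgroup G} {Vf : ι → Subgroup G} (h : Dec V Vf)
include h

theorem le (i : ι) : Vf i ≤ V := h.sup ▸ le_iSup Vf i

theorem commute : Pairwise fun i j : ι => ∀ x y : G, x ∈ Vf i → y ∈ Vf j → Commute x y :=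
  fun i j _ x y hx hy => h.comm x (h.le i hx) y (h.le j hy)

section cd

variable [Finite ι]

/-- the product map -/
noncomputable def hom : (∀ i, Vf i) →* G :=
  letI := Fintype.ofFinite ι
  Subgroup.noncommPiCoprod h.commute

theorem hom_inj : Function.Injective h.hom := by
  let _ := Fintype.ofFinite ι
  exact Subgroup.injective_noncommPiCoprod_of_iSupIndep h.indep

theorem hom_range : h.hom.range = V := by
  let _ := Fintype.ofFinite ι
  exact Subgroup.noncommPiCoprod_range.trans h.sup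

theorem hom_mulSingle [DecidableEq ι] (i : ι) (y : Vf i) : h.hom (Pi.mulSingle i y) = y := by
  let _ := Fintype.ofFinite ι
  exact Subgroup.noncommPiCoprod_mulSingle i y


/-- the `i`-th coordinate -/
noncomputable def cd (v : G) (i : ι) : G :=
  open Classical in if hv : ∃ f, h.hom f = v then ((hv.choose i : Vf i) : G) else 1

theorem cd_hom (f : ∀ i, Vf i) (i : ι) : h.cd (h.hom f) i = f i := by
  have hv : ∃ f', h.hom f' = h.hom f := ⟨f, rfl⟩
  rw [cd, dif_pos hv, h.hom_inj hv.choose_spec]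

theorem exists_hom {v : G} (hv : v ∈ V) : ∃ f, h.hom f = v := by
  rw [← h.hom_range] at hv
  exact hv

theorem cd_mem {v : G} (hv : v ∈ V) (i : ι) : h.cd v i ∈ Vf i := by
  obtain ⟨f, rfl⟩ := h.exists_hom hv
  rw [h.cd_hom]
  exact (f i).2

theorem cd_mul {v w : G} (hv : v ∈ V) (hw : w ∈ V) (i : ι) : h.cd (v * w) i = h.cd v i * h.cd w i := by
  obtain ⟨f, rfl⟩ := h.exists_hom hv
  obtain ⟨g, rfl⟩ := h.exists_hom hw
  rw [← map_mul, h.cd_hom, h.cd_hom, h.cd_hom]
  rfl

theorem cd_one (i : ι) : h.cd 1 i = 1 := by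
  have := h.cd_hom 1 i
  rw [map_one] at this
  exact this

theorem cd_inv {v : G} (hv : v ∈ V) (i : ι) : h.cd v⁻¹ i = (h.cd v i)⁻¹ := by
  have h1 := h.cd_mul hv (inv_mem hv) i
  rw [mul_inv_cancel, h.cd_one] at h1
  exact (inv_eq_of_mul_eq_one_right h1.symm).symm

theorem cd_self {v : G} {i : ι} (hv : v ∈ Vf i) : h.cd v i = v := by
  classical
  have h1 := h.cd_hom (Pi.mulSingle i ⟨v, hv⟩) i
  rw [h.hom_mulSingle, Pi.mulSingle_eq_same] at h1
  exact h1

theorem cd_other {v : G} {i j : ι} (hv : v ∈ Vf i) (hij : j ≠ i) : h.cd v j = 1 := by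
  classical
  have h1 := h.cd_hom (Pi.mulSingle i ⟨v, hv⟩) j
  rw [h.hom_mulSingle, Pi.mulSingle_eq_of_ne hij] at h1
  exact h1

theorem ext {v w : G} (hv : v ∈ V) (hw : w ∈ V) (hvw : ∀ i, h.cd v i = h.cd w i) : v = w := by
  obtain ⟨f, rfl⟩ := h.exists_hom hv
  obtain ⟨g, rfl⟩ := h.exists_hom hw
  congr 1
  funext i
  apply Subtype.ext
  have := hvw i
  rwa [h.cd_hom, h.cd_hom] at this

theorem exists_cd (f : ι → G) (hf : ∀ i, f i ∈ Vf i) : ∃ v ∈ V, ∀ i, h.cd v i = f i := by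
  refine ⟨h.hom fun i => ⟨f i, hf i⟩, ?_, fun i => ?_⟩
  · exact h.hom_range.le ⟨_, rfl⟩
  · rw [h.cd_hom]

theorem mem_of_cd {v : G} {i : ι} (hv : v ∈ V) (hvi : ∀ j, j ≠ i → h.cd v j = 1) : v ∈ Vf i := by
  have h1 : v = h.cd v i := by
    apply h.ext hv (h.le i (h.cd_mem hv i))
    intro j
    rcases eq_or_ne j i with rfl | hj
    · rw [h.cd_self (h.cd_mem hv j)]
    · rw [hvi j hj, h.cd_other (h.cd_mem hv i) hj]
  rw [h1]
  exact h.cd_mem hv i

/-- `g` permutes the family. -/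
theorem conj_mem {g : G} (hg : ∀ i, ∃ j, (Vf i).map (MulAut.conj g).toMonoidHom = Vf j) {v : G}
    (hv : v ∈ V) : g * v * g⁻¹ ∈ V := by
  rw [← h.sup] at hv
  refine Subgroup.iSup_induction Vf (C := fun x => g * x * g⁻¹ ∈ V) hv ?_ ?_ ?_
  · intro i x hx
    obtain ⟨j, hj⟩ := hg i
    apply h.le j
    rw [← hj]
    exact ⟨x, hx, by simp [MulAut.conj_apply]⟩
  · simp
  · intro x y hx hy
    have : g * (x * y) * g⁻¹ = (g * x * g⁻¹) * (g * y * g⁻¹) := by group
    rw [this]
    exact mul_mem hx hy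

omit [Finite ι] in
theorem inj_of_ne (hne : ∀ i, Vf i ≠ ⊥) : Function.Injective Vf := h.indep.injective hne

/-- `g` permutes the family and maps the `i`-th member to the `j`-th one: coordinates of conjugates. -/
theorem cd_conj (hne : ∀ i, Vf i ≠ ⊥) {g : G}
    (hg : ∀ i, ∃ j, (Vf i).map (MulAut.conj g).toMonoidHom = Vf j) {v : G} (hv : v ∈ V) {i j : ι}
    (hij : (Vf i).map (MulAut.conj g).toMonoidHom = Vf j) :
    h.cd (g * v * g⁻¹) j = g * h.cd v i * g⁻¹ := by
  have hinj : ∀ a b : ι, (Vf a).map (MulAut.conj g).toMonoidHom = (Vf b).map (MulAut.conj g).toMonoidHom →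
      a = b := fun a b hab => h.inj_of_ne hne (Subgroup.map_injective (MulAut.conj g).injective hab)
  have key : v ∈ V ∧ h.cd (g * v * g⁻¹) j = g * h.cd v i * g⁻¹ := by
    have hv' := hv
    rw [← h.sup] at hv'
    refine Subgroup.iSup_induction Vf (C := fun x => x ∈ V ∧ h.cd (g * x * g⁻¹) j = g * h.cd x i * g⁻¹)
      hv' ?_ ?_ ?_
    · intro k x hx
      refine ⟨h.le k hx, ?_⟩
      obtain ⟨l, hl⟩ := hg k
      have hgx : g * x * g⁻¹ ∈ Vf l := by
        rw [← hl]
        exact ⟨x, hx, by simp [MulAut.conj_apply]⟩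
      rcases eq_or_ne k i with rfl | hki
      · have hlj : l = j := h.inj_of_ne hne (by rw [← hl, hij])
        subst hlj
        rw [h.cd_self hx, h.cd_self hgx]
      · have hlj : l ≠ j := by
          rintro rfl
          exact hki (hinj _ _ (by rw [hl, hij]))
        rw [h.cd_other hx hki.symm, h.cd_other hgx hlj.symm]
        group
    · refine ⟨one_mem V, ?_⟩
      rw [h.cd_one]
      have : g * 1 * g⁻¹ = 1 := by group
      rw [this, h.cd_one]
    · rintro x y ⟨hx, h1⟩ ⟨hy, h2⟩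
      refine ⟨mul_mem hx hy, ?_⟩
      have e : g * (x * y) * g⁻¹ = (g * x * g⁻¹) * (g * y * g⁻¹) := by group
      rw [e, h.cd_mul (h.conj_mem hg hx) (h.conj_mem hg hy), h1, h2, h.cd_mul hx hy]
      group
  exact key.2

end cd

end Dec

end Cfsg.Agent.Omega.NO1.WRF
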