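import Cfsg.Agent.Omega.NO1.WRF.SingleFam
import Cfsg.Agent.Omega.FFThmM

/-!
# THEOREM WRF (bb OMEGA #16078), end of step (3): `V = V₁ × V₂`, `|V₁| = |V₂| = 4`

`four_false` : `Sit S P V`, no offender on `V`, `P` permutes `{V₁, V₂}`, `P = K S` for `K = N_P(V₁)`, there are
`a ∈ S ∩ K` and `s ∈ S - K` which commute modulo `C(V)`, `a` is nontrivial on `V`: impossible.
-/

set_option autoImplicit false
set_option linter.unusedSectionVars false

namespace Cfsg.Agent.Omega.NO1.WRF.Four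

open Subgroup Cfsg Cfsg.Agent.ZN Cfsg.Agent.ZN.ChoiceBase Cfsg.Agent.Omega.MinPar Cfsg.Agent.Omega.Frame
open Cfsg.Agent.Omega.NO1 Cfsg.Agent.Omega.NO1.WRF.Single
open Cfsg.Agent.Omega.FFThm (ElemM OffM)

universe u

/-! ### `S₃` -/

section S3

theorem s3_sq : ∀ x : Equiv.Perm (Fin 3), x ^ 3 ≠ 1 → x ^ 2 = 1 := by decide

set_option maxRecDepth 100000 in
theorem s3_mul : ∀ x y : Equiv.Perm (Fin 3), x ^ 3 ≠ 1 → y ^ 3 ≠ 1 → (x * y) ^ 3 = 1 := by decide

set_option maxRecDepth 100000 in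
theorem s3_inv : ∀ x y : Equiv.Perm (Fin 3), x ^ 3 = 1 → y ^ 3 ≠ 1 → y * x * y⁻¹ * x = 1 := by decide

set_option maxRecDepth 100000 in
theorem s3_comm : ∀ x y : Equiv.Perm (Fin 3), x ^ 3 = 1 → y ^ 3 = 1 → x * y = y * x := by decide

theorem s3_fix : ∀ x : Equiv.Perm (Fin 3), x ^ 3 ≠ 1 → ∃ i, x i = i := by decide

end S3

variable {G : Type u} [Group G]

/-- The action on the three nontrivial elements of a group of order 4. -/
theorem exists_rho {A : Subgroup G} [Finite A] (hA : Nat.card A = 4) :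
    ∃ ρ : normalizer (A : Set G) →* Equiv.Perm (Fin 3),
      (∀ n, ρ n = 1 ↔ (n : G) ∈ centralizer (A : Set G)) ∧
      ∀ n, ρ n ^ 3 ≠ 1 → ∃ v ∈ A, v ≠ 1 ∧ (n : G) * v * (n : G)⁻¹ = v := by
  classical
  have h3 : Nat.card {v : A // v ≠ 1} = 3 := by
    have := Fintype.ofFinite A
    rw [Nat.card_eq_fintype_card, Fintype.card_subtype_compl, Fintype.card_subtype_eq,
      ← Nat.card_eq_fintype_card, hA]
  have e : {v : A // v ≠ 1} ≃ Fin 3 := Finite.equivFinOfCardEq h3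
  let act (n : normalizer (A : Set G)) (v : {v : A // v ≠ 1}) : {v : A // v ≠ 1} :=
    ⟨⟨n * v.1 * (n : G)⁻¹, (mem_normalizer_iff.mp n.2 _).mp v.1.2⟩, by
      intro h
      apply v.2
      have h1 : (n : G) * v.1 * (n : G)⁻¹ = 1 := congrArg Subtype.val h
      apply Subtype.ext
      have e1 : ((v.1 : A) : G) = (n : G)⁻¹ * ((n : G) * v.1 * (n : G)⁻¹) * n := by group
      rw [e1, h1]
      simp⟩
  have hact : ∀ n v, (((act n v).1 : A) : G) = n * v.1 * (n : G)⁻¹ := fun n v => rfl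
  have hmul : ∀ m n v, act (m * n) v = act m (act n v) := by
    intro m n v
    apply Subtype.ext
    apply Subtype.ext
    rw [hact, hact, hact]
    push_cast
    group
  have hone : ∀ v, act 1 v = v := by
    intro v
    apply Subtype.ext
    apply Subtype.ext
    rw [hact]
    simp
  let A1 : MulAction (normalizer (A : Set G)) {v : A // v ≠ 1} :=
    { smul := act, one_smul := hone, mul_smul := hmul }
  let ρ₀ : normalizer (A : Set G) →* Equiv.Perm {v : A // v ≠ 1} := MulAction.toPermHom _ _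
  have hρ₀ : ∀ n v, ρ₀ n v = act n v := fun n v => rfl
  let φ : Equiv.Perm {v : A // v ≠ 1} ≃* Equiv.Perm (Fin 3) := e.permCongrHom
  refine ⟨φ.toMonoidHom.comp ρ₀, fun n => ?_, fun n hn => ?_⟩
  · rw [MonoidHom.comp_apply]
    have h1 : φ.toMonoidHom (ρ₀ n) = 1 ↔ ρ₀ n = 1 := φ.map_eq_one_iff
    rw [h1]
    constructor
    · intro h
      rw [mem_centralizer_iff]
      intro v hv
      by_cases hv1 : v = 1
      · subst hv1; simp
      · have h2 : ρ₀ n ⟨⟨v, hv⟩, fun h => hv1 (congrArg Subtype.val h)⟩ = ⟨⟨v, hv⟩, fun h => hv1 (congrArg Subtype.val h)⟩ := by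
          rw [h]; rfl
        have h3 : (n : G) * v * (n : G)⁻¹ = v := congrArg (fun w : {v : A // v ≠ 1} => ((w.1 : A) : G)) h2
        exact (mul_inv_eq_iff_eq_mul.mp h3).symm
    · intro h
      apply Equiv.ext
      intro v
      apply Subtype.ext
      apply Subtype.ext
      rw [hρ₀, hact, Equiv.Perm.one_apply]
      have h2 := mem_centralizer_iff.mp h _ v.1.2
      rw [← h2, mul_assoc, mul_inv_cancel, mul_one]
  · obtain ⟨i, hi⟩ := s3_fix _ hn
    have h1 : e (ρ₀ n (e.symm i)) = i := hi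
    have h2 : ρ₀ n (e.symm i) = e.symm i := e.injective (by rw [h1, Equiv.apply_symm_apply])
    refine ⟨((e.symm i).1 : A), (e.symm i).1.2, fun h => (e.symm i).2 (Subtype.ext h), ?_⟩
    exact congrArg (fun w : {v : A // v ≠ 1} => ((w.1 : A) : G)) h2

/-- The action on `V` as a homomorphism. -/
theorem exists_theta {P V : Subgroup G} (h : P ≤ normalizer (V : Set G)) :
    ∃ θ : P →* MulAut V, ∀ x, θ x = 1 ↔ (x : G) ∈ centralizer (V : Set G) := by
  refine ⟨(normalizerMonoidHom V).comp (inclusion h), fun x => ?_⟩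
  rw [MonoidHom.comp_apply, ← MonoidHom.mem_ker, normalizerMonoidHom_ker, mem_subgroupOf]
  rfl

/-- A 2-element of order dividing 3 is trivial. -/
theorem eq_one_of_pow {M : Type*} [Monoid M] {x : M} {n : ℕ} (h3 : x ^ 3 = 1) (h2 : x ^ (2 ^ n) = 1) : x = 1 := by
  have h4 := orderOf_dvd_of_pow_eq_one h3
  have h5 := orderOf_dvd_of_pow_eq_one h2
  have h6 : Nat.Coprime 3 (2 ^ n) := Nat.Coprime.pow_right n (by norm_num)
  exact orderOf_eq_one_iff.mp (Nat.eq_one_of_dvd_coprimes h6 h4 h5)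

/-- No central involution modulo `C(V)`. -/
theorem central_false [Finite G] {S : Sylow 2 G} {P V : Subgroup G} (hs : Sit S P V) {t : G}
    (htS : t ∈ (S : Subgroup G)) (htC : t ∉ centralizer (V : Set G))
    (hcen : ∀ p ∈ P, p * t * p⁻¹ * t⁻¹ ∈ centralizer (V : Set G)) : False := by
  have hSP : (S : Subgroup G) ≤ P := hs.par.le
  have htP := hSP htS
  set X : Subgroup G := (P ⊓ centralizer (V : Set G)) ⊔ zpowers t with hX
  have htX : t ∈ X := (le_sup_right : zpowers t ≤ X) (mem_zpowers t)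
  have hXP : X ≤ P := sup_le inf_le_left (zpowers_le.mpr htP)
  have hPX : P ≤ normalizer (X : Set G) := by
    intro p hp
    refine mem_normalizer_of_cj_le ?_
    rw [hX, cj, Subgroup.map_sup]
    refine sup_le ?_ ?_
    · refine le_trans ?_ le_sup_left
      change cj p _ ≤ _
      rw [cj_inf, cj_eq_of_mem_normalizer (le_normalizer hp), cj_centralizer,
        cj_eq_of_mem_normalizer (hs.norm hp)]
    · rw [Subgroup.map_le_iff_le_comap, zpowers_le]
      change p * t * p⁻¹ ∈ X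
      have e : p * t * p⁻¹ = p * t * p⁻¹ * t⁻¹ * t := by group
      rw [e]
      refine mul_mem ((le_sup_left : P ⊓ centralizer (V : Set G) ≤ X) ⟨?_, hcen p hp⟩) htX
      exact P.mul_mem (P.mul_mem (P.mul_mem hp htP) (P.inv_mem hp)) (P.inv_mem htP)
  rcases hs.par.sup_eq_or_inf_le S hXP hPX with h1 | h1
  · have h2 : (P ⊓ centralizer (V : Set G)) ⊔ (S : Subgroup G) = P := by
      refine le_antisymm (sup_le inf_le_left hSP) ?_
      conv_lhs => rw [← h1]
      exact sup_le (sup_le le_sup_left ((zpowers_le.mpr htS).trans le_sup_right)) le_sup_right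
    have hn : (S : Subgroup G) ≤ normalizer ((P ⊓ centralizer (V : Set G) : Subgroup G) : Set G) := by
      intro x hx
      refine mem_normalizer_of_cj_le ?_
      rw [cj_inf, cj_eq_of_mem_normalizer (le_normalizer (hSP hx)), cj_centralizer,
        cj_eq_of_mem_normalizer (hs.norm (hSP hx))]
    have h3 : V ≤ zc (S : Subgroup G) := by
      refine hs.gen _ fun p hp z hzV hz => ?_
      have hp' : p ∈ (((S : Subgroup G) ⊔ (P ⊓ centralizer (V : Set G)) : Subgroup G) : Set G) := by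
        rw [sup_comm, h2]; exact hp
      rw [coe_mul_of_left_le_normalizer_right _ _ hn] at hp'
      obtain ⟨x, hx, c, hc, rfl⟩ := hp'
      change x * c * z * (x * c)⁻¹ ∈ _
      have e1 : c * z * c⁻¹ = z := by
        rw [← mem_centralizer_iff.mp hc.2 z hzV]; group
      have e2 : x * z * x⁻¹ = z := by
        rw [(ChoiceBase.mem_zc.1 hz).2.2 x hx]; group
      have e3 : x * c * z * (x * c)⁻¹ = z := by
        calc x * c * z * (x * c)⁻¹ = x * (c * z * c⁻¹) * x⁻¹ := by group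
          _ = z := by rw [e1, e2]
      rw [e3]
      exact hz
    apply htC
    rw [mem_centralizer_iff]
    intro v hv
    exact ((ChoiceBase.mem_zc.1 (h3 hv)).2.2 t htS).symm
  · exact htC (hs.o2_le (h1 ⟨htS, htX⟩))

/-- No transvections. -/
theorem transv [Finite G] {P V A B : Subgroup G} (noff : ∀ X : Subgroup G, X ≤ P → ¬ OffM V X)
    (hA4 : Nat.card A = 4) (hB4 : Nat.card B = 4) (hsup : A ⊔ B = V) (hinf : A ⊓ B = ⊥)
    (hc : V ≤ centralizer (V : Set G)) {y : G} (hy : y ∈ P) (hyB : y ∈ centralizer (B : Set G))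
    (hyA : y ∉ centralizer (A : Set G)) (hy2 : y ^ 2 ∈ centralizer (V : Set G)) {v : G} (hv : v ∈ A)
    (hv1 : v ≠ 1) (hyv : y * v * y⁻¹ = v) : False := by
  have hAV : A ≤ V := hsup ▸ le_sup_left
  have hBV : B ≤ V := hsup ▸ le_sup_right
  have hV : Nat.card V = 16 := by
    have h1 := Cfsg.Agent.PLocal.ElemAbSup.card_sup_mul_card_inf (A := A) (B := B)
      (hBV.trans (hc.trans (centralizer_le hAV)))
    rw [hsup, hinf, hA4, hB4, Subgroup.card_bot, mul_one] at h1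
    exact h1
  have hyV : y ∉ centralizer (V : Set G) := fun h1 => hyA (centralizer_le hAV h1)
  have hD : 8 ≤ Nat.card (V ⊓ centralizer (zpowers y : Set G) : Subgroup G) := by
    have hBD : B ≤ V ⊓ centralizer (zpowers y : Set G) := by
      refine le_inf hBV ?_
      rw [Subgroup.le_centralizer_iff, zpowers_le]
      exact hyB
    have hvD : v ∈ V ⊓ centralizer (zpowers y : Set G) := by
      refine mem_inf.mpr ⟨hAV hv, ?_⟩
      have h1 : zpowers y ≤ centralizer ({v} : Set G) := by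
        rw [zpowers_le, mem_centralizer_singleton_iff]
        rw [mul_inv_eq_iff_eq_mul] at hyv
        exact hyv
      rw [mem_centralizer_iff]
      intro x hx
      exact mem_centralizer_singleton_iff.mp (h1 hx)
    have hvB : v ∉ B := fun h1 => hv1 (mem_bot.mp (hinf ▸ ⟨hv, h1⟩))
    have h1 := Subgroup.card_dvd_of_le hBD
    rw [hB4] at h1
    obtain ⟨k, hk⟩ := h1
    rcases k with _ | _ | k
    · simp only [mul_zero] at hk
      exact absurd hk Nat.card_pos.ne'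
    · exfalso
      apply hvB
      have h2 : B = V ⊓ centralizer (zpowers y : Set G) := eq_of_le_of_card_ge hBD (by rw [hk, hB4])
      rw [h2]; exact hvD
    · rw [hk]; omega
  have hE : 2 * Nat.card (zpowers y ⊓ centralizer (V : Set G) : Subgroup G) ≤ Nat.card (zpowers y) := by
    have h1 := Subgroup.card_dvd_of_le (inf_le_left : zpowers y ⊓ centralizer (V : Set G) ≤ zpowers y)
    obtain ⟨k, hk⟩ := h1
    rcases k with _ | _ | k
    · simp only [mul_zero] at hk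
      exact absurd hk Nat.card_pos.ne'
    · exfalso
      have h2 : zpowers y ⊓ centralizer (V : Set G) = zpowers y :=
        eq_of_le_of_card_ge inf_le_left (by rw [hk]; simp)
      exact hyV (inf_eq_left.mp h2 (mem_zpowers y))
    · rw [hk]
      calc 2 * Nat.card (zpowers y ⊓ centralizer (V : Set G) : Subgroup G)
          = Nat.card (zpowers y ⊓ centralizer (V : Set G) : Subgroup G) * 2 := mul_comm _ _
        _ ≤ _ := Nat.mul_le_mul_left _ (by omega)
  refine noff (zpowers y) (zpowers_le.mpr hy) ⟨⟨?_, ?_⟩, ?_, ?_⟩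
  · rintro a ⟨k, rfl⟩
    have e : (y ^ k) ^ 2 = (y ^ 2) ^ k := by
      rw [← zpow_natCast, ← zpow_mul, ← zpow_natCast, ← zpow_mul, mul_comm]
    change (y ^ k) ^ 2 ∈ _
    rw [e]
    exact Subgroup.zpow_mem _ hy2 k
  · rintro a ⟨k, rfl⟩ b ⟨l, rfl⟩
    change y ^ k * y ^ l * (y ^ k)⁻¹ * (y ^ l)⁻¹ ∈ _
    have e : y ^ k * y ^ l * (y ^ k)⁻¹ * (y ^ l)⁻¹ = 1 := by group
    rw [e]
    exact one_mem _
  · intro h1
    exact hyV (h1 (mem_zpowers y))
  · calc Nat.card V * Nat.card (zpowers y ⊓ centralizer (V : Set G) : Subgroup G)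
        = (2 * Nat.card (zpowers y ⊓ centralizer (V : Set G) : Subgroup G)) * 8 := by rw [hV]; ring
      _ ≤ _ := Nat.mul_le_mul hE hD

/-- The configuration. -/
structure Conf (S : Sylow 2 G) (P V V₁ V₂ : Subgroup G) (a s : G) : Prop where
  sit : Sit S P V
  noff : ∀ A : Subgroup G, A ≤ P → ¬ OffM V A
  card1 : Nat.card V₁ = 4
  card2 : Nat.card V₂ = 4
  sup : V₁ ⊔ V₂ = V
  inf : V₁ ⊓ V₂ = ⊥
  perm : ∀ p ∈ P, (cj p V₁ = V₁ ∧ cj p V₂ = V₂) ∨ (cj p V₁ = V₂ ∧ cj p V₂ = V₁)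
  dec : ∀ p ∈ P, ∃ k ∈ P, cj k V₁ = V₁ ∧ ∃ x ∈ (S : Subgroup G), k * x = p
  aS : a ∈ (S : Subgroup G)
  aV₁ : cj a V₁ = V₁
  aC : a ∉ centralizer (V : Set G)
  sS : s ∈ (S : Subgroup G)
  sV₁ : cj s V₁ ≠ V₁
  as : a * s * a⁻¹ * s⁻¹ ∈ centralizer (V : Set G)
  ss : s ^ 2 ∈ centralizer (V : Set G)

/-- **`|V| = 16` is impossible.** -/
theorem Conf.false [Finite G] {S : Sylow 2 G} {P V V₁ V₂ : Subgroup G} {a s : G}
    (h : Conf S P V V₁ V₂ a s) : False := by
  have hSP : (S : Subgroup G) ≤ P := h.sit.par.le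
  have hV1 : V₁ ≤ V := h.sup ▸ le_sup_left
  have hV2 : V₂ ≤ V := h.sup ▸ le_sup_right
  have hne : V₁ ≠ V₂ := by
    intro h1
    have h2 := h.inf
    rw [← h1, inf_idem] at h2
    have h3 := h.card1
    rw [h2, Subgroup.card_bot] at h3
    omega
  have hK2 : ∀ x ∈ P, cj x V₁ = V₁ → cj x V₂ = V₂ := by
    intro x hx h1
    rcases h.perm x hx with h2 | h2
    · exact h2.2
    · exact absurd (h1.symm.trans h2.1) hne
  have hcV : ∀ x : G, x ∈ centralizer (V₁ : Set G) → x ∈ centralizer (V₂ : Set G) →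
      x ∈ centralizer (V : Set G) := by
    intro x h1 h2
    have h3 : V ≤ centralizer ({x} : Set G) := by
      rw [← h.sup]
      refine sup_le ?_ ?_
      · intro v hv
        rw [mem_centralizer_singleton_iff]
        exact mem_centralizer_iff.mp h1 v hv
      · intro v hv
        rw [mem_centralizer_singleton_iff]
        exact mem_centralizer_iff.mp h2 v hv
    rw [mem_centralizer_iff]
    intro v hv
    exact mem_centralizer_singleton_iff.mp (h3 hv)
  obtain ⟨ρ₁, r1, f1⟩ := exists_rho h.card1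
  obtain ⟨ρ₂, r2, f2⟩ := exists_rho h.card2
  set K : Subgroup G := P ⊓ normalizer (V₁ : Set G) with hK
  have hK1 : K ≤ normalizer (V₁ : Set G) := inf_le_right
  have hK2' : K ≤ normalizer (V₂ : Set G) := fun x hx =>
    mem_normalizer_iff_cj.2 (hK2 x hx.1 (mem_normalizer_iff_cj.1 hx.2))
  set σ₁ : K →* Equiv.Perm (Fin 3) := ρ₁.comp (inclusion hK1) with hσ₁
  set σ₂ : K →* Equiv.Perm (Fin 3) := ρ₂.comp (inclusion hK2') with hσ₂
  have s1 : ∀ x : K, σ₁ x = 1 ↔ (x : G) ∈ centralizer (V₁ : Set G) := fun x => r1 (inclusion hK1 x)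
  have s2 : ∀ x : K, σ₂ x = 1 ↔ (x : G) ∈ centralizer (V₂ : Set G) := fun x => r2 (inclusion hK2' x)
  have g1 : ∀ x : K, σ₁ x ^ 3 ≠ 1 → ∃ v ∈ V₁, v ≠ 1 ∧ (x : G) * v * (x : G)⁻¹ = v :=
    fun x => f1 (inclusion hK1 x)
  have g2 : ∀ x : K, σ₂ x ^ 3 ≠ 1 → ∃ v ∈ V₂, v ≠ 1 ∧ (x : G) * v * (x : G)⁻¹ = v :=
    fun x => f2 (inclusion hK2' x)
  have hiff : ∀ x : K, σ₁ x ^ 3 = 1 ↔ σ₂ x ^ 3 = 1 := by
    intro x
    constructor
    · intro h1
      by_contra h2
      have e1 : (((x ^ 3 : K) : G)) ∈ centralizer (V₁ : Set G) := by rw [← s1, map_pow, h1]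
      have e2 : (((x ^ 3 : K) : G)) ∉ centralizer (V₂ : Set G) := by rwa [← s2, map_pow]
      have e3 : σ₂ (x ^ 3) ^ 3 ≠ 1 := by
        rw [map_pow]
        have h3 := s3_sq _ h2
        have e : (σ₂ x ^ 3) ^ 3 = (σ₂ x ^ 2) ^ 3 * σ₂ x ^ 3 := by group
        rw [e, h3]; simpa using h2
      obtain ⟨v, hv, hv1, hxv⟩ := g2 _ e3
      have e4 : (((x ^ 3 : K) : G)) ^ 2 ∈ centralizer (V : Set G) := by
        refine hcV _ (pow_mem e1 2) ?_
        have : (((x ^ 3 : K) : G)) ^ 2 = (((x ^ 3) ^ 2 : K) : G) := rfl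
        rw [this, ← s2, map_pow, map_pow]
        have e : (σ₂ x ^ 3) ^ 2 = (σ₂ x ^ 2) ^ 3 := by group
        rw [e, s3_sq _ h2, one_pow]
      exact transv h.noff h.card2 h.card1 (by rw [sup_comm]; exact h.sup) (by rw [inf_comm]; exact h.inf)
        h.sit.comm (x ^ 3 : K).2.1 e1 e2 e4 hv hv1 hxv
    · intro h1
      by_contra h2
      have e1 : (((x ^ 3 : K) : G)) ∈ centralizer (V₂ : Set G) := by rw [← s2, map_pow, h1]
      have e2 : (((x ^ 3 : K) : G)) ∉ centralizer (V₁ : Set G) := by rwa [← s1, map_pow]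
      have e3 : σ₁ (x ^ 3) ^ 3 ≠ 1 := by
        rw [map_pow]
        have h3 := s3_sq _ h2
        have e : (σ₁ x ^ 3) ^ 3 = (σ₁ x ^ 2) ^ 3 * σ₁ x ^ 3 := by group
        rw [e, h3]; simpa using h2
      obtain ⟨v, hv, hv1, hxv⟩ := g1 _ e3
      have e4 : (((x ^ 3 : K) : G)) ^ 2 ∈ centralizer (V : Set G) := by
        refine hcV _ ?_ (pow_mem e1 2)
        have : (((x ^ 3 : K) : G)) ^ 2 = (((x ^ 3) ^ 2 : K) : G) := rfl
        rw [this, ← s1, map_pow, map_pow]
        have e : (σ₁ x ^ 3) ^ 2 = (σ₁ x ^ 2) ^ 3 := by group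
        rw [e, s3_sq _ h2, one_pow]
      exact transv h.noff h.card1 h.card2 h.sup h.inf h.sit.comm (x ^ 3 : K).2.1 e1 e2 e4 hv hv1 hxv
  -- the elements of `S ∩ K`
  have hpw : ∀ x : G, x ∈ (S : Subgroup G) → ∃ n : ℕ, x ^ 2 ^ n = 1 := by
    intro x hx
    obtain ⟨n, hn⟩ := S.isPGroup' ⟨x, hx⟩
    exact ⟨n, congrArg Subtype.val hn⟩
  have hSK : ∀ x : K, (x : G) ∈ (S : Subgroup G) → σ₁ x ^ 3 = 1 → (x : G) ∈ centralizer (V : Set G) := by
    intro x hx h1
    have h2 := (hiff x).mp h1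
    obtain ⟨n, hn⟩ := hpw x hx
    have hn' : x ^ 2 ^ n = 1 := Subtype.ext hn
    refine hcV _ ((s1 x).mp (eq_one_of_pow (n := n) h1 ?_)) ((s2 x).mp (eq_one_of_pow (n := n) h2 ?_))
    · rw [← map_pow, hn', map_one]
    · rw [← map_pow, hn', map_one]
  have haP : a ∈ P := hSP h.aS
  have hsP : s ∈ P := hSP h.sS
  have haK : a ∈ K := ⟨haP, mem_normalizer_iff_cj.2 h.aV₁⟩
  have ha1 : σ₁ ⟨a, haK⟩ ^ 3 ≠ 1 := fun h1 => h.aC (hSK ⟨a, haK⟩ h.aS h1)
  have ha2 : σ₂ ⟨a, haK⟩ ^ 3 ≠ 1 := fun h1 => ha1 ((hiff _).mpr h1)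
  obtain ⟨θ, hθ⟩ := exists_theta h.sit.norm
  have hθ' : ∀ x y : P, θ x = θ y ↔ (x : G) * (y : G)⁻¹ ∈ centralizer (V : Set G) := by
    intro x y
    rw [← mul_inv_eq_one, ← map_inv, ← map_mul, hθ]
    rfl
  set A : P := ⟨a, haP⟩ with hA
  set B : P := ⟨s, hsP⟩ with hB
  have cAB : θ A * θ B = θ B * θ A := by
    rw [← map_mul, ← map_mul, hθ']
    have e : ((A * B : P) : G) * ((B * A : P) : G)⁻¹ = a * s * a⁻¹ * s⁻¹ := by
      change a * s * (s * a)⁻¹ = _
      group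
    rw [e]
    exact h.as
  have hBB : θ B * θ B = 1 := by
    rw [← map_mul, hθ]
    have e : ((B * B : P) : G) = s ^ 2 := by rw [pow_two]; rfl
    rw [e]
    exact h.ss
  -- the elements of `S`
  have hSel : ∀ x : P, (x : G) ∈ (S : Subgroup G) → cj (x : G) V₁ = V₁ → θ x = 1 ∨ θ x = (θ A)⁻¹ := by
    intro x hx hx1
    have hxK : (x : G) ∈ K := ⟨x.2, mem_normalizer_iff_cj.2 hx1⟩
    by_cases h1 : σ₁ ⟨x, hxK⟩ ^ 3 = 1
    · left
      rw [hθ]
      exact hSK ⟨x, hxK⟩ hx h1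
    · right
      rw [eq_inv_iff_mul_eq_one, ← map_mul, hθ]
      refine hSK (⟨x, hxK⟩ * ⟨a, haK⟩) (mul_mem hx h.aS) ?_
      rw [map_mul]
      exact s3_mul _ _ h1 ha1
  have hS' : ∀ x : P, (x : G) ∈ (S : Subgroup G) →
      θ x = 1 ∨ θ x = (θ A)⁻¹ ∨ θ x = θ B ∨ θ x = (θ A)⁻¹ * θ B := by
    intro x hx
    by_cases h1 : cj (x : G) V₁ = V₁
    · rcases hSel x hx h1 with h2 | h2
      · exact Or.inl h2
      · exact Or.inr (Or.inl h2)
    · have h2 : cj (x : G) V₂ = V₁ := ((h.perm x x.2).resolve_left fun h3 => h1 h3.1).2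
      have h3 : cj s V₁ = V₂ := ((h.perm s hsP).resolve_left fun h3 => h.sV₁ h3.1).1
      have h4 : cj ((x * B : P) : G) V₁ = V₁ := by
        change cj ((x : G) * s) V₁ = V₁
        rw [← cj_cj, h3, h2]
      have h5 := hSel (x * B) (mul_mem hx h.sS) h4
      rw [map_mul] at h5
      rcases h5 with h5 | h5
      · right; right; left
        calc θ x = θ x * (θ B * θ B) := by rw [hBB, mul_one]
          _ = (θ x * θ B) * θ B := by rw [mul_assoc]
          _ = θ B := by rw [h5, one_mul]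
      · right; right; right
        calc θ x = θ x * (θ B * θ B) := by rw [hBB, mul_one]
          _ = (θ x * θ B) * θ B := by rw [mul_assoc]
          _ = _ := by rw [h5]
  have cAB' : (θ A)⁻¹ * θ B = θ B * (θ A)⁻¹ := by
    rw [inv_mul_eq_iff_eq_mul, ← mul_assoc, cAB, mul_inv_cancel_right]
  -- the maximal subgroup
  obtain ⟨M, hMP, hM⟩ := h.sit.par.exists_max
  let L (t : P) : Subgroup G := ((centralizer ({θ t} : Set (MulAut V))).comap θ).map P.subtype
  have mL : ∀ t x : P, (x : G) ∈ L t ↔ θ x * θ t = θ t * θ x := by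
    intro t x
    constructor
    · rintro ⟨y, hy, e⟩
      have e' : y = x := Subtype.ext e
      subst e'
      exact mem_centralizer_singleton_iff.mp hy
    · intro h1
      exact ⟨x, mem_centralizer_singleton_iff.mpr h1, rfl⟩
  have LM : ∀ t : P, (t : G) ∈ (S : Subgroup G) → (t : G) ∉ centralizer (V : Set G) →
      θ A * θ t = θ t * θ A → θ B * θ t = θ t * θ B → L t ≤ M := by
    intro t htS htC h1 h2
    have hLP : L t ≤ P := map_subtype_le _
    refine hM _ ?_ (lt_of_le_of_ne hLP ?_)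
    · intro x hx
      refine (mL t ⟨x, hSP hx⟩).mpr ?_
      have h1' : (θ A)⁻¹ * θ t = θ t * (θ A)⁻¹ := by
        rw [inv_mul_eq_iff_eq_mul, ← mul_assoc, h1, mul_inv_cancel_right]
      rcases hS' ⟨x, hSP hx⟩ hx with h3 | h3 | h3 | h3
      · rw [h3, one_mul, mul_one]
      · rw [h3, h1']
      · rw [h3, h2]
      · rw [h3, mul_assoc, h2, ← mul_assoc, h1', mul_assoc]
    · intro h3
      refine central_false h.sit htS htC fun p hp => ?_
      have h4 : (p : G) ∈ L t := by rw [h3]; exact hp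
      have h5 := (mL t ⟨p, hp⟩).mp h4
      have h6 : θ (⟨p, hp⟩ * t) = θ (t * ⟨p, hp⟩) := by rw [map_mul, map_mul, h5]
      rw [hθ'] at h6
      have e : ((⟨p, hp⟩ * t : P) : G) * ((t * ⟨p, hp⟩ : P) : G)⁻¹ = p * t * p⁻¹ * (t : G)⁻¹ := by
        change p * t * (t * p)⁻¹ = _
        group
      rwa [e] at h6
  have hSM : (S : Subgroup G) ≤ M := by
    have hA1 : θ A ≠ 1 := fun h1 => h.aC ((hθ A).mp h1)
    have h1 := LM A h.aS h.aC rfl cAB.symm
    intro x hx
    apply h1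
    refine (mL A ⟨x, hSP hx⟩).mpr ?_
    rcases hS' ⟨x, hSP hx⟩ hx with h3 | h3 | h3 | h3
    · rw [h3, one_mul, mul_one]
    · rw [h3, inv_mul_cancel, mul_inv_cancel]
    · rw [h3, cAB]
    · rw [h3, cAB', mul_assoc, inv_mul_cancel, mul_one, ← mul_assoc, cAB, mul_assoc, mul_inv_cancel, mul_one]
  have hsC : s ∉ centralizer (V : Set G) := fun h1 =>
    h.sV₁ (cj_eq_of_mem_normalizer (centralizer_le_normalizer _ (centralizer_le hV1 h1)))
  have LB := LM B h.sS hsC cAB rfl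
  have LAB := LM (A * B) (mul_mem h.aS h.sS) (by
    intro h1
    have h2 : cj (a * s) V₁ = V₁ :=
      cj_eq_of_mem_normalizer (centralizer_le_normalizer _ (centralizer_le hV1 h1))
    rw [← cj_cj] at h2
    have h3 : cj a⁻¹ (cj a (cj s V₁)) = cj a⁻¹ V₁ := by rw [h2]
    rw [cj_inv_cj] at h3
    apply h.sV₁
    rw [h3]
    conv_lhs => rw [← h.aV₁, cj_inv_cj]) (by rw [map_mul, mul_assoc, ← cAB])
    (by rw [map_mul, ← mul_assoc, ← cAB])
  -- elements of `K` of order 3 modulo `C(V)`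
  have hCM : ∀ x : G, x ∈ P → x ∈ centralizer (V : Set G) → x ∈ M := by
    intro x hx hxC
    refine LB ((mL B ⟨x, hx⟩).mpr ?_)
    have h1 : θ ⟨x, hx⟩ = 1 := (hθ _).mpr hxC
    rw [h1, one_mul, mul_one]
  have hK3 : ∀ x : K, σ₁ x ^ 3 = 1 → (x : G) ∈ M := by
    intro x hx1
    have hx2 := (hiff x).mp hx1
    have hxP : (x : G) ∈ P := x.2.1
    set X : P := ⟨x, hxP⟩ with hX
    have hY : s * (x : G) * s⁻¹ ∈ K := by
      refine ⟨P.mul_mem (P.mul_mem hsP hxP) (P.inv_mem hsP), mem_normalizer_iff_cj.2 ?_⟩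
      have h3 := (h.perm s hsP).resolve_left fun h3 => h.sV₁ h3.1
      have h4 : cj s⁻¹ V₁ = V₂ := by rw [← h3.2, cj_inv_cj]
      rw [← cj_cj, ← cj_cj, h4, hK2 x hxP (mem_normalizer_iff_cj.1 x.2.2), h3.2]
    set Y : P := B * X * B⁻¹ with hYd
    have hx3 : ((x : G)) ^ 3 ∈ centralizer (V : Set G) := by
      refine hcV _ ?_ ?_
      · have : (x : G) ^ 3 = ((x ^ 3 : K) : G) := rfl
        rw [this, ← s1, map_pow, hx1]
      · have : (x : G) ^ 3 = ((x ^ 3 : K) : G) := rfl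
        rw [this, ← s2, map_pow, hx2]
    have hX3 : θ X ^ 3 = 1 := by
      rw [← map_pow, hθ]
      exact hx3
    have hY3' : θ Y ^ 3 = 1 := by
      rw [hYd, map_mul, map_mul, map_inv, conj_pow, hX3, mul_one, mul_inv_cancel]
    have hy3 : (s * (x : G) * s⁻¹) ^ 3 ∈ centralizer (V : Set G) := by
      rw [← map_pow, hθ] at hY3'
      exact hY3'
    have hy1 : σ₁ ⟨s * (x : G) * s⁻¹, hY⟩ ^ 3 = 1 := by
      rw [← map_pow, s1]
      exact centralizer_le hV1 hy3
    have hy2 := (hiff _).mp hy1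
    -- `X`, `Y` commute
    have cXY : θ X * θ Y = θ Y * θ X := by
      have h1 := s3_comm _ _ hx1 hy1
      have h2 := s3_comm _ _ hx2 hy2
      rw [← mul_inv_eq_one, ← map_mul, ← map_mul, ← map_inv, ← map_mul] at h1 h2
      rw [← mul_inv_eq_one, ← map_mul, ← map_mul, ← map_inv, ← map_mul, hθ]
      exact hcV _ ((s1 _).mp h1) ((s2 _).mp h2)
    -- `A` inverts
    have inv1 : ∀ z : K, σ₁ z ^ 3 = 1 → ∀ Z : P, (Z : G) = z → θ A * θ Z = (θ Z)⁻¹ * θ A := by
      intro z hz1 Z hZ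
      have hz2 := (hiff z).mp hz1
      have h1 := s3_inv _ _ hz1 ha1
      have h2 := s3_inv _ _ hz2 ha2
      rw [← map_mul, ← map_inv, ← map_mul, ← map_mul] at h1 h2
      have h3 : θ (A * Z * A⁻¹ * Z) = 1 := by
        rw [hθ]
        have e : ((A * Z * A⁻¹ * Z : P) : G) = ((⟨a, haK⟩ * z * ⟨a, haK⟩⁻¹ * z : K) : G) := by
          change a * (Z : G) * a⁻¹ * (Z : G) = a * (z : G) * a⁻¹ * (z : G)
          rw [hZ]
        rw [e]
        exact hcV _ ((s1 _).mp h1) ((s2 _).mp h2)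
      rw [map_mul, map_mul, map_mul, map_inv, mul_eq_one_iff_eq_inv, mul_inv_eq_iff_eq_mul] at h3
      exact h3
    have iX := inv1 x hx1 X rfl
    have iY := inv1 ⟨_, hY⟩ hy1 Y rfl
    have bX : θ B * θ X = θ Y * θ B := by
      rw [hYd, map_mul, map_mul, map_inv, inv_mul_cancel_right]
    have bY : θ B * θ Y = θ X * θ B := by
      have h1 : (θ B)⁻¹ = θ B := inv_eq_of_mul_eq_one_left hBB
      rw [hYd, map_mul, map_mul, map_inv, ← mul_assoc, ← mul_assoc, hBB, one_mul, h1]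
    have m1 : ((X * Y : P) : G) ∈ M := by
      refine LB ((mL B _).mpr ?_)
      rw [map_mul, mul_assoc, ← bX, ← mul_assoc, ← bY, mul_assoc, cXY]
    have bY' : θ B * (θ Y)⁻¹ = (θ X)⁻¹ * θ B := by
      rw [← mul_right_inj (θ X), ← mul_assoc, ← bY, mul_assoc, mul_inv_cancel, mul_inv_cancel_left, mul_one]
    have iX' : θ A * (θ X)⁻¹ = θ X * θ A := by
      rw [← mul_left_inj (θ X), mul_assoc, inv_mul_cancel, mul_one, mul_assoc, iX, mul_inv_cancel_left]
    have cXY' : (θ X)⁻¹ * θ Y = θ Y * (θ X)⁻¹ := by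
      rw [inv_mul_eq_iff_eq_mul, ← mul_assoc, cXY, mul_inv_cancel_right]
    have m2 : ((X * Y⁻¹ : P) : G) ∈ M := by
      refine LAB ((mL (A * B) _).mpr ?_)
      rw [map_mul, map_mul, map_inv]
      have e1 : θ A * θ B * (θ X * (θ Y)⁻¹) = θ X * (θ Y)⁻¹ * (θ A * θ B) := by
        calc θ A * θ B * (θ X * (θ Y)⁻¹) = θ A * (θ B * θ X) * (θ Y)⁻¹ := by group
          _ = θ A * θ Y * (θ B * (θ Y)⁻¹) := by rw [bX]; group
          _ = (θ Y)⁻¹ * (θ A * (θ X)⁻¹) * θ B := by rw [iY, bY']; group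
          _ = (θ Y)⁻¹ * θ X * (θ A * θ B) := by rw [iX']; group
          _ = θ X * (θ Y)⁻¹ * (θ A * θ B) := by
            congr 1
            rw [inv_mul_eq_iff_eq_mul, ← mul_assoc, ← cXY, mul_inv_cancel_right]
      exact e1.symm
    have m3 : ((X ^ 2 : P) : G) ∈ M := by
      have e : θ (X ^ 2) = θ (X * Y * (X * Y⁻¹)) := by
        rw [map_pow, map_mul θ (X * Y), map_mul θ X Y, map_mul θ X Y⁻¹, map_inv]
        calc θ X ^ 2 = θ X * (θ X * θ Y) * (θ Y)⁻¹ := by rw [mul_assoc, mul_inv_cancel_right, pow_two]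
          _ = θ X * (θ Y * θ X) * (θ Y)⁻¹ := by rw [cXY]
          _ = θ X * θ Y * (θ X * (θ Y)⁻¹) := by simp only [mul_assoc]
      rw [hθ'] at e
      have h1 := hCM _ (P.mul_mem (X ^ 2 : P).2 (P.inv_mem (X * Y * (X * Y⁻¹) : P).2)) e
      have h2 := M.mul_mem h1 (M.mul_mem m1 m2)
      have e2 : ((X ^ 2 : P) : G) * ((X * Y * (X * Y⁻¹) : P) : G)⁻¹ * (((X * Y : P) : G) * ((X * Y⁻¹ : P) : G)) =
          ((X ^ 2 : P) : G) := by
        have e3 : ((X * Y * (X * Y⁻¹) : P) : G) = ((X * Y : P) : G) * ((X * Y⁻¹ : P) : G) := rfl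
        rw [e3, inv_mul_cancel_right]
      rwa [e2] at h2
    have m4 : (x : G) ^ 3 ∈ M := hCM _ (pow_mem hxP 3) hx3
    have e : (x : G) = (x : G) ^ 3 * (((X ^ 2 : P) : G))⁻¹ := by
      change (x : G) = (x : G) ^ 3 * ((x : G) ^ 2)⁻¹
      group
    rw [e]
    exact M.mul_mem m4 (M.inv_mem m3)
  -- the end
  apply hMP.not_ge
  intro p hp
  obtain ⟨k, hk, hk1, x, hx, rfl⟩ := h.dec p hp
  refine M.mul_mem ?_ (hSM hx)
  have hkK : k ∈ K := ⟨hk, mem_normalizer_iff_cj.2 hk1⟩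
  by_cases h1 : σ₁ ⟨k, hkK⟩ ^ 3 = 1
  · exact hK3 ⟨k, hkK⟩ h1
  · have h2 := s3_mul _ _ h1 ha1
    rw [← map_mul] at h2
    have h3 := hK3 _ h2
    have e : k = (((⟨k, hkK⟩ * ⟨a, haK⟩ : K) : G)) * a⁻¹ := by
      change k = k * a * a⁻¹
      group
    rw [e]
    exact M.mul_mem h3 (M.inv_mem (hSM h.aS))

end Cfsg.Agent.Omega.NO1.WRF.Four
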