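import Cfsg.Agent.Omega.NO1.WRF.Two
import Cfsg.Agent.Omega.NO1.WRF.Four

/-!
# THEOREM WRF (bb OMEGA #16078): step (3) and the theorem for a transitive family

* `three` : step (3), `|O| = 2` (either the classes of `i ~ j ⟺ (i j) ∈ P^ι` give a coarser decomposition on which
  `W` moves one member only, or `P^ι` is the symmetric group, `|ι| = 2`, `|V| = 16`);
* `wrf` : a transitive decomposition `V = ⊕ Vf i`, `|ι| ≥ 2`, forces `V ≤ O₂(C_G(FF))`.
-/

set_option autoImplicit false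
set_option linter.unusedSectionVars false

namespace Cfsg.Agent.Omega.NO1.WRF

open Subgroup Cfsg Cfsg.Agent.ZN Cfsg.Agent.ZN.ChoiceBase Cfsg.Agent.Omega.MinPar Cfsg.Agent.Omega.Frame
open Cfsg.Agent.Omega.NO1 Cfsg.Agent.Omega.NO1.WRF.Single
open Cfsg.Agent.Omega.FFThm (ElemM OffM)

universe u v

variable {G : Type u} [Group G] {ι : Type v}

/-- The permutation representation. -/
theorem exists_perm {P : Subgroup G} {Vf : ι → Subgroup G} (hinj : Function.Injective Vf)
    (hperm : ∀ p ∈ P, ∀ i, ∃ j, cj p (Vf i) = Vf j) :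
    ∃ ρ : P →* Equiv.Perm ι, ∀ (p : P) (i : ι), cj (p : G) (Vf i) = Vf (ρ p i) := by
  choose f hf using fun (p : P) i => hperm p p.2 i
  have h1 : ∀ i, f 1 i = i := by
    intro i
    apply hinj
    rw [← hf, OneMemClass.coe_one, cj_one]
  have h2 : ∀ p q i, f (p * q) i = f p (f q i) := by
    intro p q i
    apply hinj
    rw [← hf, ← hf, ← hf, cj_cj]
    rfl
  let A : MulAction P ι := { smul := f, one_smul := h1, mul_smul := h2 }
  exact ⟨MulAction.toPermHom P ι, fun p i => hf p i⟩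

/-- **(3)** `|O| = 2` is impossible. -/
theorem three [Finite G] [Finite ι] {S : Sylow 2 G} {P V E F W FF : Subgroup G} {Vf : ι → Subgroup G} {i j : ι}
    {s : G} (hs : Sit S P V) (hoff : ∀ A : Subgroup G, A ≤ P → ¬ OffM V A) (h : TwoS V E F W Vf i j s)
    (hperm : ∀ p ∈ P, ∀ i, ∃ j, cj p (Vf i) = Vf j) (htr : ∀ i j, ∃ p ∈ P, cj p (Vf i) = Vf j)
    (hWP : W ≤ P) (hW2 : IsPGroup 2 W) (hFV : V ≤ centralizer (FF : Set G))
    (hFc : FF ≤ centralizer (FF : Set G)) (hF2 : IsPGroup 2 FF) (hFF : F ≤ FF)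
    (hZF : V ⊓ zc (S : Subgroup G) ≤ FF) : V ≤ o2 (centralizer (FF : Set G)) := by
  classical
  have := Fintype.ofFinite ι
  have hinj := h.dec.inj_of_ne h.ne
  have hle : ∀ k, Vf k ≤ V := h.dec.le
  have hVc : V ≤ centralizer (V : Set G) := hs.comm
  obtain ⟨ρ, hρ⟩ := exists_perm hinj hperm
  have hρ' : ∀ (p : P) (k l : ι), cj (p : G) (Vf k) = Vf l → ρ p k = l := fun p k l h1 =>
    hinj ((hρ p k).symm.trans h1)
  have hji := h.hij
  -- `s` induces the transposition
  have hsP : s ∈ P := hWP h.sW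
  have hsk : ∀ k, k ≠ i → k ≠ j → ρ ⟨s, hsP⟩ k = k := fun k h1 h2 => hρ' _ _ _ (h.map_k h.sW h1 h2)
  have hsi : ρ ⟨s, hsP⟩ i = j := hρ' _ _ _ h.sij
  have hsj : ρ ⟨s, hsP⟩ j = i := by
    by_contra h1
    by_cases h2 : ρ ⟨s, hsP⟩ j = j
    · exact hji ((ρ ⟨s, hsP⟩).injective (h2.trans hsi.symm))
    · have h3 := hsk _ h1 h2
      exact h2 ((ρ ⟨s, hsP⟩).injective h3)
  have hsw : ρ ⟨s, hsP⟩ = Equiv.swap i j := by
    apply Equiv.ext
    intro k
    by_cases hki : k = i
    · subst hki; rw [hsi, Equiv.swap_apply_left]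
    by_cases hkj : k = j
    · subst hkj; rw [hsj, Equiv.swap_apply_right]
    · rw [hsk k hki hkj, Equiv.swap_apply_of_ne_of_ne hki hkj]
  -- the relation
  let r : Setoid ι :=
    { r := fun a b => Equiv.swap a b ∈ ρ.range
      iseqv := by
        refine ⟨fun a => ?_, fun {a b} h1 => ?_, fun {a b c} h1 h2 => ?_⟩
        · rw [Equiv.swap_self]; exact one_mem _
        · rw [Equiv.swap_comm]; exact h1
        · by_cases hab : a = b
          · subst hab; exact h2
          by_cases hac : a = c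
          · subst hac; rw [Equiv.swap_self]; exact one_mem _
          have h3 := mul_mem (mul_mem h2 h1) h2
          rw [Equiv.swap_mul_swap_mul_swap hab hac, Equiv.swap_comm] at h3
          exact h3 }
  have hr : ∀ a b, r a b ↔ Equiv.swap a b ∈ ρ.range := fun a b => Iff.rfl
  have hrg : ∀ (p : P) (a b : ι), r a b → r (ρ p a) (ρ p b) := by
    intro p a b h1
    rw [hr, Equiv.swap_apply_apply]
    exact mul_mem (mul_mem ⟨p, rfl⟩ h1) (inv_mem ⟨p, rfl⟩)
  have hrij : r i j := ⟨_, hsw⟩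
  obtain ⟨a, ha, haC⟩ := h.exists_a
  by_cases hconn : ∀ a b, r a b
  · exfalso
    have hSP : (S : Subgroup G) ≤ P := hs.par.le
    set K : Subgroup G := (ρ.ker).map P.subtype with hK
    have memK : ∀ p : P, (p : G) ∈ K ↔ ρ p = 1 := by
      intro p
      constructor
      · rintro ⟨q, hq, e⟩
        have : q = p := Subtype.ext e
        subst this
        exact hq
      · intro h1
        exact ⟨p, h1, rfl⟩
    have hKP : K ≤ P := map_subtype_le _
    have hPK : P ≤ normalizer (K : Set G) := by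
      intro p hp
      refine mem_normalizer_of_cj_le ?_
      rintro _ ⟨k, hk, rfl⟩
      have hk' : k ∈ P := hKP hk
      have h1 := (memK ⟨k, hk'⟩).mp hk
      refine (memK (⟨p, hp⟩ * ⟨k, hk'⟩ * ⟨p, hp⟩⁻¹)).mpr ?_
      rw [_root_.map_mul, _root_.map_mul, h1, mul_one, _root_.map_inv, mul_inv_cancel]
    have hAK : TwoS.AA W Vf i ≤ K := by
      intro u hu
      refine (memK ⟨u, hWP hu.1⟩).mpr (Equiv.ext fun k => ?_)
      rw [Equiv.Perm.one_apply]
      apply hρ'
      by_cases hki : k = i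
      · subst hki; exact TwoS.map_of_mem hu
      by_cases hkj : k = j
      · subst hkj; exact h.map_j hu
      · exact h.map_k hu.1 hki hkj
    -- a conjugate of `W` in `S`
    have hS : ChoiceSit.Syl (S : Subgroup G) P := ⟨hSP, S.isPGroup', fun R _ hR hSR => S.is_maximal' hR hSR⟩
    obtain ⟨R, hR, hWR⟩ := ChoiceSit.exists_syl hW2 hWP
    obtain ⟨p₀, hp₀, hpR⟩ := ChoiceSit.syl_conj hR hS
    have hWS : ∀ w ∈ W, p₀ * w * p₀⁻¹ ∈ (S : Subgroup G) := by
      intro w hw
      rw [← hpR]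
      exact ⟨w, hWR hw, rfl⟩
    have hCp : ∀ x : G, x ∈ centralizer (V : Set G) → p₀ * x * p₀⁻¹ ∈ centralizer (V : Set G) := by
      intro x hx
      have h1 := cj_centralizer p₀ V
      rw [cj_eq_of_mem_normalizer (hs.norm hp₀)] at h1
      rw [← h1]
      exact ⟨x, hx, rfl⟩
    have hCp' : ∀ x : G, p₀ * x * p₀⁻¹ ∈ centralizer (V : Set G) → x ∈ centralizer (V : Set G) := by
      intro x hx
      have h1 := cj_centralizer p₀ V
      rw [cj_eq_of_mem_normalizer (hs.norm hp₀)] at h1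
      rw [← h1, mem_cj] at hx
      have e : p₀⁻¹ * (p₀ * x * p₀⁻¹) * p₀ = x := by group
      rwa [e] at hx
    have haK' : p₀ * a * p₀⁻¹ ∈ K := by
      have h1 := cj_eq_of_mem_normalizer (hPK hp₀)
      rw [← h1]
      exact ⟨a, hAK ha, rfl⟩
    rcases hs.par.sup_eq_or_inf_le S hKP hPK with h1 | h1
    swap
    · exact haC (hCp' a (hs.o2_le (h1 ⟨hWS a ha.1, haK'⟩)))
    have hdec : ∀ p ∈ P, ∃ k ∈ K, ∃ x ∈ (S : Subgroup G), k * x = p := by
      intro p hp
      have h2 : p ∈ (((S : Subgroup G) ⊔ K : Subgroup G) : Set G) := by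
        rw [sup_comm, h1]; exact hp
      rw [coe_mul_of_left_le_normalizer_right _ _ (hSP.trans hPK)] at h2
      obtain ⟨x, hx, k, hk, rfl⟩ := h2
      refine ⟨x * k * x⁻¹, (mem_normalizer_iff.mp (hPK (hSP hx)) k).mp hk, x, hx, ?_⟩
      change x * k * x⁻¹ * x = x * k
      group
    -- `ι = {i, j}`
    have hι : ∀ k, k ≠ i → k = j := by
      intro k hki
      by_contra hkj
      have h3 : (Equiv.swap i j * Equiv.swap i k).IsThreeCycle :=
        Equiv.Perm.isThreeCycle_swap_mul_swap_same (Ne.symm hji) (Ne.symm hki) (Ne.symm hkj)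
      obtain ⟨p, hp⟩ : Equiv.swap i j * Equiv.swap i k ∈ ρ.range := mul_mem (hconn i j) (hconn i k)
      obtain ⟨k', hk', x, hx, hkx⟩ := hdec p p.2
      have h4 : ρ ⟨x, hSP hx⟩ = Equiv.swap i j * Equiv.swap i k := by
        rw [← hp]
        have e : p = ⟨k', hKP hk'⟩ * ⟨x, hSP hx⟩ := Subtype.ext hkx.symm
        rw [e, _root_.map_mul, (memK ⟨k', hKP hk'⟩).mp hk', one_mul]
      have h5 : (Equiv.swap i j * Equiv.swap i k) ^ 3 = 1 := by
        rw [← h3.orderOf]; exact pow_orderOf_eq_one _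
      obtain ⟨n, hn⟩ := S.isPGroup' ⟨x, hx⟩
      have hn1 : x ^ 2 ^ n = 1 := congrArg Subtype.val hn
      have hn' : (⟨x, hSP hx⟩ : P) ^ 2 ^ n = 1 := Subtype.ext hn1
      have h6 := Four.eq_one_of_pow (n := n) h5 (by rw [← h4, ← map_pow, hn', map_one])
      have h7 := h3.orderOf
      rw [h6, orderOf_one] at h7
      omega
    have hsup : Vf i ⊔ Vf j = V := by
      refine le_antisymm (sup_le (hle i) (hle j)) ?_
      rw [← h.dec.sup]
      refine iSup_le fun k => ?_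
      by_cases hki : k = i
      · subst hki; exact le_sup_left
      · rw [hι k hki]; exact le_sup_right
    have hinf : Vf i ⊓ Vf j = ⊥ := (h.dec.indep.pairwiseDisjoint (Ne.symm hji)).eq_bot
    have hcard := h.card_four
    have hcard2 : Nat.card (Vf j) = 4 := by
      rw [← h.sij]
      have := card_cj s (Vf i)
      rw [hcard] at this
      exact this
    have hfix : ∀ p : P, (ρ p i = i ∧ ρ p j = j) ∨ (ρ p i = j ∧ ρ p j = i) := by
      intro p
      by_cases h2 : ρ p i = i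
      · left
        refine ⟨h2, hι _ fun h3 => hji ((ρ p).injective (h3.trans h2.symm))⟩
      · right
        have h3 := hι _ h2
        refine ⟨h3, ?_⟩
        by_contra h4
        exact hji ((ρ p).injective ((hι _ h4).trans h3.symm))
    have hcomm : ∀ u ∈ W, ∀ t ∈ W, u * t * u⁻¹ * t⁻¹ ∈ centralizer (V : Set G) :=
      (h.flat.elemM le_rfl).comm
    have hsq : ∀ u ∈ W, u ^ 2 ∈ centralizer (V : Set G) := (h.flat.elemM le_rfl).sq
    refine Four.Conf.false (S := S) (P := P) (V := V) (V₁ := Vf i) (V₂ := Vf j) (a := p₀ * a * p₀⁻¹)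
      (s := p₀ * s * p₀⁻¹) ⟨hs, hoff, hcard, hcard2, hsup, hinf, ?_, ?_, hWS a ha.1, ?_, ?_, hWS s h.sW, ?_, ?_, ?_⟩
    · intro p hp
      rcases hfix ⟨p, hp⟩ with ⟨h2, h3⟩ | ⟨h2, h3⟩
      · left
        exact ⟨by rw [hρ ⟨p, hp⟩, h2], by rw [hρ ⟨p, hp⟩, h3]⟩
      · right
        exact ⟨by rw [hρ ⟨p, hp⟩, h2], by rw [hρ ⟨p, hp⟩, h3]⟩
    · intro p hp
      obtain ⟨k, hk, x, hx, hkx⟩ := hdec p hp
      refine ⟨k, hKP hk, ?_, x, hx, hkx⟩
      rw [hρ ⟨k, hKP hk⟩, (memK ⟨k, hKP hk⟩).mp hk, Equiv.Perm.one_apply]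
    · rw [hρ ⟨_, hKP haK'⟩, (memK ⟨_, hKP haK'⟩).mp haK', Equiv.Perm.one_apply]
    · exact fun h2 => haC (hCp' a h2)
    · intro h2
      have h3 : ρ ⟨p₀ * s * p₀⁻¹, P.mul_mem (P.mul_mem hp₀ hsP) (P.inv_mem hp₀)⟩ i = i := hρ' _ _ _ h2
      have e : (⟨p₀ * s * p₀⁻¹, P.mul_mem (P.mul_mem hp₀ hsP) (P.inv_mem hp₀)⟩ : P) =
        ⟨p₀, hp₀⟩ * ⟨s, hsP⟩ * ⟨p₀, hp₀⟩⁻¹ := rfl
      rw [e, _root_.map_mul, _root_.map_mul, _root_.map_inv, Equiv.Perm.mul_apply, Equiv.Perm.mul_apply] at h3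
      set l := (ρ ⟨p₀, hp₀⟩)⁻¹ i with hl
      have h4 : ρ ⟨s, hsP⟩ l = l := by
        apply (ρ ⟨p₀, hp₀⟩).injective
        rw [h3, hl, ← Equiv.Perm.mul_apply, mul_inv_cancel, Equiv.Perm.one_apply]
      by_cases hli : l = i
      · rw [hli, hsi] at h4; exact hji h4
      · rw [hι l hli, hsj] at h4; exact hji h4.symm
    · have e : p₀ * a * p₀⁻¹ * (p₀ * s * p₀⁻¹) * (p₀ * a * p₀⁻¹)⁻¹ * (p₀ * s * p₀⁻¹)⁻¹ =
          p₀ * (a * s * a⁻¹ * s⁻¹) * p₀⁻¹ := by group
      rw [e]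
      exact hCp _ (hcomm a ha.1 s h.sW)
    · rw [conj_pow]
      exact hCp _ (hsq s h.sW)
  · -- the coarser decomposition
    push Not at hconn
    let κ := Quotient r
    let Wf : κ → Subgroup G := fun c => Vs Vf {k | (Quotient.mk r k) = c}
    have hκ : Nontrivial κ := by
      obtain ⟨a, b, hab⟩ := hconn
      exact ⟨Quotient.mk r a, Quotient.mk r b, fun h1 => hab (Quotient.exact h1)⟩
    have hmkeq : ∀ a b : ι, Quotient.mk r a = Quotient.mk r b ↔ r a b := fun a b => Quotient.eq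
    have hWfV : ∀ c, Wf c ≤ V := fun c => Vs_le fun k _ => hle k
    have hmv : ∀ (p : P) (k : ι), cj (p : G) (Wf (Quotient.mk r k)) ≤ Wf (Quotient.mk r (ρ p k)) := by
      intro p k
      refine cj_Vs_le fun l hl => ⟨ρ p l, ?_, hρ p l⟩
      have h1 : r l k := (hmkeq l k).mp hl
      exact (hmkeq _ _).mpr (hrg p l k h1)
    have hmv' : ∀ (p : P) (k : ι), cj (p : G) (Wf (Quotient.mk r k)) = Wf (Quotient.mk r (ρ p k)) := by
      intro p k
      refine le_antisymm (hmv p k) ?_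
      have h1 := hmv p⁻¹ (ρ p k)
      rw [_root_.map_inv, ← Equiv.Perm.mul_apply, inv_mul_cancel, Equiv.Perm.one_apply] at h1
      have h2 := cj_mono (p : G) h1
      have e : ((p⁻¹ : P) : G) = (p : G)⁻¹ := rfl
      rwa [e, cj_cj_inv] at h2
    have hij' : ∀ (c : κ), c ≠ Quotient.mk r i → ∀ k, Quotient.mk r k = c → Vf k ≤ F := by
      intro c hc k hk
      refine h.hF k ?_ ?_
      · rintro rfl; exact hc hk.symm
      · rintro rfl
        apply hc
        rw [← hk]
        exact ((hmkeq _ _).mpr hrij).symm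
    refine single_fam (ι := κ) (Vf := Wf) hs ?_ ?_ ?_ ?_ hWP hW2 ?_ (i₀ := Quotient.mk r i) ?_ hFV hFc hF2 ?_ hZF
    · intro c
      rw [disjoint_iff, eq_bot_iff, ← Vs_inf_Vs hVc hle h.dec.indep
        (I := {k | Quotient.mk r k = c}) (J := {k | Quotient.mk r k ≠ c}) (by
          rw [Set.disjoint_left]; intro k hk hk'; exact hk' hk)]
      refine inf_le_inf_left _ (iSup₂_le fun d hd => Vs_le fun k hk => le_Vs ?_)
      intro h1
      apply hd
      rw [← h1]
      exact hk.symm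
    · refine le_antisymm (iSup_le hWfV) ?_
      rw [← h.dec.sup]
      refine iSup_le fun k => ?_
      exact (le_Vs (Vf := Vf) (I := {l | Quotient.mk r l = Quotient.mk r k}) rfl).trans
        (le_iSup Wf (Quotient.mk r k))
    · intro p hp c
      induction c using Quotient.inductionOn with
      | h k => exact ⟨_, hmv' ⟨p, hp⟩ k⟩
    · intro c d
      induction c using Quotient.inductionOn with
      | h k =>
        induction d using Quotient.inductionOn with
        | h l =>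
          obtain ⟨p, hp, hpkl⟩ := htr k l
          refine ⟨p, hp, ?_⟩
          rw [hmv' ⟨p, hp⟩ k, hρ' ⟨p, hp⟩ k l hpkl]
    · exact fun h1 => haC (h1 ha.1)
    · intro c hc
      rw [Subgroup.le_centralizer_iff]
      refine Vs_le fun k hk => ?_
      refine (hij' c hc k hk).trans ?_
      rw [h.flat.F_eq]
      exact inf_le_right
    · intro c hc
      exact Vs_le fun k hk => (hij' c hc k hk).trans hFF

/-- **THEOREM WRF**, transitive case. -/
theorem wrf [Finite G] [Finite ι] [Nontrivial ι] {S : Sylow 2 G} {P V E F W FF : Subgroup G}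
    {Vf : ι → Subgroup G} (hs : Sit S P V) (hoff : ∀ A : Subgroup G, A ≤ P → ¬ OffM V A)
    (h : FlatM V E F W) (hlt : E.relIndex V < F.relIndex E)
    (hcv : ∀ v ∈ V, (∀ g ∈ P, g * v * g⁻¹ = v) → v = 1)
    (hind : iSupIndep Vf) (hsup : ⨆ i, Vf i = V)
    (hperm : ∀ p ∈ P, ∀ i, ∃ j, cj p (Vf i) = Vf j) (htr : ∀ i j, ∃ p ∈ P, cj p (Vf i) = Vf j)
    (hWP : W ≤ P) (hW2 : IsPGroup 2 W) (hFV : V ≤ centralizer (FF : Set G))
    (hFc : FF ≤ centralizer (FF : Set G)) (hF2 : IsPGroup 2 FF) (hFF : F ≤ FF)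
    (hZF : V ⊓ zc (S : Subgroup G) ≤ FF) : V ≤ o2 (centralizer (FF : Set G)) := by
  have hVc : ∀ a ∈ V, ∀ b ∈ V, a * b = b * a := fun a ha b hb => mem_centralizer_iff.mp (hs.comm hb) a ha
  have hD : Dec V Vf := ⟨hVc, hind, hsup⟩
  have hle := hD.le
  have hPW : Perm W Vf := fun w hw i => hperm w (hWP hw) i
  have hne : ∀ k, Vf k ≠ ⊥ := by
    intro k hk
    apply h.ne'
    have h1 : V ≤ ⊥ := by
      rw [← hsup]
      refine iSup_le fun l => ?_
      obtain ⟨p, -, hp⟩ := htr k l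
      rw [← hp, hk, cj, Subgroup.map_bot]
    exact h1.trans bot_le
  have hinj := hD.inj_of_ne hne
  obtain ⟨i, hi, hiF⟩ := h.one hD hPW hne
  rcases h.two' hD hPW hne (P := P) (fun p hp k => hperm p hp k) (fun k l => htr k l) hcv i with h1 | ⟨j, hji, hrel, h1⟩
  · -- `W` fixes `Vf i`
    have hjF : ∀ j, j ≠ i → Vf j ≤ F := by
      intro j hj
      refine hiF j fun h2 => ?_
      obtain ⟨s, hs, h3⟩ := h2
      rw [h1 s hs] at h3
      exact hj (hinj h3).symm
    refine single_fam hs hind hsup hperm htr hWP hW2 ?_ (i₀ := i) ?_ hFV hFc hF2 (fun j hj => (hjF j hj).trans hFF) hZF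
    · intro h2
      apply h.ne
      rw [h.F_eq]
      refine le_inf h.le (h.le.trans ?_)
      rw [Subgroup.le_centralizer_iff]
      exact h2
    · intro j hj
      rw [Subgroup.le_centralizer_iff]
      refine (hjF j hj).trans ?_
      rw [h.F_eq]
      exact inf_le_right
  · obtain ⟨s, hsW, hsij⟩ := hrel
    have hV2 : IsPGroup 2 V := S.isPGroup'.to_le hs.le
    refine three hs hoff (i := i) (j := j) (s := s) (E := E) (F := F) ⟨h, hD, hPW, hne, hlt, hji, hsW, hsij, h1, hi,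
      ?_, fun A hA => hoff A (hA.trans hWP), hV2⟩ hperm htr hWP hW2 hFV hFc hF2 hFF hZF
    intro k hki hkj
    refine hiF k fun h2 => ?_
    obtain ⟨t, ht, h3⟩ := h2
    rcases h1 t ht with h4 | h4
    · rw [h4] at h3; exact hki (hinj h3).symm
    · rw [h4] at h3; exact hkj (hinj h3).symm

end Cfsg.Agent.Omega.NO1.WRF
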