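import Cfsg.Agent.Omega.NO1.WRF.SingleFam

/-!
# THEOREM WRF (bb OMEGA #16078), step (5): `V` is an indecomposable module for `K = ⟨W^P⟩`

`Dat P V W` : `V` is abelian, normalised by `P ≥ W`; whenever `V = X × Y` with `X`, `Y` normalised by `W`, then `W`
centralises `X` or `Y` (this is step (1) for two summands); `C_V(K) = 1`.

* `Dat.exists_fam` : if `V = X × Y`, both normalised by `K` and nontrivial, then `V = ⊕ Vf i` (`|ι| ≥ 2`) with the
  `Vf i` permuted transitively by `P`, and `W` centralises all but one of them;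
* `indec` : with `Sit S P V` and `C_V(W) ≤ FF` : `V ≤ O₂(C_G(FF))`.
-/

set_option autoImplicit false
set_option linter.unusedSectionVars false

namespace Cfsg.Agent.Omega.NO1.WRF.Indec

open Subgroup Cfsg Cfsg.Agent.ZN Cfsg.Agent.ZN.ChoiceBase Cfsg.Agent.Omega.MinPar Cfsg.Agent.Omega.Frame
open Cfsg.Agent.Omega.NO1 Cfsg.Agent.Omega.NO1.WRF.Single

universe u

variable {G : Type u} [Group G]

/-- `⟨W^P⟩` -/
def KW (P W : Subgroup G) : Subgroup G := ⨆ p ∈ P, cj p W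

variable {P V W X Y X' Y' : Subgroup G}

theorem cj_le_KW {p : G} (hp : p ∈ P) : cj p W ≤ KW P W := le_biSup (fun p => cj p W) hp

theorem KW_le {X : Subgroup G} (h : ∀ p ∈ P, cj p W ≤ X) : KW P W ≤ X := iSup₂_le h

theorem le_KW : W ≤ KW P W := by
  have h := cj_le_KW (P := P) (W := W) (one_mem P)
  rwa [cj_one] at h

theorem cj_bot (p : G) : cj p (⊥ : Subgroup G) = ⊥ := Subgroup.map_bot _

theorem cj_KW {p : G} (hp : p ∈ P) : cj p (KW P W) ≤ KW P W := by
  rw [KW, cj, Subgroup.map_iSup]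
  refine iSup_le fun q => ?_
  rw [Subgroup.map_iSup]
  refine iSup_le fun hq => ?_
  change cj p (cj q W) ≤ _
  rw [cj_cj]
  exact cj_le_KW (mul_mem hp hq)

theorem cj_KW_eq {p : G} (hp : p ∈ P) : cj p (KW P W) = KW P W := by
  refine le_antisymm (cj_KW hp) ?_
  have h := cj_mono p (cj_KW (W := W) (inv_mem hp))
  rwa [cj_cj_inv] at h

/-- `V = X × Y`, both normalised by `K`. -/
structure Dec (K V X Y : Subgroup G) : Prop where
  sup : X ⊔ Y = V
  inf : X ⊓ Y = ⊥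
  nX : K ≤ normalizer (X : Set G)
  nY : K ≤ normalizer (Y : Set G)

namespace Dec

variable {K : Subgroup G}

theorem symm (d : Dec K V X Y) : Dec K V Y X :=
  ⟨by rw [sup_comm]; exact d.sup, by rw [inf_comm]; exact d.inf, d.nY, d.nX⟩

theorem X_le (d : Dec K V X Y) : X ≤ V := d.sup ▸ le_sup_left
theorem Y_le (d : Dec K V X Y) : Y ≤ V := d.sup ▸ le_sup_right

theorem mono {K' : Subgroup G} (d : Dec K V X Y) (h : K' ≤ K) : Dec K' V X Y :=
  ⟨d.sup, d.inf, h.trans d.nX, h.trans d.nY⟩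

theorem uniq (d : Dec K V X Y) {x x' y y' : G} (hx : x ∈ X) (hx' : x' ∈ X) (hy : y ∈ Y) (hy' : y' ∈ Y)
    (h : x * y = x' * y') : x = x' ∧ y = y' := by
  have h1 : x'⁻¹ * x = y' * y⁻¹ := by
    calc x'⁻¹ * x = x'⁻¹ * (x * y) * y⁻¹ := by group
      _ = x'⁻¹ * (x' * y') * y⁻¹ := by rw [h]
      _ = y' * y⁻¹ := by group
  have h2 : x'⁻¹ * x ∈ X ⊓ Y := ⟨X.mul_mem (X.inv_mem hx') hx, by rw [h1]; exact Y.mul_mem hy' (Y.inv_mem hy)⟩
  rw [d.inf, mem_bot] at h2
  have h3 : x = x' := (inv_mul_eq_one.mp h2).symm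
  refine ⟨h3, ?_⟩
  rw [h3] at h
  exact mul_left_cancel h

theorem exists_mul (d : Dec K V X Y) (hVc : V ≤ centralizer (V : Set G)) {v : G} (hv : v ∈ V) :
    ∃ x ∈ X, ∃ y ∈ Y, x * y = v := exists_mul_of_mem_sup hVc d.X_le d.Y_le (d.sup ▸ hv)

/-- An element of `K` which fixes `x y` fixes `x` and `y`. -/
theorem fix (d : Dec K V X Y) {k x y : G} (hk : k ∈ K) (hx : x ∈ X) (hy : y ∈ Y) (h : k * (x * y) = x * y * k) :
    k * x = x * k ∧ k * y = y * k := by
  have h1 : k * x * k⁻¹ ∈ X := (mem_normalizer_iff.mp (d.nX hk) x).mp hx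
  have h2 : k * y * k⁻¹ ∈ Y := (mem_normalizer_iff.mp (d.nY hk) y).mp hy
  have h3 : k * x * k⁻¹ * (k * y * k⁻¹) = x * y := by
    calc k * x * k⁻¹ * (k * y * k⁻¹) = k * (x * y) * k⁻¹ := by group
      _ = x * y * k * k⁻¹ := by rw [h]
      _ = x * y := by group
  obtain ⟨h4, h5⟩ := d.uniq h1 hx h2 hy h3
  refine ⟨?_, ?_⟩
  · calc k * x = k * x * k⁻¹ * k := by group
      _ = x * k := by rw [h4]
  · calc k * y = k * y * k⁻¹ * k := by group
      _ = y * k := by rw [h5]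

end Dec

variable [Finite G]

theorem Dec.conj (d : Dec (KW P W) V X Y) (hPV : P ≤ normalizer (V : Set G)) {p : G} (hp : p ∈ P) :
    Dec (KW P W) V (cj p X) (cj p Y) := by
  refine ⟨?_, ?_, ?_, ?_⟩
  · rw [← Subgroup.map_sup, d.sup]
    exact cj_eq_of_mem_normalizer (hPV hp)
  · rw [← cj_inf, d.inf, cj_bot]
  · rw [← cj_normalizer, ← cj_KW_eq (W := W) hp]
    exact cj_mono p d.nX
  · rw [← cj_normalizer, ← cj_KW_eq (W := W) hp]
    exact cj_mono p d.nY

/-- the hypotheses of step (5) -/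
structure Dat (P V W : Subgroup G) : Prop where
  comm : V ≤ centralizer (V : Set G)
  norm : P ≤ normalizer (V : Set G)
  two : ∀ X Y : Subgroup G, Dec W V X Y → W ≤ centralizer (X : Set G) ∨ W ≤ centralizer (Y : Set G)
  cen : V ⊓ centralizer (KW P W : Set G) = ⊥

namespace Dat

variable (h : Dat P V W)
include h

/-- every conjugate of `W` centralises `X` or `Y` -/
theorem two' (d : Dec (KW P W) V X Y) {p : G} (hp : p ∈ P) :
    cj p W ≤ centralizer (X : Set G) ∨ cj p W ≤ centralizer (Y : Set G) := by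
  have h1 := h.two _ _ ((d.conj h.norm (inv_mem hp)).mono le_KW)
  refine h1.imp (fun h2 => ?_) (fun h2 => ?_)
  · have h3 := cj_mono p h2
    rwa [cj_centralizer, cj_cj_inv] at h3
  · have h3 := cj_mono p h2
    rwa [cj_centralizer, cj_cj_inv] at h3

/-- `v ∈ Y` if `v` is fixed by the conjugates which do not centralise `X` -/
theorem mem_Y (d : Dec (KW P W) V X Y) {v : G} (hv : v ∈ V)
    (hf : ∀ p ∈ P, ¬ cj p W ≤ centralizer (X : Set G) → ∀ w ∈ cj p W, w * v = v * w) : v ∈ Y := by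
  obtain ⟨x, hx, y, hy, rfl⟩ := d.exists_mul h.comm hv
  have h1 : KW P W ≤ centralizer ({x} : Set G) := by
    refine KW_le fun p hp => ?_
    by_cases hc : cj p W ≤ centralizer (X : Set G)
    · intro w hw
      rw [mem_centralizer_singleton_iff]
      exact (mem_centralizer_iff.mp (hc hw) x hx).symm
    · intro w hw
      rw [mem_centralizer_singleton_iff]
      exact (d.fix (cj_le_KW hp hw) hx hy (hf p hp hc w hw)).1
  have h2 : x ∈ V ⊓ centralizer (KW P W : Set G) := by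
    refine ⟨d.X_le hx, mem_centralizer_iff.mpr fun k hk => ?_⟩
    exact mem_centralizer_singleton_iff.mp (h1 hk)
  rw [h.cen, mem_bot] at h2
  subst h2
  rwa [one_mul]

/-- refinement -/
theorem ref (d : Dec (KW P W) V X Y) (d' : Dec (KW P W) V X' Y') : X ≤ (X ⊓ X') ⊔ (X ⊓ Y') := by
  intro x hx
  obtain ⟨x', hx', y', hy', rfl⟩ := d'.exists_mul h.comm (d.X_le hx)
  have hfix : ∀ p ∈ P, ¬ cj p W ≤ centralizer (Y : Set G) → ∀ w ∈ cj p W, w * x' = x' * w ∧ w * y' = y' * w := by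
    intro p hp hc w hw
    have h1 := (h.two' d hp).resolve_right hc
    exact d'.fix (cj_le_KW hp hw) hx' hy' (mem_centralizer_iff.mp (h1 hw) _ hx).symm
  refine mul_mem_sup ⟨?_, hx'⟩ ⟨?_, hy'⟩
  · exact h.mem_Y d.symm (d'.X_le hx') fun p hp hc w hw => (hfix p hp hc w hw).1
  · exact h.mem_Y d.symm (d'.Y_le hy') fun p hp hc w hw => (hfix p hp hc w hw).2

theorem dec_inf (d : Dec (KW P W) V X Y) (d' : Dec (KW P W) V X' Y') :
    Dec (KW P W) V (X ⊓ X') ((X ⊓ Y') ⊔ Y) := by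
  refine ⟨?_, ?_, ?_, ?_⟩
  · rw [← sup_assoc, ← d.sup]
    exact le_antisymm (sup_le_sup_right (sup_le inf_le_left inf_le_left) _) (sup_le_sup_right (h.ref d d') _)
  · rw [eq_bot_iff]
    rintro a ⟨⟨ha, ha'⟩, hb⟩
    obtain ⟨b, hb, y, hy, e⟩ := exists_mul_of_mem_sup h.comm (inf_le_left.trans d.X_le) d.Y_le hb
    obtain ⟨e1, -⟩ := d.uniq hb.1 ha hy (one_mem Y) (by rw [e, mul_one])
    have h1 : a ∈ X' ⊓ Y' := ⟨ha', e1 ▸ hb.2⟩
    rwa [d'.inf] at h1
  · intro k hk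
    refine mem_normalizer_of_cj_le ?_
    rw [cj_inf, cj_eq_of_mem_normalizer (d.nX hk), cj_eq_of_mem_normalizer (d'.nX hk)]
  · intro k hk
    refine mem_normalizer_of_cj_le ?_
    rw [cj, Subgroup.map_sup]
    refine sup_le_sup ?_ (cj_eq_of_mem_normalizer (d.nY hk)).le
    change cj k (X ⊓ Y') ≤ _
    rw [cj_inf, cj_eq_of_mem_normalizer (d.nX hk), cj_eq_of_mem_normalizer (d'.nY hk)]

/-- a minimal summand -/
theorem exists_min (d : Dec (KW P W) V X Y) (hX : X ≠ ⊥) :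
    ∃ X₀ Y₀, Dec (KW P W) V X₀ Y₀ ∧ X₀ ≠ ⊥ ∧ X₀ ≤ X ∧
      ∀ X' Y', Dec (KW P W) V X' Y' → X' ≤ X₀ → X' ≠ ⊥ → X' = X₀ := by
  obtain ⟨X₀, hmin⟩ := (Set.toFinite {Z : Subgroup G | (∃ Y, Dec (KW P W) V Z Y) ∧ Z ≠ ⊥ ∧ Z ≤ X}).exists_minimal
    ⟨X, ⟨Y, d⟩, hX, le_rfl⟩
  obtain ⟨⟨⟨Y₀, d₀⟩, h1, h2⟩, h3⟩ := hmin
  exact ⟨X₀, Y₀, d₀, h1, h2, fun X' Y' d' hle hne => le_antisymm hle (h3 ⟨⟨Y', d'⟩, hne, hle.trans h2⟩ hle)⟩

/-- **the family of the conjugates of a minimal summand** -/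
theorem exists_fam (d : Dec (KW P W) V X Y) (hX : X ≠ ⊥) (hY : Y ≠ ⊥) :
    ∃ (ι : Type u) (_ : Finite ι) (_ : Nontrivial ι) (Vf : ι → Subgroup G) (i₀ : ι), iSupIndep Vf ∧ ⨆ i, Vf i = V ∧
      (∀ p ∈ P, ∀ i, ∃ j, cj p (Vf i) = Vf j) ∧ (∀ i j, ∃ p ∈ P, cj p (Vf i) = Vf j) ∧
      ∀ j, j ≠ i₀ → W ≤ centralizer (Vf j : Set G) := by
  obtain ⟨X₀, Y₀, d₀, hX₀, hX₀X, hmin⟩ := h.exists_min d hX
  -- `X₀ < V`
  have hX₀V : X₀ ≠ V := by
    intro e
    apply hY
    rw [eq_bot_iff, ← d.inf]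
    refine le_inf ?_ le_rfl
    exact d.Y_le.trans (e ▸ hX₀X)
  -- two conjugates
  have hconj : ∀ p ∈ P, ∀ q ∈ P, cj p X₀ ≠ cj q X₀ → cj p X₀ ≤ cj q Y₀ := by
    intro p hp q hq hne
    have dp := d₀.conj h.norm hp
    have dq := d₀.conj h.norm hq
    have d1 := h.dec_inf dp dq
    have h1 : cj p X₀ ⊓ cj q X₀ = ⊥ := by
      by_contra hne1
      apply hne
      have h2 := hmin _ _ (d1.conj h.norm (inv_mem hp)) (by
        have := cj_mono p⁻¹ (inf_le_left : cj p X₀ ⊓ cj q X₀ ≤ cj p X₀)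
        rwa [cj_cj, inv_mul_cancel, cj_one] at this) (by
        intro e
        apply hne1
        have := congrArg (cj p) e
        rwa [cj_cj_inv, cj_bot] at this)
      have h3 : cj p X₀ ⊓ cj q X₀ = cj p X₀ := by
        have := congrArg (cj p) h2
        rwa [cj_cj_inv] at this
      refine Subgroup.eq_of_le_of_card_ge (inf_eq_left.mp h3) ?_
      rw [card_cj, card_cj]
    have h2 := h.ref dp dq
    rw [h1, bot_sup_eq] at h2
    exact h2.trans inf_le_right
  -- the sum of the conjugates is `V`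
  have hsum : ∀ s : Set G, s.Finite → s ⊆ P →
      V ≤ (⨆ p ∈ s, cj p X₀) ⊔ (V ⊓ ⨅ p ∈ s, cj p Y₀) := by
    intro s hs
    induction s, hs using Set.Finite.induction_on with
    | empty =>
      intro _
      refine le_trans ?_ le_sup_right
      simp
    | @insert q s hq _ ih =>
      intro hsub
      have hqP : q ∈ P := hsub (Set.mem_insert _ _)
      have hsP : s ⊆ P := (Set.subset_insert _ _).trans hsub
      refine (ih hsP).trans ?_
      refine sup_le ?_ ?_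
      · refine le_trans ?_ le_sup_left
        exact biSup_mono fun p hp => Set.mem_insert_of_mem _ hp
      · rintro y ⟨hyV, hy⟩
        have dq := d₀.conj h.norm hqP
        obtain ⟨a, ha, b, hb, rfl⟩ := dq.exists_mul h.comm hyV
        refine mul_mem_sup ?_ ⟨dq.Y_le hb, ?_⟩
        · exact (le_biSup (fun p => cj p X₀) (Set.mem_insert q s)) ha
        · refine mem_iInf.mpr fun p => mem_iInf.mpr fun hp => ?_
          rcases Set.mem_insert_iff.mp hp with rfl | hp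
          · exact hb
          · have dp := d₀.conj h.norm (hsP hp)
            have hy1 : a * b ∈ cj p Y₀ := by
              have := mem_iInf.mp hy p
              exact mem_iInf.mp this hp
            refine h.mem_Y dp (dq.Y_le hb) fun r hr hc w hw => ?_
            have h1 := (h.two' dp hr).resolve_left hc
            exact (dq.fix (cj_le_KW hr hw) ha hb (mem_centralizer_iff.mp (h1 hw) _ hy1).symm).2
  have hsupV : ⨆ p ∈ P, cj p X₀ = V := by
    refine le_antisymm (iSup₂_le fun p hp => (d₀.conj h.norm hp).X_le) ?_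
    refine (hsum (P : Set G) (Set.toFinite _) le_rfl).trans ?_
    refine sup_le le_rfl ?_
    refine le_trans ?_ bot_le
    rw [← h.cen]
    rintro v ⟨hv, hvY⟩
    refine ⟨hv, ?_⟩
    -- some conjugate does not centralise `X₀`
    obtain ⟨q₀, hq₀, hc⟩ : ∃ q₀ ∈ P, ¬ cj q₀ W ≤ centralizer (X₀ : Set G) := by
      by_contra hcon
      push Not at hcon
      apply hX₀
      rw [eq_bot_iff, ← h.cen]
      refine le_inf d₀.X_le ?_
      have h1 := KW_le hcon
      exact Subgroup.le_centralizer_iff.mp h1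
    have h1 := (h.two' d₀ hq₀).resolve_left hc
    have h2 : KW P W ≤ centralizer ({v} : Set G) := by
      refine KW_le fun q hq => ?_
      have hp : q * q₀⁻¹ ∈ P := mul_mem hq (inv_mem hq₀)
      have h3 := cj_mono (q * q₀⁻¹) h1
      rw [cj_cj, cj_centralizer, inv_mul_cancel_right] at h3
      have h4 : v ∈ cj (q * q₀⁻¹) Y₀ := by
        have := mem_iInf.mp hvY (q * q₀⁻¹)
        exact mem_iInf.mp this hp
      intro w hw
      rw [mem_centralizer_singleton_iff]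
      exact (mem_centralizer_iff.mp (h3 hw) v h4).symm
    refine mem_centralizer_iff.mpr fun k hk => ?_
    exact mem_centralizer_singleton_iff.mp (h2 hk)
  -- the family
  let ι : Type u := {Z : Subgroup G // ∃ p ∈ P, Z = cj p X₀}
  have hVf : ⨆ i : ι, i.1 = V := by
    rw [← hsupV]
    refine le_antisymm (iSup_le ?_) (iSup₂_le fun p hp => ?_)
    · rintro ⟨_, p, hp, rfl⟩
      exact le_biSup (fun p => cj p X₀) hp
    · exact le_iSup (fun i : ι => i.1) ⟨_, p, hp, rfl⟩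
  -- a conjugate which is not centralised by `W`
  have hWV : ¬ W ≤ centralizer (V : Set G) := by
    intro hc
    apply hX₀
    rw [eq_bot_iff, ← h.cen]
    refine le_inf d₀.X_le ?_
    have h1 : KW P W ≤ centralizer (X₀ : Set G) := by
      refine KW_le fun p hp => ?_
      have h2 := cj_mono p hc
      rw [cj_centralizer, cj_eq_of_mem_normalizer (h.norm hp)] at h2
      exact h2.trans (centralizer_le d₀.X_le)
    exact Subgroup.le_centralizer_iff.mp h1
  obtain ⟨p₀, hp₀, hc₀⟩ : ∃ p ∈ P, ¬ W ≤ centralizer (cj p X₀ : Set G) := by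
    by_contra hcon
    push Not at hcon
    apply hWV
    rw [Subgroup.le_centralizer_iff, ← hsupV]
    exact iSup₂_le fun p hp => Subgroup.le_centralizer_iff.mp (hcon p hp)
  refine ⟨ι, inferInstance, ?_, fun i => i.1, ⟨_, p₀, hp₀, rfl⟩, ?_, hVf, ?_, ?_, ?_⟩
  · by_contra hnt
    rw [not_nontrivial_iff_subsingleton] at hnt
    apply hX₀V
    rw [← hVf]
    refine le_antisymm (le_iSup (fun i : ι => i.1) ⟨X₀, 1, one_mem P, (cj_one _).symm⟩) (iSup_le fun i => ?_)
    have := hnt.elim i ⟨X₀, 1, one_mem P, (cj_one _).symm⟩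
    rw [this]
  · rintro ⟨_, p, hp, rfl⟩
    have dp := d₀.conj h.norm hp
    rw [disjoint_iff, eq_bot_iff, ← dp.inf]
    refine inf_le_inf_left _ (iSup₂_le ?_)
    rintro ⟨_, q, hq, rfl⟩ hne
    exact hconj q hq p hp fun e => hne (Subtype.ext e)
  · rintro p hp ⟨_, q, hq, rfl⟩
    exact ⟨⟨_, p * q, mul_mem hp hq, rfl⟩, cj_cj _ _ _⟩
  · rintro ⟨_, p, hp, rfl⟩ ⟨_, q, hq, rfl⟩
    refine ⟨q * p⁻¹, mul_mem hq (inv_mem hp), ?_⟩
    change cj (q * p⁻¹) (cj p X₀) = cj q X₀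
    rw [cj_cj, inv_mul_cancel_right]
  · rintro ⟨_, q, hq, rfl⟩ hne
    have h1 : cj q X₀ ≤ cj p₀ Y₀ := hconj q hq p₀ hp₀ fun e => hne (Subtype.ext e)
    have h2 := h.two _ _ ((d₀.conj h.norm hp₀).mono le_KW)
    exact (h2.resolve_left hc₀).trans (centralizer_le h1)

end Dat

/-- **(5)** : `V` is `K`-indecomposable, or `V ≤ O₂(C_G(FF))`. -/
theorem indec {S : Sylow 2 G} {FF : Subgroup G} (hS : Sit S P V) (h : Dat P V W) (hWP : W ≤ P) (hW2 : IsPGroup 2 W)
    (hWF : V ⊓ centralizer (W : Set G) ≤ FF) (hFV : V ≤ centralizer (FF : Set G))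
    (hFc : FF ≤ centralizer (FF : Set G)) (hF2 : IsPGroup 2 FF) (hZF : V ⊓ zc (S : Subgroup G) ≤ FF)
    (hbad : ¬ V ≤ o2 (centralizer (FF : Set G))) (d : Dec (KW P W) V X Y) : X = ⊥ ∨ Y = ⊥ := by
  by_contra hcon
  push Not at hcon
  obtain ⟨ι, _, _, Vf, i₀, hind, hsup, hperm, htr, hcen⟩ := h.exists_fam d hcon.1 hcon.2
  have hle : ∀ i, Vf i ≤ V := fun i => hsup ▸ le_iSup Vf i
  refine hbad (single_fam hS hind hsup hperm htr hWP hW2 ?_ hcen hFV hFc hF2 ?_ hZF)
  · intro hc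
    have h1 : V ≤ V ⊓ centralizer (KW P W : Set G) := by
      refine le_inf le_rfl (Subgroup.le_centralizer_iff.mp (KW_le fun p hp => ?_))
      have h2 := cj_mono p hc
      rwa [cj_centralizer, cj_eq_of_mem_normalizer (h.norm hp)] at h2
    rw [h.cen] at h1
    exact hcon.1 (le_bot_iff.mp (d.X_le.trans h1))
  · intro j hj
    exact (le_inf (hle j) (Subgroup.le_centralizer_iff.mp (hcen j hj))).trans hWF

end Cfsg.Agent.Omega.NO1.WRF.Indec
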