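import Cfsg.Agent.Omega.NO1.WRF.Indec
import Cfsg.Agent.Omega.NO1.WRF.Orbit

/-!
# THEOREM WRF (bb OMEGA #16078), step (5) on `FlatM`

* `cen_KW` : `C_{V_P}(⟨W^P⟩) = 1` for a 2-subgroup `W` of `P` which does not centralise `V_P`;
* `dat_of_flat` : `FlatM V E F W` gives `Indec.Dat P V W`;
* `indec_flat` : **`V` is an indecomposable module for `K = ⟨W^P⟩`, or `V ≤ O₂(C_G(FF))`**.
-/

set_option autoImplicit false
set_option linter.unusedSectionVars false

namespace Cfsg.Agent.Omega.NO1.WRF.Indec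

open Subgroup Cfsg Cfsg.Agent.ZN Cfsg.Agent.ZN.ChoiceBase Cfsg.Agent.Omega.MinPar Cfsg.Agent.Omega.Frame
open Cfsg.Agent.Omega.NO1 Cfsg.Agent.Omega.NO1.WRF.Single
open Cfsg.Agent.MinSimple.VModule (oddGen oddGen_le_of_sup)

universe u

variable {G : Type u} [Group G] [Finite G] {S : Sylow 2 G} {P V E F W FF X Y : Subgroup G}

theorem KW_le_P (hWP : W ≤ P) : KW P W ≤ P := by
  refine KW_le fun p hp => ?_
  rintro _ ⟨w, hw, rfl⟩
  exact P.mul_mem (P.mul_mem hp (hWP hw)) (P.inv_mem hp)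

theorem KW_sup (h : IsPar (S : Subgroup G) P) (hVn : P ≤ normalizer (V : Set G)) (ho : o2 P ≤ centralizer (V : Set G))
    (hWP : W ≤ P) (hW2 : IsPGroup 2 W) (hWV : ¬ W ≤ centralizer (V : Set G)) : KW P W ⊔ (S : Subgroup G) = P := by
  have hn : P ≤ normalizer (KW P W : Set G) := fun p hp => mem_normalizer_of_cj_le (cj_KW hp)
  rcases h.sup_eq_or_inf_le S (KW_le_P hWP) hn with h1 | h1
  · exact h1
  · exfalso
    have hS : ChoiceSit.Syl (S : Subgroup G) P := ⟨h.le, S.isPGroup', fun R _ hR hSR => S.is_maximal' hR hSR⟩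
    obtain ⟨R, hR, hWR⟩ := ChoiceSit.exists_syl hW2 hWP
    obtain ⟨p, hp, hpR⟩ := ChoiceSit.syl_conj hR hS
    have h2 : cj p W ≤ (S : Subgroup G) ⊓ KW P W := by
      refine le_inf ?_ (cj_le_KW hp)
      rw [← hpR]; exact cj_mono p hWR
    have h3 : cj p W ≤ centralizer (V : Set G) := (h2.trans h1).trans ho
    apply hWV
    have h4 := cj_mono p⁻¹ h3
    rw [cj_cj, inv_mul_cancel, cj_one, cj_centralizer, cj_eq_of_mem_normalizer (inv_mem (hVn hp))] at h4
    exact h4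

theorem oddGen_le_KW (h : IsPar (S : Subgroup G) P) (hVn : P ≤ normalizer (V : Set G))
    (ho : o2 P ≤ centralizer (V : Set G)) (hWP : W ≤ P) (hW2 : IsPGroup 2 W)
    (hWV : ¬ W ≤ centralizer (V : Set G)) : oddGen P ≤ KW P W :=
  oddGen_le_of_sup (fun _ hp => mem_normalizer_of_cj_le (cj_KW hp)) (KW_sup h hVn ho hWP hW2 hWV).ge h.le
    (KW_le_P hWP) S.isPGroup'

theorem cen_KW (h : Cfg S P) (hWP : W ≤ P) (hW2 : IsPGroup 2 W)
    (hWV : ¬ W ≤ centralizer (zl (S : Subgroup G) P : Set G)) :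
    zl (S : Subgroup G) P ⊓ centralizer (KW P W : Set G) = ⊥ := by
  rw [eq_bot_iff, ← h.one.cen]
  exact inf_le_inf_left _ (centralizer_le (oddGen_le_KW h.par h.sit.norm h.sit.o2_le hWP hW2 hWV))

theorem two_of_flat (h : FlatM V E F W) (hc : V ≤ centralizer (V : Set G)) (d : Dec W V X Y) :
    W ≤ centralizer (X : Set G) ∨ W ≤ centralizer (Y : Set G) := by
  by_cases hX : X = ⊥
  · left; rw [hX]; intro w _; rw [mem_centralizer_iff]
    intro x hx; rw [mem_bot.mp hx]; simp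
  by_cases hY : Y = ⊥
  · right; rw [hY]; intro w _; rw [mem_centralizer_iff]
    intro x hx; rw [mem_bot.mp hx]; simp
  let Vf : Bool → Subgroup G := fun b => cond b X Y
  have hXY : X ≠ Y := by
    intro e
    have := d.inf
    rw [← e, inf_idem] at this
    exact hX this
  have hD : WRF.Dec V Vf := by
    refine ⟨fun a ha b hb => mem_centralizer_iff.1 (hc hb) a ha, ?_, ?_⟩
    · rw [iSupIndep_pair (i := true) (j := false) (by simp) (by decide)]
      rw [disjoint_iff]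
      exact d.inf
    · rw [iSup_bool_eq]
      exact d.sup
  have hfix : ∀ s ∈ W, ∀ b, (Vf b).map (MulAut.conj s).toMonoidHom = Vf b := by
    intro s hs b
    cases b
    · exact cj_eq_of_mem_normalizer (d.nY hs)
    · exact cj_eq_of_mem_normalizer (d.nX hs)
  have hne : ∀ b, Vf b ≠ ⊥ := by
    intro b
    cases b
    · exact hY
    · exact hX
  have hinj : ∀ a b, Vf a = Vf b → a = b := by
    intro a b hab
    cases a <;> cases b
    · rfl
    · exact absurd hab.symm hXY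
    · exact absurd hab hXY
    · rfl
  obtain ⟨b₀, -, h1⟩ := h.one hD (fun s hs b => ⟨b, hfix s hs b⟩) hne
  have h2 : ∀ b, b ≠ b₀ → W ≤ centralizer (Vf b : Set G) := by
    intro b hb
    have h3 : Vf b ≤ F := by
      refine h1 b ?_
      rintro ⟨s, hs, e⟩
      rw [hfix s hs b₀] at e
      exact hb (hinj _ _ e).symm
    rw [h.F_eq] at h3
    exact Subgroup.le_centralizer_iff.mp (h3.trans inf_le_right)
  cases b₀
  · exact Or.inl (h2 true (by decide))
  · exact Or.inr (h2 false (by decide))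

theorem dat_of_flat (h : FlatM V E F W) (hc : V ≤ centralizer (V : Set G)) (hn : P ≤ normalizer (V : Set G))
    (hcen : V ⊓ centralizer (KW P W : Set G) = ⊥) : Dat P V W :=
  ⟨hc, hn, fun _ _ d => two_of_flat h hc d, hcen⟩

/-- **(5)** on `FlatM` -/
theorem indec_flat (hS : Sit S P V) (h : FlatM V E F W) (hWP : W ≤ P) (hW2 : IsPGroup 2 W)
    (hcen : V ⊓ centralizer (KW P W : Set G) = ⊥) (hFF : F ≤ FF) (hFV : V ≤ centralizer (FF : Set G))
    (hFc : FF ≤ centralizer (FF : Set G)) (hF2 : IsPGroup 2 FF) (hZF : V ⊓ zc (S : Subgroup G) ≤ FF)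
    (hbad : ¬ V ≤ o2 (centralizer (FF : Set G))) (d : Dec (KW P W) V X Y) : X = ⊥ ∨ Y = ⊥ :=
  indec hS (dat_of_flat h hS.comm hS.norm hcen) hWP hW2 (h.F_eq ▸ hFF) hFV hFc hF2 hZF hbad d

end Cfsg.Agent.Omega.NO1.WRF.Indec
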