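import Cfsg.Agent.Omega.NO1.WRF.IndecFlat
import Cfsg.Agent.Omega.NO1.WRF.NoOvQ

/-!
# (IRR) (bb OMEGA #16754, helper2; referee #16960)

`V = V_P`, `FlatM V E F W` with `|V : E| < |E : F|`, `W` a 2-subgroup of `P`, `Z = Ω₁(Z(S)) ≤ F`;
`V₁ = [V, O²(P)]`.

* `FDat.le_of` : every `P`-invariant `1 ≠ V' ≤ V` contains `V₁`; so `V₁` is an irreducible `P`-module;
* `FDat.sup_eq` : `V = V₁ Z`;
* `FDat.sit1`, `FDat.flat1` : `Sit`, `FlatM` for `V₁`;
* `FDat.irr_K` : `V₁` is an irreducible module for `K = ⟨W^P⟩` if `V ≰ O₂(C_G(FF))`, `F ≤ FF`.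
-/

set_option autoImplicit false
set_option linter.unusedSectionVars false

namespace Cfsg.Agent.Omega.NO1.WRF.Irr

open Subgroup Cfsg Cfsg.Agent.ZN Cfsg.Agent.ZN.ChoiceBase Cfsg.Agent.Omega.MinPar Cfsg.Agent.Omega.Frame
open Cfsg.Agent.Omega.NO1 Cfsg.Agent.Omega.NO1.WRF.Single Cfsg.Agent.Omega.NO1.WRF.Indec
open Cfsg.Agent.MinSimple.VModule (oddGen oddGen_le_of_sup oddGen_le le_normalizer_oddGen)
open scoped commutatorElement

universe u

variable {G : Type u} [Group G] [Finite G]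

/-- `V₁ = [V_P, O²(P)]` -/
def V1 (S : Sylow 2 G) (P : Subgroup G) : Subgroup G := ⁅zl (S : Subgroup G) P, oddGen P⁆

/-- The data of (IRR). -/
structure FDat (S : Sylow 2 G) (P E F W : Subgroup G) : Prop where
  cfg : Cfg S P
  flat : FlatM (zl (S : Subgroup G) P) E F W
  lt : E.relIndex (zl (S : Subgroup G) P) < F.relIndex E
  WP : W ≤ P
  W2 : IsPGroup 2 W
  Z_le : zc (S : Subgroup G) ≤ F

/-- `|E : F| ≤ |W : W ∩ C|` if `C` centralises `V`. -/
theorem relIndex_le_of_flat {V E F W C : Subgroup G} (h : FlatM V E F W) (hc : V ≤ centralizer (V : Set G))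
    (hC : C ≤ centralizer (V : Set G)) : F.relIndex E ≤ C.relIndex W := by
  obtain ⟨w, hw, hwE⟩ := SetLike.not_le_iff_exists.1 h.ne'
  -- a surjection `W / (W ∩ C) → E / F`
  have hsurj : ∀ e : E, ∃ s : W, (w⁻¹ * (s * w * (s : G)⁻¹))⁻¹ * e ∈ F := by
    intro e
    obtain ⟨s, hs, f, hf, he⟩ := h.reg w hw hwE e e.2
    exact ⟨⟨s, hs⟩, by rw [he]; simpa [mul_assoc] using hf⟩
  choose σ hσ using hsurj
  have hF : ∀ f ∈ F, ∀ v ∈ V, f * v = v * f := fun f hf v hv =>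
    (mem_centralizer_iff.1 (hc (h.F_eq ▸ hf : f ∈ V ⊓ centralizer (W : Set G)).1) v hv).symm
  let φ : E → W ⧸ C.subgroupOf W := fun e => (σ e : W ⧸ C.subgroupOf W)
  have hφ : ∀ e e' : E, φ e = φ e' → (e : G)⁻¹ * e' ∈ F := by
    intro e e' hee
    have h1 : (σ e)⁻¹ * σ e' ∈ C.subgroupOf W := QuotientGroup.eq.mp hee
    have h2 : ((σ e : G))⁻¹ * (σ e' : G) ∈ C := h1
    have h3 := mem_centralizer_iff.1 (hC h2) w hw
    have h4 : (σ e : G) * w * (σ e : G)⁻¹ = (σ e' : G) * w * (σ e' : G)⁻¹ := by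
      have h5 : (σ e : G) * (w * ((σ e : G)⁻¹ * (σ e' : G))) * (σ e' : G)⁻¹ =
          (σ e : G) * ((σ e : G)⁻¹ * (σ e' : G) * w) * (σ e' : G)⁻¹ := by rw [h3]
      calc (σ e : G) * w * (σ e : G)⁻¹ = (σ e : G) * (w * ((σ e : G)⁻¹ * (σ e' : G))) * (σ e' : G)⁻¹ := by group
        _ = (σ e : G) * ((σ e : G)⁻¹ * (σ e' : G) * w) * (σ e' : G)⁻¹ := h5
        _ = (σ e' : G) * w * (σ e' : G)⁻¹ := by group
    have h6 := hσ e
    have h7 := hσ e'
    rw [h4] at h6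
    have h8 := F.mul_mem (F.inv_mem h6) h7
    have e1 : ((w⁻¹ * ((σ e' : G) * w * (σ e' : G)⁻¹))⁻¹ * (e : G))⁻¹ * ((w⁻¹ * ((σ e' : G) * w * (σ e' : G)⁻¹))⁻¹ * e')
        = (e : G)⁻¹ * e' := by group
    rwa [e1] at h8
  let ψ : E ⧸ F.subgroupOf E → W ⧸ C.subgroupOf W := fun q => φ q.out
  have hψ : Function.Injective ψ := by
    intro q q' hq
    have h1 := hφ _ _ hq
    have h2 : ((q.out : E) : E ⧸ F.subgroupOf E) = ((q'.out : E) : E ⧸ F.subgroupOf E) := QuotientGroup.eq.mpr h1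
    rwa [QuotientGroup.out_eq', QuotientGroup.out_eq'] at h2
  exact Nat.card_le_card_of_injective ψ hψ

theorem relIndex_sup_of_norm {H N : Subgroup G} (h : H ≤ normalizer (N : Set G)) :
    N.relIndex (H ⊔ N) = N.relIndex H := by
  have hN : (N.subgroupOf (H ⊔ N)).Normal :=
    normal_subgroupOf_of_le_normalizer (sup_le h le_normalizer)
  have h1 := relIndex_sup_right (H.subgroupOf (H ⊔ N)) (N.subgroupOf (H ⊔ N))
  rw [← Subgroup.subgroupOf_sup le_sup_left le_sup_right, Subgroup.subgroupOf_self,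
    Subgroup.relIndex_subgroupOf le_sup_left, relIndex_top_right] at h1
  exact h1

namespace FDat

variable {S : Sylow 2 G} {P E F W FF : Subgroup G} (h : FDat S P E F W)
include h

theorem F_le_V : F ≤ zl (S : Subgroup G) P := h.flat.F_le

theorem E_le_V : E ≤ zl (S : Subgroup G) P := h.flat.le

theorem F_le_E : F ≤ E := by
  obtain ⟨w, hw, hwE⟩ := SetLike.not_le_iff_exists.1 h.flat.ne'
  obtain ⟨e, he, heF⟩ := SetLike.not_le_iff_exists.1 h.flat.ne
  by_contra hcon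
  obtain ⟨f, hf, hfE⟩ := SetLike.not_le_iff_exists.1 hcon
  apply heF
  obtain ⟨s, hs, f', hf', he'⟩ := h.flat.reg f (h.F_le_V hf) hfE e he
  have h1 := h.flat.F_cent hf hs
  rw [he', h1]
  simpa using hf'

theorem syl : ChoiceSit.Syl (S : Subgroup G) P :=
  ⟨h.cfg.S_le, S.isPGroup', fun _ _ hR hSR => S.is_maximal' hR hSR⟩

theorem V_comm' : ∀ x ∈ zl (S : Subgroup G) P, ∀ y ∈ zl (S : Subgroup G) P, x * y = y * x :=
  fun x hx _ hy => mem_centralizer_iff.1 (h.cfg.V_comm hy) x hx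

theorem V_sq' : ∀ x ∈ zl (S : Subgroup G) P, x * x = 1 := fun x hx => by
  rw [← pow_two]; exact h.cfg.V_sq x hx

theorem relIndex_le : F.relIndex E ≤ (o2 P).relIndex W :=
  relIndex_le_of_flat h.flat h.cfg.V_comm h.cfg.sit.o2_le

/-- `[f, s] = 1` -/
theorem comm_F {f s : G} (hf : f ∈ F) (hs : s ∈ W) : f * s * f⁻¹ * s⁻¹ = 1 := by
  have h1 := h.flat.F_cent hf hs
  have h2 : s * f = f * s := by
    calc s * f = s * f * s⁻¹ * s := by group
      _ = f * s := by rw [h1]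
  rw [← h2]
  group

/-- **(IRR)** -/
theorem le_of {V' : Subgroup G} (hV' : V' ≤ zl (S : Subgroup G) P) (hn : P ≤ normalizer (V' : Set G))
    (hne : V' ≠ ⊥) : V1 S P ≤ V' := by
  by_contra hcon
  have hPV : P ≤ normalizer (zl (S : Subgroup G) P : Set G) := h.cfg.sit.norm
  have hWc : ∀ s ∈ W, ∀ v ∈ V', v * s * v⁻¹ * s⁻¹ ∈ V' := by
    intro s hs v hv
    have h1 := (mem_normalizer_iff.mp (hn (h.WP hs)) v⁻¹).mp (V'.inv_mem hv)
    have e : v * s * v⁻¹ * s⁻¹ = v * (s * v⁻¹ * s⁻¹) := by group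
    rw [e]
    exact V'.mul_mem hv h1
  -- `O²(P)` acts nontrivially on `V / V'`
  have hnt : ∃ c ∈ zl (S : Subgroup G) P, ∃ x ∈ oddGen P, c * x * c⁻¹ * x⁻¹ ∉ V' := by
    by_contra hc
    push Not at hc
    apply hcon
    rw [V1, commutator_le]
    intro c hc' x hx
    exact hc c hc' x hx
  have hkey : ∀ K : Subgroup G, V' ≤ K → K ≤ zl (S : Subgroup G) P →
      (∀ b ∈ K, ∀ s ∈ W, b * s * b⁻¹ * s⁻¹ ∈ V') → (o2 P).relIndex W ≤ K.relIndex (zl (S : Subgroup G) P) := by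
    intro K hK1 hK2 hK3
    exact NoOvQ.noOvQ h.syl h.cfg.par.toIsMinPar h.V_comm' h.V_sq' hK1 hK2 le_rfl hn hPV hnt h.WP h.W2
      h.flat.ab h.flat.inv hK3
  by_cases hVE : V' ≤ E
  · -- `V' ≤ E`
    have hnt' : ∃ c ∈ V', ∃ x ∈ oddGen P, c * x * c⁻¹ * x⁻¹ ∉ (⊥ : Subgroup G) := by
      by_contra hc
      push Not at hc
      apply hne
      rw [eq_bot_iff, ← h.cfg.one.cen]
      refine le_inf hV' fun v hv => mem_centralizer_iff.mpr fun x hx => ?_
      have h1 := mem_bot.mp (hc v hv x hx)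
      have h2 : v * x = x * v := by
        calc v * x = (v * x * v⁻¹ * x⁻¹) * (x * v) := by group
          _ = x * v := by rw [h1, one_mul]
      exact h2.symm
    have h1 : (o2 P).relIndex W ≤ (V' ⊓ F).relIndex V' := by
      refine NoOvQ.noOvQ h.syl h.cfg.par.toIsMinPar h.V_comm' h.V_sq' bot_le inf_le_left hV' ?_ hn hnt' h.WP h.W2
        (fun s hs t ht v hv => h.flat.ab s hs t ht v (hV' hv)) (fun s hs v hv => h.flat.inv s hs v (hV' hv)) ?_
      · intro x _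
        rw [mem_normalizer_iff]
        intro y
        rw [mem_bot, mem_bot]
        constructor
        · rintro rfl; group
        · intro h1
          have : y = x⁻¹ * (x * y * x⁻¹) * x := by group
          rw [this, h1]; group
      · intro b hb s hs
        rw [h.comm_F hb.2 hs]
        exact one_mem _
    rw [inf_relIndex_left] at h1
    -- `|V' : V' ∩ F| = |V' F : F|`
    have hFE := h.F_le_E
    have hVF : V' ⊔ F ≤ E := sup_le hVE hFE
    have hnF : V' ≤ normalizer (F : Set G) := by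
      refine le_trans ?_ (centralizer_le_normalizer _)
      exact hV'.trans (h.cfg.V_comm.trans (centralizer_le h.F_le_V))
    have h2 : F.relIndex (V' ⊔ F) = F.relIndex V' := relIndex_sup_of_norm hnF
    have h3 : F.relIndex (V' ⊔ F) * (V' ⊔ F).relIndex E = F.relIndex E := relIndex_mul_relIndex F _ E le_sup_right hVF
    have h4 : (V' ⊔ F).relIndex E = 1 := by
      have h5 := h.relIndex_le
      have hpos : 0 < (V' ⊔ F).relIndex E := Nat.pos_of_ne_zero Subgroup.index_ne_zero_of_finite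
      have hpos' : 0 < F.relIndex (V' ⊔ F) := Nat.pos_of_ne_zero Subgroup.index_ne_zero_of_finite
      rw [← h3, h2] at h5
      have h6 : F.relIndex V' * (V' ⊔ F).relIndex E ≤ F.relIndex V' := h5.trans h1
      rw [h2] at hpos'
      have h7 : (V' ⊔ F).relIndex E ≤ 1 := by
        by_contra hlt
        push Not at hlt
        have := Nat.mul_lt_mul_of_pos_left hlt hpos'
        omega
      omega
    have hEV : E ≤ V' ⊔ F := relIndex_eq_one.1 h4
    have h5 := hkey E hVE h.E_le_V (by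
      intro b hb s hs
      obtain ⟨v, hv, f, hf, rfl⟩ := exists_mul_of_mem_sup h.cfg.V_comm hV' h.F_le_V (hEV hb)
      have h6 := h.comm_F hf hs
      have e : v * f * s * (v * f)⁻¹ * s⁻¹ = v * (f * s * f⁻¹ * s⁻¹) * (s * v⁻¹ * s⁻¹) := by group
      rw [e, h6, mul_one]
      have e2 : v * (s * v⁻¹ * s⁻¹) = v * s * v⁻¹ * s⁻¹ := by group
      rw [e2]
      exact hWc s hs v hv)
    exact absurd (lt_of_lt_of_le h.lt (h.relIndex_le.trans h5)) (lt_irrefl _)
  · -- `V' ≰ E`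
    obtain ⟨v, hv, hvE⟩ := SetLike.not_le_iff_exists.1 hVE
    have hEK : E ≤ V' ⊔ F := by
      intro e he
      obtain ⟨s, hs, f, hf, he'⟩ := h.flat.reg v (hV' hv) hvE e he
      rw [he']
      refine mul_mem_sup ?_ hf
      exact V'.mul_mem (V'.inv_mem hv) ((mem_normalizer_iff.mp (hn (h.WP hs)) v).mp hv)
    have h1 := hkey (V' ⊔ F) le_sup_left (sup_le hV' h.F_le_V) (by
      intro b hb s hs
      obtain ⟨v, hv, f, hf, rfl⟩ := exists_mul_of_mem_sup h.cfg.V_comm hV' h.F_le_V hb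
      have h6 := h.comm_F hf hs
      have e : v * f * s * (v * f)⁻¹ * s⁻¹ = v * (f * s * f⁻¹ * s⁻¹) * (s * v⁻¹ * s⁻¹) := by group
      rw [e, h6, mul_one]
      have e2 : v * (s * v⁻¹ * s⁻¹) = v * s * v⁻¹ * s⁻¹ := by group
      rw [e2]
      exact hWc s hs v hv)
    have h2 : (V' ⊔ F).relIndex (zl (S : Subgroup G) P) ≤ E.relIndex (zl (S : Subgroup G) P) :=
      relIndex_le_of_le_left hEK Subgroup.index_ne_zero_of_finite
    exact absurd (lt_of_lt_of_le h.lt (h.relIndex_le.trans (h1.trans h2))) (lt_irrefl _)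

theorem V1_le : V1 S P ≤ zl (S : Subgroup G) P := by
  rw [V1, commutator_le]
  intro v hv x hx
  have h1 := (mem_normalizer_iff.mp (h.cfg.sit.norm (oddGen_le P hx)) v⁻¹).mp (inv_mem hv)
  have e : ⁅v, x⁆ = v * (x * v⁻¹ * x⁻¹) := by rw [commutatorElement_def]; group
  rw [e]
  exact mul_mem hv h1

/-- `P` normalises `V₁` -/
theorem P_norm_V1 : P ≤ normalizer (V1 S P : Set G) := by
  intro p hp
  refine mem_normalizer_of_cj_le ?_
  rw [V1, cj, Subgroup.map_commutator]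
  exact commutator_mono (cj_eq_of_mem_normalizer (h.cfg.sit.norm hp)).le
    (cj_eq_of_mem_normalizer (le_normalizer_oddGen P hp)).le

theorem V1_ne : V1 S P ≠ ⊥ := by
  intro h0
  have h1 : zl (S : Subgroup G) P ≤ centralizer (oddGen P : Set G) := by
    rw [V1, commutator_eq_bot_iff_le_centralizer] at h0
    exact h0
  have h2 := h.cfg.one.cen
  rw [inf_eq_left.2 h1] at h2
  have h3 := h.flat.ne'
  rw [h2] at h3
  exact h3 bot_le

/-- `V = V₁ Z` -/
theorem sup_eq : V1 S P ⊔ zc (S : Subgroup G) = zl (S : Subgroup G) P := by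
  refine le_antisymm (sup_le h.V1_le h.cfg.Z_le_V) ?_
  -- `O²(P)` centralises `V / V₁`
  have hodd : ∀ x ∈ oddGen P, ∀ v ∈ zl (S : Subgroup G) P, x * v * x⁻¹ * v⁻¹ ∈ V1 S P := by
    intro x hx v hv
    have h1 : ⁅v, x⁆ ∈ V1 S P := commutator_mem_commutator hv hx
    have e : x * v * x⁻¹ * v⁻¹ = ⁅v, x⁆⁻¹ := by rw [commutatorElement_def]; group
    rw [e]
    exact inv_mem h1
  have hP : oddGen P ⊔ (S : Subgroup G) = P :=
    NoFF.LinesPlug.oddGen_sup h.cfg.S_le (MinSimple.Basic.not_dvd_relIndex S h.cfg.S_le)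
  have hdec : ∀ p ∈ P, ∃ x ∈ oddGen P, ∃ s ∈ (S : Subgroup G), x * s = p := by
    intro p hp
    have h1 : p ∈ (((S : Subgroup G) ⊔ oddGen P : Subgroup G) : Set G) := by
      rw [sup_comm, hP]; exact hp
    have hn := h.cfg.S_le.trans (le_normalizer_oddGen P)
    rw [coe_mul_of_left_le_normalizer_right _ _ hn] at h1
    obtain ⟨s, hs, k, hk, rfl⟩ := h1
    refine ⟨s * k * s⁻¹, (mem_normalizer_iff.mp (hn hs) k).mp hk, s, hs, ?_⟩
    change s * k * s⁻¹ * s = s * k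
    group
  refine h.cfg.sit.gen _ fun p hp z hzV hz => ?_
  obtain ⟨x, hx, s, hs, rfl⟩ := hdec p hp
  have h1 : s * z * s⁻¹ = z := by
    have h0 := (ChoiceBase.mem_zc.1 hz).2.2 s hs
    calc s * z * s⁻¹ = z * s * s⁻¹ := by rw [h0]
      _ = z := by group
  have e : x * s * z * (x * s)⁻¹ = (x * z * x⁻¹ * z⁻¹) * z := by
    calc x * s * z * (x * s)⁻¹ = x * (s * z * s⁻¹) * x⁻¹ := by group
      _ = (x * z * x⁻¹ * z⁻¹) * z := by rw [h1]; group
  rw [e]
  exact mul_mem_sup (hodd x hx z hzV) hz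

/-- `V₁` is an irreducible `P`-module. -/
theorem irr {V' : Subgroup G} (hV' : V' ≤ V1 S P) (hn : P ≤ normalizer (V' : Set G)) : V' = ⊥ ∨ V' = V1 S P := by
  by_cases hne : V' = ⊥
  · exact Or.inl hne
  · exact Or.inr (le_antisymm hV' (h.le_of (hV'.trans h.V1_le) hn hne))

theorem V1_inf_zc : V1 S P ⊓ zc (S : Subgroup G) ≠ ⊥ := by
  obtain ⟨x, hx, hx1, hxS⟩ := NoFF.LinesPlug.exists_fixed S.isPGroup' (h.V1_le.trans h.cfg.V_le_S)
    (h.cfg.S_le.trans h.P_norm_V1) h.V1_ne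
  intro h0
  have h1 : x ∈ V1 S P ⊓ zc (S : Subgroup G) :=
    ⟨hx, ChoiceBase.mem_zc.2 ⟨h.cfg.V_le_S (h.V1_le hx), h.cfg.V_sq x (h.V1_le hx), hxS⟩⟩
  rw [h0, mem_bot] at h1
  exact hx1 h1

/-- the situation of `Single` for `V₁` -/
theorem sit1 : Sit S P (V1 S P) where
  char2 := h.cfg.ctx.char2
  par := h.cfg.par
  le := h.V1_le.trans h.cfg.V_le_S
  comm := h.V1_le.trans (h.cfg.V_comm.trans (centralizer_le h.V1_le))
  norm := h.P_norm_V1
  o2_le := h.cfg.sit.o2_le.trans (centralizer_le h.V1_le)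
  gen := fun X hX => by
    let Y : Subgroup G := ⨆ p ∈ P, cj p (V1 S P ⊓ zc (S : Subgroup G))
    have hYX : Y ≤ X := by
      refine iSup₂_le fun p hp => ?_
      rintro _ ⟨z, hz, rfl⟩
      exact hX p hp z hz.1 hz.2
    have hYV : Y ≤ V1 S P := by
      refine iSup₂_le fun p hp => ?_
      refine (cj_mono p inf_le_left).trans ?_
      exact (cj_eq_of_mem_normalizer (h.P_norm_V1 hp)).le
    have hYn : P ≤ normalizer (Y : Set G) := fun p hp => mem_normalizer_of_cj_le (cj_KW hp)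
    have hYne : Y ≠ ⊥ := by
      intro h0
      apply h.V1_inf_zc
      rw [eq_bot_iff, ← h0]
      exact le_KW
    have := (h.irr hYV hYn).resolve_left hYne
    rw [← this]
    exact hYX

/-- `FlatM` for `V₁` -/
theorem flat1 : FlatM (V1 S P) (E ⊓ V1 S P) (F ⊓ V1 S P) W where
  le := inf_le_right
  F_eq := by
    rw [h.flat.F_eq, inf_assoc, inf_comm _ (V1 S P), ← inf_assoc, inf_eq_right.2 h.V1_le]
  norm := fun s hs v hv => (mem_normalizer_iff.mp (h.P_norm_V1 (h.WP hs)) v).mp hv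
  VE := fun s hs v hv => ⟨h.flat.VE s hs v (h.V1_le hv), (V1 S P).mul_mem ((V1 S P).inv_mem hv)
    ((mem_normalizer_iff.mp (h.P_norm_V1 (h.WP hs)) v).mp hv)⟩
  EF := fun s hs v hv => ⟨h.flat.EF s hs v hv.1, (V1 S P).mul_mem ((V1 S P).inv_mem hv.2)
    ((mem_normalizer_iff.mp (h.P_norm_V1 (h.WP hs)) v).mp hv.2)⟩
  reg := fun w hw hwE e he => by
    have hwE' : w ∉ E := fun h1 => hwE ⟨h1, hw⟩
    obtain ⟨s, hs, f, hf, he'⟩ := h.flat.reg w (h.V1_le hw) hwE' e he.1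
    refine ⟨s, hs, f, ⟨hf, ?_⟩, he'⟩
    have h1 : w⁻¹ * (s * w * s⁻¹) ∈ V1 S P := mul_mem (inv_mem hw)
      ((mem_normalizer_iff.mp (h.P_norm_V1 (h.WP hs)) w).mp hw)
    have e1 : f = (w⁻¹ * (s * w * s⁻¹))⁻¹ * e := by rw [he']; group
    rw [e1]
    exact (V1 S P).mul_mem ((V1 S P).inv_mem h1) he.2
  ab := fun s hs t ht v hv => h.flat.ab s hs t ht v (h.V1_le hv)
  inv := fun s hs v hv => h.flat.inv s hs v (h.V1_le hv)
  ne := by
    intro hle
    apply h.flat.ne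
    intro e he
    have h1 : e ∈ V1 S P ⊔ zc (S : Subgroup G) := by rw [h.sup_eq]; exact h.E_le_V he
    obtain ⟨v, hv, z, hz, rfl⟩ := exists_mul_of_mem_sup h.cfg.V_comm h.V1_le h.cfg.Z_le_V h1
    have hzF := h.Z_le hz
    have h2 : v ∈ E := by
      have := E.mul_mem he (E.inv_mem (h.F_le_E hzF))
      rwa [mul_inv_cancel_right] at this
    exact F.mul_mem (hle ⟨h2, hv⟩).1 hzF
  ne' := by
    intro hle
    apply h.flat.ne'
    rw [← h.sup_eq]
    exact sup_le (hle.trans inf_le_left) (h.Z_le.trans h.F_le_E)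

theorem W_not_le : ¬ W ≤ centralizer (zl (S : Subgroup G) P : Set G) := by
  intro hc
  apply h.flat.ne
  refine h.E_le_V.trans ?_
  rw [h.flat.F_eq]
  exact le_inf le_rfl (Subgroup.le_centralizer_iff.mp hc)

theorem cen_KW1 : V1 S P ⊓ centralizer (KW P W : Set G) = ⊥ := by
  rw [eq_bot_iff, ← cen_KW h.cfg h.WP h.W2 h.W_not_le]
  exact inf_le_inf_right _ h.V1_le

/-- **`V₁` is an indecomposable module for `K = ⟨W^P⟩`** -/
theorem indec1 {X Y : Subgroup G} (hFF : F ≤ FF) (hFV : zl (S : Subgroup G) P ≤ centralizer (FF : Set G))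
    (hFc : FF ≤ centralizer (FF : Set G)) (hF2 : IsPGroup 2 FF)
    (hbad : ¬ zl (S : Subgroup G) P ≤ o2 (centralizer (FF : Set G))) (d : Indec.Dec (KW P W) (V1 S P) X Y) :
    X = ⊥ ∨ Y = ⊥ := by
  have hFo : FF ≤ o2 (centralizer (FF : Set G)) := le_o2 hFc hF2 (centralizer_le_normalizer _)
  refine indec_flat h.sit1 h.flat1 h.WP h.W2 h.cen_KW1 (inf_le_left.trans hFF) (h.V1_le.trans hFV) hFc hF2 ?_ ?_ d
  · exact inf_le_right.trans (h.Z_le.trans hFF)
  · intro h1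
    apply hbad
    rw [← h.sup_eq]
    exact sup_le h1 ((h.Z_le.trans hFF).trans hFo)

/-- **`V₁` is an irreducible module for `K = ⟨W^P⟩`** -/
theorem irr_K {X : Subgroup G} (hFF : F ≤ FF) (hFV : zl (S : Subgroup G) P ≤ centralizer (FF : Set G))
    (hFc : FF ≤ centralizer (FF : Set G)) (hF2 : IsPGroup 2 FF)
    (hbad : ¬ zl (S : Subgroup G) P ≤ o2 (centralizer (FF : Set G))) (hX : X ≤ V1 S P)
    (hn : KW P W ≤ normalizer (X : Set G)) : X = ⊥ ∨ X = V1 S P := by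
  by_cases hX0 : X = ⊥
  · exact Or.inl hX0
  right
  have hV1c := h.sit1.comm
  -- a minimal submodule
  obtain ⟨X₀, hmin⟩ := (Set.toFinite {Z : Subgroup G | KW P W ≤ normalizer (Z : Set G) ∧ Z ≠ ⊥ ∧ Z ≤ X}).exists_minimal
    ⟨X, hn, hX0, le_rfl⟩
  obtain ⟨⟨hn0, hne0, hle0⟩, hmin⟩ := hmin
  have hmin' : ∀ Z : Subgroup G, KW P W ≤ normalizer (Z : Set G) → Z ≤ X₀ → Z = ⊥ ∨ Z = X₀ := by
    intro Z hZn hZ
    by_cases hZ0 : Z = ⊥
    · exact Or.inl hZ0
    · exact Or.inr (le_antisymm hZ (hmin ⟨hZn, hZ0, hZ.trans hle0⟩ hZ))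
  have hX0V : X₀ ≤ V1 S P := hle0.trans hX
  have hconjn : ∀ p ∈ P, ∀ Z : Subgroup G, KW P W ≤ normalizer (Z : Set G) → KW P W ≤ normalizer (cj p Z : Set G) := by
    intro p hp Z hZ
    rw [← cj_normalizer, ← cj_KW_eq (W := W) hp]
    exact cj_mono p hZ
  have hinfn : ∀ Z Z' : Subgroup G, KW P W ≤ normalizer (Z : Set G) → KW P W ≤ normalizer (Z' : Set G) →
      KW P W ≤ normalizer ((Z ⊓ Z' : Subgroup G) : Set G) := by
    intro Z Z' h1 h2 k hk
    refine mem_normalizer_of_cj_le ?_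
    rw [cj_inf, cj_eq_of_mem_normalizer (h1 hk), cj_eq_of_mem_normalizer (h2 hk)]
  have hsupn : ∀ Z Z' : Subgroup G, KW P W ≤ normalizer (Z : Set G) → KW P W ≤ normalizer (Z' : Set G) →
      KW P W ≤ normalizer ((Z ⊔ Z' : Subgroup G) : Set G) := by
    intro Z Z' h1 h2 k hk
    refine mem_normalizer_of_cj_le ?_
    rw [cj, Subgroup.map_sup]
    exact sup_le_sup (cj_eq_of_mem_normalizer (h1 hk)).le (cj_eq_of_mem_normalizer (h2 hk)).le
  -- a maximal complement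
  obtain ⟨Y, hmax⟩ := (Set.toFinite {Z : Subgroup G | KW P W ≤ normalizer (Z : Set G) ∧ Z ≤ V1 S P ∧
    X₀ ⊓ Z = ⊥}).exists_maximal ⟨⊥, by
      refine ⟨?_, bot_le, inf_bot_eq _⟩
      intro k _
      exact mem_normalizer_of_cj_le (cj_bot k).le⟩
  obtain ⟨⟨hYn, hYV, hY0⟩, hmax⟩ := hmax
  have hsup : X₀ ⊔ Y = V1 S P := by
    refine le_antisymm (sup_le hX0V hYV) ?_
    have hT : ⨆ p ∈ P, cj p X₀ = V1 S P := by
      refine (h.irr ?_ fun p hp => mem_normalizer_of_cj_le (cj_KW hp)).resolve_left ?_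
      · refine iSup₂_le fun p hp => (cj_mono p hX0V).trans ?_
        exact (cj_eq_of_mem_normalizer (h.P_norm_V1 hp)).le
      · intro h0
        apply hne0
        rw [eq_bot_iff, ← h0]
        exact le_KW
    rw [← hT]
    refine iSup₂_le fun p hp => ?_
    have hcV : cj p X₀ ≤ V1 S P := by
      rw [← hT]; exact cj_le_KW hp
    by_contra hcon
    have hcn := hconjn p hp X₀ hn0
    have h1 : cj p X₀ ⊓ (X₀ ⊔ Y) = ⊥ := by
      have h2 := hmin' (cj p⁻¹ (cj p X₀ ⊓ (X₀ ⊔ Y))) (hconjn _ (inv_mem hp) _ (hinfn _ _ hcn (hsupn _ _ hn0 hYn))) (by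
        have := cj_mono p⁻¹ (inf_le_left : cj p X₀ ⊓ (X₀ ⊔ Y) ≤ cj p X₀)
        rwa [cj_cj, inv_mul_cancel, cj_one] at this)
      rcases h2 with h2 | h2
      · have := congrArg (cj p) h2
        rwa [cj_cj_inv, cj_bot] at this
      · exfalso
        have := congrArg (cj p) h2
        rw [cj_cj_inv] at this
        exact hcon (inf_eq_left.mp this)
    have h2 : X₀ ⊓ (Y ⊔ cj p X₀) = ⊥ := by
      rw [eq_bot_iff]
      rintro x ⟨hx, hx'⟩
      obtain ⟨y, hy, c, hc, rfl⟩ := exists_mul_of_mem_sup hV1c hYV hcV hx'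
      have h3 : c ∈ cj p X₀ ⊓ (X₀ ⊔ Y) := by
        refine ⟨hc, ?_⟩
        have e : c = y⁻¹ * (y * c) := by group
        rw [e]
        exact (X₀ ⊔ Y).mul_mem ((X₀ ⊔ Y).inv_mem ((le_sup_right : Y ≤ X₀ ⊔ Y) hy)) ((le_sup_left : X₀ ≤ X₀ ⊔ Y) hx)
      rw [h1, mem_bot] at h3
      subst h3
      change y * 1 ∈ _ at hx
      rw [mul_one] at hx ⊢
      rw [← hY0]
      exact ⟨hx, hy⟩
    have h3 := hmax ⟨hsupn _ _ hYn hcn, sup_le hYV hcV, h2⟩ le_sup_left
    exact hcon ((le_sup_right.trans h3).trans le_sup_right)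
  have hY := (h.indec1 hFF hFV hFc hF2 hbad ⟨hsup, hY0, hn0, hYn⟩).resolve_left hne0
  rw [hY, sup_bot_eq] at hsup
  exact le_antisymm hX (hsup ▸ hle0)

end FDat

end Cfsg.Agent.Omega.NO1.WRF.Irr
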