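import Cfsg.Agent.Omega.NO1.JMin
import Cfsg.Agent.Omega.NOne.LemmaT

/-!
# THEOREM WRF (bb OMEGA #16078), step (4): `W` acts on one block only

`Sit S P V` : `V ≤ S` is abelian, normalised by `P`, centralised by `O₂(P)` and generated by the `P`-conjugates of
`V ∩ Z`, `Z = Ω₁(Z(S))` (`V = V_P` in `NO1.Cfg`: `Cfg.sit`; or `V = [V_P, O²(P)]`).

`Pair S P V A B So` : `V = A × B`, `So` of index 2 in `S` normalises `A` and `B`, the elements of `S - So` swap them,
`B` is generated by the projection of `V ∩ Z` under `C_P(A)`.  If `A` and `V ∩ Z` lie in `FF`, which commutes with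
`V`, then `V ≤ O₂(C_G(FF))`.
-/

set_option autoImplicit false
set_option linter.unusedSectionVars false

namespace Cfsg.Agent.Omega.NO1.WRF.Single

open Subgroup Cfsg Cfsg.Agent.ZN Cfsg.Agent.ZN.ChoiceBase Cfsg.Agent.Omega.MinPar Cfsg.Agent.Omega.Frame
open Cfsg.Agent.Omega.NO1

universe u

variable {G : Type u} [Group G] [Finite G]

/-! ### General lemmas -/

theorem mem_of_index_two {H K : Subgroup G} (h2 : H.relIndex K = 2) {x y : G} (hx : x ∈ K)
    (hy : y ∈ K) (hx' : x ∉ H) (hy' : y ∉ H) : x⁻¹ * y ∈ H := by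
  have h : (H.subgroupOf K).index = 2 := h2
  have h1 := mul_mem_iff_of_index_two h (a := (⟨x, hx⟩ : K)⁻¹) (b := ⟨y, hy⟩)
  rw [inv_mem_iff] at h1
  have h3 := h1.mpr (iff_of_false (fun h => hx' (mem_subgroupOf.mp h)) (fun h => hy' (mem_subgroupOf.mp h)))
  exact mem_subgroupOf.mp h3

/-- `S ∩ N` is Sylow in the normal subgroup `N` of `P ≥ S`. -/
theorem le_of_normal (S : Sylow 2 G) {P N Q : Subgroup G} (hSP : (S : Subgroup G) ≤ P) (hNP : N ≤ P)
    (hN : P ≤ normalizer (N : Set G)) (hQ : IsPGroup 2 Q) (hQN : Q ≤ N)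
    (hle : (S : Subgroup G) ⊓ N ≤ Q) : Q ≤ (S : Subgroup G) := by
  have hS : ChoiceSit.Syl (S : Subgroup G) P := ⟨hSP, S.isPGroup', fun R _ hR hSR => S.is_maximal' hR hSR⟩
  obtain ⟨R, hR, hQR⟩ := ChoiceSit.exists_syl hQ (hQN.trans hNP)
  obtain ⟨p, hp, hpR⟩ := ChoiceSit.syl_conj hR hS
  have h1 : cj p Q ≤ (S : Subgroup G) ⊓ N := by
    refine le_inf ?_ ?_
    · rw [← hpR]; exact cj_mono p hQR
    · have h2 := cj_eq_of_mem_normalizer (hN hp)
      rw [← h2]; exact cj_mono p hQN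
  have h3 : Nat.card Q ≤ Nat.card ((S : Subgroup G) ⊓ N : Subgroup G) := by
    rw [← card_cj p Q]
    exact Subgroup.card_le_of_le h1
  have h4 := Subgroup.eq_of_le_of_card_ge hle h3
  rw [← h4]
  exact inf_le_left

/-- A subgroup of index 2 in a Sylow group has index at most 2 in every 2-group over it. -/
theorem mem_of_twoGroup (S : Sylow 2 G) {So Q : Subgroup G} (hSo : So ≤ (S : Subgroup G))
    (h2 : So.relIndex (S : Subgroup G) = 2) (hQ : IsPGroup 2 Q) (hle : So ≤ Q) {x y : G} (hx : x ∈ Q) (hy : y ∈ Q)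
    (hx' : x ∉ So) (hy' : y ∉ So) : x⁻¹ * y ∈ So := by
  obtain ⟨T, hT⟩ := hQ.exists_le_sylow
  obtain ⟨g, hg⟩ := MulAction.exists_smul_eq G T S
  have hg' : cj g (T : Subgroup G) = (S : Subgroup G) := by
    rw [← hg, Sylow.coe_subgroup_smul]
    rfl
  have hle' : cj g So ≤ (S : Subgroup G) := by
    rw [← hg']; exact cj_mono g (hle.trans hT)
  have h3 : (cj g So).relIndex (S : Subgroup G) = 2 := by
    have h4 : Nat.card So * So.relIndex (S : Subgroup G) = Nat.card (S : Subgroup G) := by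
      rw [Subgroup.relIndex, ← Nat.card_congr (Subgroup.subgroupOfEquivOfLe hSo).toEquiv]
      exact Subgroup.card_mul_index _
    have h5 : Nat.card (cj g So) * (cj g So).relIndex (S : Subgroup G) = Nat.card (S : Subgroup G) := by
      rw [Subgroup.relIndex, ← Nat.card_congr (Subgroup.subgroupOfEquivOfLe hle').toEquiv]
      exact Subgroup.card_mul_index _
    rw [card_cj, ← h4, h2] at h5
    exact Nat.eq_of_mul_eq_mul_left Nat.card_pos h5
  have hS : ∀ w ∈ Q, g * w * g⁻¹ ∈ (S : Subgroup G) := by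
    intro w hw
    rw [← hg']
    exact ⟨w, hT hw, rfl⟩
  have hn : ∀ w, w ∉ So → g * w * g⁻¹ ∉ cj g So := by
    intro w hw h
    rw [mem_cj] at h
    apply hw
    have e : g⁻¹ * (g * w * g⁻¹) * g = w := by group
    rwa [e] at h
  have h6 := mem_of_index_two h3 (hS x hx) (hS y hy) (hn x hx') (hn y hy')
  rw [mem_cj] at h6
  have e : g⁻¹ * ((g * x * g⁻¹)⁻¹ * (g * y * g⁻¹)) * g = x⁻¹ * y := by group
  rwa [e] at h6

/-- `O₂(Y) ∩ C ≤ O₂(C)` for `C ≤ Y`. -/
theorem inf_o2_le {Y C B : Subgroup G} (hC : C ≤ Y) (h1 : B ≤ o2 Y) (h2 : B ≤ C) : B ≤ o2 C := by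
  refine le_trans (le_inf h1 h2) ?_
  refine le_o2 inf_le_right ((isPGroup_o2 Y).to_le inf_le_left) ?_
  intro c hc
  refine mem_normalizer_of_cj_le ?_
  rw [cj_inf, cj_eq_of_mem_normalizer (le_normalizer_o2 Y (hC hc)), cj_eq_of_mem_normalizer (le_normalizer hc)]

/-! ### The configuration -/

/-- `V ≤ S` is abelian, normalised by `P`, centralised by `O₂(P)` and generated by the `P`-conjugates of `V ∩ Z`. -/
structure Sit (S : Sylow 2 G) (P V : Subgroup G) : Prop where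
  char2 : IsCharacteristicTwoType G
  par : IsPar (S : Subgroup G) P
  le : V ≤ (S : Subgroup G)
  comm : V ≤ centralizer (V : Set G)
  norm : P ≤ normalizer (V : Set G)
  o2_le : o2 P ≤ centralizer (V : Set G)
  gen : ∀ X : Subgroup G, (∀ p ∈ P, ∀ z ∈ V, z ∈ zc (S : Subgroup G) → p * z * p⁻¹ ∈ X) → V ≤ X

theorem _root_.Cfsg.Agent.Omega.NO1.Cfg.sit {S : Sylow 2 G} {P : Subgroup G} (h : Cfg S P) :
    Sit S P (zl (S : Subgroup G) P) where
  char2 := h.ctx.char2
  par := h.par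
  le := h.V_le_S
  comm := h.V_comm
  norm := Cfg.P_norm_V S P
  o2_le := by rw [← h.S_inf_centralizer]; exact inf_le_right
  gen := fun X hX => iSup_le fun g => by
    rintro _ ⟨x, hx, rfl⟩
    exact hX g g.2 x (h.Z_le_V hx) hx

/-- `V = A × B`, `So` of index 2 in `S` normalises `A` and `B`, the elements of `S - So` swap them, and `B` is
generated by the projection of `V ∩ Z` under `C_P(A)`. -/
structure Pair (S : Sylow 2 G) (P V A B So : Subgroup G) : Prop where
  sup : A ⊔ B = V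
  inf : A ⊓ B = ⊥
  So_le : So ≤ (S : Subgroup G)
  index : So.relIndex (S : Subgroup G) = 2
  So_A : So ≤ normalizer (A : Set G)
  So_B : So ≤ normalizer (B : Set G)
  swap : ∃ s ∈ (S : Subgroup G), cj s A = B ∧ cj s B = A
  normal : P ≤ normalizer ((P ⊓ normalizer (A : Set G) : Subgroup G) : Set G)
  syl : (S : Subgroup G) ⊓ normalizer (A : Set G) ≤ So
  DB : P ⊓ centralizer (A : Set G) ≤ normalizer (B : Set G)
  gen : ∀ X : Subgroup G, X ≤ B → P ⊓ centralizer (A : Set G) ≤ normalizer (X : Set G) →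
    (∀ a ∈ A, ∀ b ∈ B, a * b ∈ zc (S : Subgroup G) → b ∈ X) → B ≤ X

namespace Pair

variable {S : Sylow 2 G} {P V A B So : Subgroup G} (H : Pair S P V A B So)
include H

theorem A_le : A ≤ V := H.sup ▸ le_sup_left
theorem B_le : B ≤ V := H.sup ▸ le_sup_right

/-- the components are unique -/
theorem uniq {a a' b b' : G} (ha : a ∈ A) (ha' : a' ∈ A) (hb : b ∈ B) (hb' : b' ∈ B)
    (h : a * b = a' * b') : a = a' ∧ b = b' := by
  have h1 : a'⁻¹ * a = b' * b⁻¹ := by
    have : a'⁻¹ * (a * b) * b⁻¹ = a'⁻¹ * (a' * b') * b⁻¹ := by rw [h]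
    calc a'⁻¹ * a = a'⁻¹ * (a * b) * b⁻¹ := by group
      _ = a'⁻¹ * (a' * b') * b⁻¹ := this
      _ = b' * b⁻¹ := by group
  have h2 : a'⁻¹ * a ∈ A ⊓ B := ⟨A.mul_mem (A.inv_mem ha') ha, by rw [h1]; exact B.mul_mem hb' (B.inv_mem hb)⟩
  rw [H.inf, mem_bot] at h2
  have h3 : a = a' := (inv_mul_eq_one.mp h2).symm
  refine ⟨h3, ?_⟩
  rw [h3] at h
  exact mul_left_cancel h

/-- `So` centralises the components of the elements of `Z` -/
theorem So_comm {a b s : G} (ha : a ∈ A) (hb : b ∈ B) (hz : a * b ∈ zc (S : Subgroup G)) (hs : s ∈ So) :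
    s * a * s⁻¹ = a ∧ s * b * s⁻¹ = b := by
  have h1 := (ChoiceBase.mem_zc.1 hz).2.2 s (H.So_le hs)
  have h2 : s * a * s⁻¹ ∈ A := (mem_normalizer_iff.mp (H.So_A hs) a).mp ha
  have h3 : s * b * s⁻¹ ∈ B := (mem_normalizer_iff.mp (H.So_B hs) b).mp hb
  refine H.uniq h2 ha h3 hb ?_
  calc s * a * s⁻¹ * (s * b * s⁻¹) = s * (a * b) * s⁻¹ := by group
    _ = a * b * s * s⁻¹ := by rw [h1]
    _ = a * b := by group

end Pair

/-- **(4b)** -/
theorem single {S : Sylow 2 G} {P V A B So FF : Subgroup G} (h : Sit S P V) (hV1 : V ≠ ⊥) (H : Pair S P V A B So)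
    (hFV : V ≤ centralizer (FF : Set G)) (hFc : FF ≤ centralizer (FF : Set G))
    (hF2 : IsPGroup 2 FF) (hAF : A ≤ FF) (hZF : V ⊓ zc (S : Subgroup G) ≤ FF) :
    V ≤ o2 (centralizer (FF : Set G)) := by
  have hAo : A ≤ o2 (centralizer (FF : Set G)) :=
    hAF.trans (le_o2 hFc hF2 (centralizer_le_normalizer _))
  rw [← H.sup]
  refine sup_le hAo ?_
  -- the element `a`
  obtain ⟨a, ha, b, hb, hz, ha1⟩ : ∃ a ∈ A, ∃ b ∈ B, a * b ∈ zc (S : Subgroup G) ∧ a ≠ 1 := by
    obtain ⟨z, hzV', hz, hz1⟩ : ∃ z ∈ V, z ∈ zc (S : Subgroup G) ∧ z ≠ 1 := by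
      by_contra hcon
      push Not at hcon
      refine hV1 (le_bot_iff.mp (h.gen ⊥ fun p _ z hz hz' => ?_))
      rw [mem_bot, hcon z hz hz']
      group
    have hzV : z ∈ ((A ⊔ B : Subgroup G) : Set G) := by
      rw [H.sup]; exact hzV'
    have hAB : A ≤ normalizer (B : Set G) := by
      refine le_trans ?_ (centralizer_le_normalizer _)
      exact H.A_le.trans (h.comm.trans (centralizer_le H.B_le))
    rw [coe_mul_of_left_le_normalizer_right _ _ hAB] at hzV
    obtain ⟨a, ha, b, hb, rfl⟩ := hzV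
    refine ⟨a, ha, b, hb, hz, ?_⟩
    rintro rfl
    apply hz1
    obtain ⟨s, hs, hsA, hsB⟩ := H.swap
    change (1 : G) * b ∈ _ at hz
    change (1 : G) * b = 1
    rw [one_mul] at hz ⊢
    have h1 := (ChoiceBase.mem_zc.1 hz).2.2 s hs
    have h2 : b ∈ A ⊓ B := by
      refine ⟨?_, hb⟩
      have h3 : s * b * s⁻¹ ∈ cj s B := ⟨b, hb, rfl⟩
      rw [hsB, h1] at h3
      have e : b * s * s⁻¹ = b := by group
      rwa [e] at h3
    rw [H.inf, mem_bot] at h2
    exact h2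
  have haV := H.A_le ha
  have hVc : ∀ v ∈ V, ∀ w ∈ V, v * w = w * v := fun v hv w hw =>
    mem_centralizer_iff.1 (h.comm hw) v hv
  -- `H₁ = C_G(a)`
  set H1 : Subgroup G := centralizer (zpowers a : Set G) with hH1
  have hmemH1 : ∀ g, g ∈ H1 ↔ g * a = a * g := by
    intro g
    rw [hH1, mem_centralizer_iff]
    constructor
    · intro hg
      exact (hg a (mem_zpowers a)).symm
    · intro hg y hy
      obtain ⟨k, rfl⟩ := mem_zpowers_iff.mp hy
      exact (Commute.zpow_right (show Commute g a from hg) k).symm.eq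
  have ha2 : IsPGroup 2 (zpowers a) := S.isPGroup'.to_le (zpowers_le.mpr (h.le haV))
  have hch : H1 ⊓ centralizer (o2 H1 : Set G) ≤ o2 H1 :=
    NOne.LemmaT.char2_centralizer h.char2 ha2 (by rw [Ne, zpowers_eq_bot]; exact ha1)
  have hVH1 : V ≤ H1 := fun v hv => (hmemH1 v).mpr (hVc v hv a haV)
  have hSoH1 : So ≤ H1 := by
    intro s hs
    rw [hmemH1]
    have h1 := (H.So_comm ha hb hz hs).1
    calc s * a = s * a * s⁻¹ * s := by group
      _ = a * s := by rw [h1]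
  have hDH1 : P ⊓ centralizer (A : Set G) ≤ H1 := by
    intro d hd
    rw [hmemH1]
    exact (mem_centralizer_iff.mp hd.2 a ha).symm
  have hFH1 : centralizer (FF : Set G) ≤ H1 := by
    intro g hg
    rw [hmemH1]
    exact (mem_centralizer_iff.mp hg a (hAF ha)).symm
  have hBF : B ≤ centralizer (FF : Set G) := H.B_le.trans hFV
  -- `R = O₂(H₁)`
  set R : Subgroup G := o2 H1 with hR
  have hR2 : IsPGroup 2 R := isPGroup_o2 H1
  have hRn : H1 ≤ normalizer (R : Set G) := le_normalizer_o2 H1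
  have hRH : R ≤ H1 := o2_le H1
  -- `R ∩ ⟨So, D⟩ = R ∩ So`
  set M1 : Subgroup G := So ⊔ (P ⊓ centralizer (A : Set G)) with hM1
  have hM1H : M1 ≤ H1 := sup_le hSoH1 hDH1
  have hN1 : M1 ≤ P ⊓ normalizer (A : Set G) := by
    refine sup_le (le_inf (H.So_le.trans h.par.le) H.So_A) ?_
    exact inf_le_inf_left P (centralizer_le_normalizer _)
  have hRM : R ⊓ M1 ≤ So := by
    have h1 : IsPGroup 2 (So ⊔ (R ⊓ M1) : Subgroup G) := by
      refine IsPGroup.to_sup_of_normal_right' (S.isPGroup'.to_le H.So_le) (hR2.to_le inf_le_left) ?_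
      intro s hs
      refine mem_normalizer_of_cj_le ?_
      rw [cj_inf, cj_eq_of_mem_normalizer (hRn (hSoH1 hs)),
        cj_eq_of_mem_normalizer (le_normalizer ((le_sup_left : So ≤ M1) hs))]
    have h2 : (So ⊔ (R ⊓ M1) : Subgroup G) ≤ P ⊓ normalizer (A : Set G) :=
      sup_le (le_sup_left.trans hN1) (inf_le_right.trans hN1)
    have h3 : (S : Subgroup G) ⊓ (P ⊓ normalizer (A : Set G)) ≤ So := by
      refine le_trans ?_ H.syl
      exact inf_le_inf_left _ inf_le_right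
    have h4 := le_of_normal S h.par.le inf_le_left H.normal h1 h2 (h3.trans le_sup_left)
    exact (le_inf ((le_sup_right : R ⊓ M1 ≤ So ⊔ (R ⊓ M1)).trans h4) (le_sup_right.trans (h2.trans inf_le_right))).trans H.syl
  have hRo : R ⊓ M1 = R ⊓ So := le_antisymm (le_inf inf_le_left hRM) (inf_le_inf_left _ le_sup_left)
  -- `D` normalises `R ∩ So`
  have hDRo : P ⊓ centralizer (A : Set G) ≤ normalizer ((R ⊓ So : Subgroup G) : Set G) := by
    intro d hd
    rw [← hRo]
    refine mem_normalizer_of_cj_le ?_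
    rw [cj_inf, cj_eq_of_mem_normalizer (hRn (hDH1 hd)),
      cj_eq_of_mem_normalizer (le_normalizer ((le_sup_right : P ⊓ centralizer (A : Set G) ≤ M1) hd))]
  -- the generation trick
  have hgen : ∀ Y : Subgroup G, P ⊓ centralizer (A : Set G) ≤ normalizer (Y : Set G) →
      (∀ a ∈ A, ∀ b ∈ B, a * b ∈ zc (S : Subgroup G) → ∀ y ∈ Y, y * b = b * y) → B ≤ centralizer (Y : Set G) := by
    intro Y hY hc
    refine (H.gen (B ⊓ centralizer (Y : Set G)) inf_le_left ?_ ?_).trans inf_le_right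
    · intro d hd
      refine mem_normalizer_of_cj_le ?_
      rw [cj_inf, cj_eq_of_mem_normalizer (H.DB hd), cj_centralizer, cj_eq_of_mem_normalizer (hY hd)]
    · intro a ha b hb hz
      exact ⟨hb, mem_centralizer_iff.mpr fun y hy => hc a ha b hb hz y hy⟩
  -- `R ∩ So` centralises `B`
  have hRoB : B ≤ centralizer ((R ⊓ So : Subgroup G) : Set G) := by
    refine hgen _ hDRo ?_
    intro a ha b hb hz y hy
    have h1 := (H.So_comm ha hb hz hy.2).2
    calc y * b = y * b * y⁻¹ * y := by group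
      _ = b * y := by rw [h1]
  by_cases hcase : ∀ a ∈ A, ∀ b ∈ B, a * b ∈ zc (S : Subgroup G) → ∀ y ∈ R, y * b = b * y
  · -- `R` centralises the projection of `Z`
    have h1 : B ≤ centralizer (R : Set G) := hgen R (hDH1.trans hRn) hcase
    have h2 : B ≤ o2 H1 := (le_inf (H.B_le.trans hVH1) h1).trans hch
    exact inf_o2_le hFH1 h2 hBF
  · push Not at hcase
    obtain ⟨a', ha', y, hy, hz', r₁, hr₁, hry⟩ := hcase
    have hyV := H.B_le hy
    have hyF : y ∈ FF := by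
      have e : y = a'⁻¹ * (a' * y) := by group
      rw [e]
      exact FF.mul_mem (FF.inv_mem (hAF ha')) (hZF ⟨V.mul_mem (H.A_le ha') hyV, hz'⟩)
    -- `Y = C_G(a, y)`
    set Y : Subgroup G := H1 ⊓ centralizer (zpowers y : Set G) with hYd
    have hmemY : ∀ g, g ∈ Y ↔ g ∈ H1 ∧ g * y = y * g := by
      intro g
      rw [hYd, mem_inf, mem_centralizer_iff]
      constructor
      · rintro ⟨h1, h2⟩
        exact ⟨h1, (h2 y (mem_zpowers y)).symm⟩
      · rintro ⟨h1, h2⟩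
        refine ⟨h1, fun x hx => ?_⟩
        obtain ⟨k, rfl⟩ := mem_zpowers_iff.mp hx
        exact (Commute.zpow_right (show Commute g y from h2) k).symm.eq
    have hFY : centralizer (FF : Set G) ≤ Y := by
      intro g hg
      exact (hmemY g).mpr ⟨hFH1 hg, (mem_centralizer_iff.mp hg y hyF).symm⟩
    have hBY : B ≤ Y := fun g hg => (hmemY g).mpr ⟨hVH1 (H.B_le hg), hVc g (H.B_le hg) y hyV⟩
    have hSoy : ∀ s ∈ So, s * y = y * s := by
      intro s hs
      have h1 := (H.So_comm ha' hy hz' hs).2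
      calc s * y = s * y * s⁻¹ * s := by group
        _ = y * s := by rw [h1]
    -- index two
    have hQ2 : IsPGroup 2 (So ⊔ R : Subgroup G) :=
      IsPGroup.to_sup_of_normal_right' (S.isPGroup'.to_le H.So_le) hR2 (hSoH1.trans hRn)
    have hidx : ∀ u ∈ R, ∀ v ∈ R, u ∉ So → v ∉ So → u⁻¹ * v ∈ So := fun u hu v hv hu' hv' =>
      mem_of_twoGroup S H.So_le H.index hQ2 le_sup_left (mem_sup_right hu) (mem_sup_right hv) hu' hv'
    have hr₁S : r₁ ∉ So := fun h1 => hry (hSoy r₁ h1)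
    -- `R ∩ Y = R ∩ So`
    have hRY : R ⊓ Y = R ⊓ So := by
      refine le_antisymm ?_ (le_inf inf_le_left fun s hs => (hmemY s).mpr ⟨hSoH1 hs.2, hSoy s hs.2⟩)
      rintro r ⟨hr, hrY⟩
      refine ⟨hr, ?_⟩
      by_contra hrS
      have h1 := hidx r hr r₁ hr₁ hrS hr₁S
      have h2 := hSoy _ h1
      have h3 := ((hmemY r).mp hrY).2
      apply hry
      calc r₁ * y = r * (r⁻¹ * r₁ * y) := by group
        _ = r * (y * (r⁻¹ * r₁)) := by rw [h2]
        _ = r * y * (r⁻¹ * r₁) := by group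
        _ = y * r * (r⁻¹ * r₁) := by rw [h3]
        _ = y * r₁ := by group
    have hYR : Y ≤ normalizer (R : Set G) := inf_le_left.trans hRn
    have hYRo : Y ≤ normalizer ((R ⊓ So : Subgroup G) : Set G) := by
      intro g hg
      rw [← hRY]
      refine mem_normalizer_of_cj_le ?_
      rw [cj_inf, cj_eq_of_mem_normalizer (hYR hg), cj_eq_of_mem_normalizer (le_normalizer hg)]
    -- the stabiliser of `R ≥ R ∩ So ≥ 1` in `Y`
    let K : Subgroup G :=
      { carrier := {g | g ∈ Y ∧ (∀ r ∈ R ⊓ So, g * r = r * g) ∧ ∀ r ∈ R, r⁻¹ * (g * r * g⁻¹) ∈ R ⊓ So}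
        one_mem' := ⟨one_mem _, fun r _ => by rw [one_mul, mul_one], fun r _ => by simp⟩
        mul_mem' := by
          rintro g g' ⟨h1, h2, h3⟩ ⟨h1', h2', h3'⟩
          refine ⟨mul_mem h1 h1', fun r hr => by rw [mul_assoc, h2' r hr, ← mul_assoc, h2 r hr, mul_assoc], ?_⟩
          intro r hr
          have k1 := h3' r hr
          have k2 := h2 _ k1
          have k3 := h3 r hr
          have e : r⁻¹ * (g * g' * r * (g * g')⁻¹) = r⁻¹ * (g * r * g⁻¹) * (r⁻¹ * (g' * r * g'⁻¹)) := by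
            calc r⁻¹ * (g * g' * r * (g * g')⁻¹) = r⁻¹ * (g * r * (r⁻¹ * (g' * r * g'⁻¹)) * g⁻¹) := by group
              _ = r⁻¹ * (g * r * g⁻¹ * (g * (r⁻¹ * (g' * r * g'⁻¹)) * g⁻¹)) := by group
              _ = r⁻¹ * (g * r * g⁻¹ * ((r⁻¹ * (g' * r * g'⁻¹)) * g * g⁻¹)) := by rw [k2]
              _ = r⁻¹ * (g * r * g⁻¹) * (r⁻¹ * (g' * r * g'⁻¹)) := by group
          rw [e]
          exact mul_mem k3 k1
        inv_mem' := by
          rintro g ⟨h1, h2, h3⟩
          have h2' : ∀ r ∈ R ⊓ So, g⁻¹ * r = r * g⁻¹ := fun r hr => by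
            have := h2 r hr
            calc g⁻¹ * r = g⁻¹ * (r * g) * g⁻¹ := by group
              _ = g⁻¹ * (g * r) * g⁻¹ := by rw [this]
              _ = r * g⁻¹ := by group
          refine ⟨inv_mem h1, h2', ?_⟩
          intro r hr
          have k1 : g⁻¹ * r * g⁻¹⁻¹ ∈ R := (mem_normalizer_iff.mp (hYR (inv_mem h1)) r).mp hr
          have k2 := h3 _ k1
          have e : (g⁻¹ * r * g⁻¹⁻¹)⁻¹ * (g * (g⁻¹ * r * g⁻¹⁻¹) * g⁻¹) = g⁻¹ * r⁻¹ * g * r := by group
          rw [e] at k2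
          have k3 := inv_mem k2
          have k4 := h2' _ k3
          have e1 : r⁻¹ * (g⁻¹ * r * g⁻¹⁻¹) = (g⁻¹ * r⁻¹ * g * r)⁻¹ := by group
          rw [e1]
          exact k3 }
    have hKm : ∀ g, g ∈ K ↔ g ∈ Y ∧ (∀ r ∈ R ⊓ So, g * r = r * g) ∧ ∀ r ∈ R, r⁻¹ * (g * r * g⁻¹) ∈ R ⊓ So :=
      fun g => Iff.rfl
    have hKY : K ≤ Y := fun g hg => hg.1
    have hYK : Y ≤ normalizer (K : Set G) := by
      intro x hx
      refine mem_normalizer_of_cj_le ?_
      rintro _ ⟨g, hg, rfl⟩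
      obtain ⟨h1, h2, h3⟩ := (hKm g).mp hg
      change x * g * x⁻¹ ∈ K
      have hRo' : ∀ r ∈ R ⊓ So, x⁻¹ * r * x ∈ R ⊓ So := fun r hr =>
        (mem_normalizer_iff''.mp (hYRo hx) r).mp hr
      have hRo'' : ∀ r ∈ R ⊓ So, x * r * x⁻¹ ∈ R ⊓ So := fun r hr =>
        (mem_normalizer_iff.mp (hYRo hx) r).mp hr
      have hR' : ∀ r ∈ R, x⁻¹ * r * x ∈ R := fun r hr => (mem_normalizer_iff''.mp (hYR hx) r).mp hr
      refine (hKm _).mpr ⟨mul_mem (mul_mem hx h1) (inv_mem hx), ?_, ?_⟩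
      · intro r hr
        have k := h2 _ (hRo' r hr)
        calc x * g * x⁻¹ * r = x * (g * (x⁻¹ * r * x)) * x⁻¹ := by group
          _ = x * (x⁻¹ * r * x * g) * x⁻¹ := by rw [k]
          _ = r * (x * g * x⁻¹) := by group
      · intro r hr
        have k := hRo'' _ (h3 _ (hR' r hr))
        have e : x * ((x⁻¹ * r * x)⁻¹ * (g * (x⁻¹ * r * x) * g⁻¹)) * x⁻¹ =
            r⁻¹ * (x * g * x⁻¹ * r * (x * g * x⁻¹)⁻¹) := by group
        rwa [e] at k
    have hK2 : IsPGroup 2 K := by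
      -- `g ^ 2 ^ m` centralises `R`
      obtain ⟨m, hm⟩ := IsPGroup.iff_card.mp ((S.isPGroup'.to_le H.So_le).to_le (inf_le_right : R ⊓ So ≤ So))
      have hpow : ∀ g ∈ K, ∀ k : ℕ, ∀ r ∈ R, g ^ k * r * (g ^ k)⁻¹ = r * (r⁻¹ * (g * r * g⁻¹)) ^ k := by
        intro g hg k
        obtain ⟨h1, h2, h3⟩ := (hKm g).mp hg
        induction k with
        | zero => intro r hr; simp
        | succ k ih =>
          intro r hr
          have k1 := h3 r hr
          have k2 : g * (r⁻¹ * (g * r * g⁻¹)) ^ k = (r⁻¹ * (g * r * g⁻¹)) ^ k * g :=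
            h2 _ (pow_mem k1 k)
          have k4 : ∀ w : G, g * w = w * g → g * (r * w) * g⁻¹ = r * ((r⁻¹ * (g * r * g⁻¹)) * w) := by
            intro w hw
            calc g * (r * w) * g⁻¹ = (g * r * g⁻¹) * (g * w) * g⁻¹ := by group
              _ = (g * r * g⁻¹) * (w * g) * g⁻¹ := by rw [hw]
              _ = r * ((r⁻¹ * (g * r * g⁻¹)) * w) := by group
          calc g ^ (k + 1) * r * (g ^ (k + 1))⁻¹ = g * (g ^ k * r * (g ^ k)⁻¹) * g⁻¹ := by
                rw [pow_succ']; group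
            _ = g * (r * (r⁻¹ * (g * r * g⁻¹)) ^ k) * g⁻¹ := by rw [ih r hr]
            _ = r * ((r⁻¹ * (g * r * g⁻¹)) * (r⁻¹ * (g * r * g⁻¹)) ^ k) := k4 _ k2
            _ = r * (r⁻¹ * (g * r * g⁻¹)) ^ (k + 1) := by rw [pow_succ']
      rintro ⟨g, hg⟩
      have hgH : g ^ 2 ^ m ∈ H1 := pow_mem ((hKm g).mp hg).1.1 _
      have hgc : g ^ 2 ^ m ∈ centralizer (R : Set G) := by
        rw [mem_centralizer_iff]
        intro r hr
        have k1 := hpow g hg (2 ^ m) r hr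
        have k2 : (r⁻¹ * (g * r * g⁻¹)) ^ 2 ^ m = 1 := by
          rw [← hm]
          have k3 := ((hKm g).mp hg).2.2 r hr
          have k4 : (⟨r⁻¹ * (g * r * g⁻¹), k3⟩ : ↥(R ⊓ So)) ^ Nat.card ↥(R ⊓ So) = 1 := pow_card_eq_one'
          exact congrArg Subtype.val k4
        rw [k2, mul_one] at k1
        calc r * g ^ 2 ^ m = g ^ 2 ^ m * r * (g ^ 2 ^ m)⁻¹ * g ^ 2 ^ m := by rw [k1]
          _ = g ^ 2 ^ m * r := by group
      have hgR : g ^ 2 ^ m ∈ R := hch ⟨hgH, hgc⟩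
      obtain ⟨k, hk⟩ := hR2 ⟨_, hgR⟩
      refine ⟨m + k, ?_⟩
      have hk' : (g ^ 2 ^ m) ^ 2 ^ k = 1 := congrArg Subtype.val hk
      ext
      rw [← pow_mul, ← pow_add] at hk'
      exact hk'
    have hBK : B ≤ K := by
      intro c hc
      have hcr : ∀ r ∈ R ⊓ So, c * r = r * c := fun r hr => (mem_centralizer_iff.mp (hRoB hc) r hr).symm
      refine (hKm c).mpr ⟨hBY hc, hcr, ?_⟩
      intro r hr
      have hcR : c * r * c⁻¹ ∈ R := (mem_normalizer_iff.mp (hYR (hBY hc)) r).mp hr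
      by_cases hrS : r ∈ So
      · have k1 := hcr r ⟨hr, hrS⟩
        have e : r⁻¹ * (c * r * c⁻¹) = 1 := by rw [k1]; group
        rw [e]; exact one_mem _
      · have hcS : c * r * c⁻¹ ∉ So := by
          intro hcS
          have k1 := hcr _ ⟨hcR, hcS⟩
          apply hrS
          have k2 : c * r * c⁻¹ = r := by
            have k3 : c * (c * r * c⁻¹) = c * r := by rw [k1]; group
            exact mul_left_cancel k3
          rwa [k2] at hcS
        exact ⟨R.mul_mem (R.inv_mem hr) hcR, hidx r hr _ hcR hrS hcS⟩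
    have hKo : B ≤ o2 Y := hBK.trans (le_o2 hKY hK2 hYK)
    exact inf_o2_le hFY hKo hBF

end Cfsg.Agent.Omega.NO1.WRF.Single
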