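import Cfsg.Agent.Omega.NO1.WRF.Single
import Cfsg.Agent.Omega.Half.Blocks

/-!
# THEOREM WRF (bb OMEGA #16078), step (4): `|O| = 1` is impossible

`V = ⊕ Vf i`, permuted transitively by `P`, `W` a 2-subgroup of `P` which acts nontrivially on `V` and
centralises all `Vf j`, `j ≠ i₀`; these and `V ∩ Z` lie in `FF`: then `V ≤ O₂(C_G(FF))` (`single_fam`).
-/

set_option autoImplicit false
set_option linter.unusedSectionVars false

namespace Cfsg.Agent.Omega.NO1.WRF.Single

open Subgroup Cfsg Cfsg.Agent.ZN Cfsg.Agent.ZN.ChoiceBase Cfsg.Agent.Omega.MinPar Cfsg.Agent.Omega.Frame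
open Cfsg.Agent.Omega.NO1

universe u

variable {G : Type u} [Group G]

/-! ### Sums of a family of subgroups of an abelian group -/

theorem exists_mul_of_mem_sup {V A B : Subgroup G} (hVc : V ≤ centralizer (V : Set G)) (hA : A ≤ V) (hB : B ≤ V)
    {x : G} (hx : x ∈ A ⊔ B) : ∃ a ∈ A, ∃ b ∈ B, a * b = x := by
  have hAB : A ≤ normalizer (B : Set G) :=
    (hA.trans (hVc.trans (centralizer_le hB))).trans (centralizer_le_normalizer _)
  have h1 : x ∈ ((A ⊔ B : Subgroup G) : Set G) := hx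
  rw [coe_mul_of_left_le_normalizer_right _ _ hAB] at h1
  exact h1

variable {ι : Type*}

/-- the sum over `I` -/
def Vs (Vf : ι → Subgroup G) (I : Set ι) : Subgroup G := ⨆ i ∈ I, Vf i

variable {Vf : ι → Subgroup G}

theorem le_Vs {I : Set ι} {i : ι} (hi : i ∈ I) : Vf i ≤ Vs Vf I := le_biSup Vf hi

theorem Vs_le {I : Set ι} {X : Subgroup G} (h : ∀ i ∈ I, Vf i ≤ X) : Vs Vf I ≤ X := iSup₂_le h

theorem Vs_insert (i : ι) (I : Set ι) : Vs Vf (insert i I) = Vf i ⊔ Vs Vf I := by
  rw [Vs, iSup_insert, Vs]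

/-- the sums over disjoint sets are disjoint -/
theorem Vs_inf_Vs [Finite ι] {V : Subgroup G} (hVc : V ≤ centralizer (V : Set G)) (hle : ∀ i, Vf i ≤ V)
    (hind : iSupIndep Vf) {I J : Set ι} (h : Disjoint I J) : Vs Vf I ⊓ Vs Vf J = ⊥ := by
  have key : ∀ I : Set ι, I.Finite → ∀ J : Set ι, Disjoint I J → Vs Vf I ⊓ Vs Vf J = ⊥ := by
    intro I hI
    induction I, hI using Set.Finite.induction_on with
    | empty =>
      intro J _
      rw [eq_bot_iff]
      refine inf_le_left.trans (Vs_le fun i hi => absurd hi (Set.notMem_empty i))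
    | @insert i I hi _ ih =>
      intro J hJ
      rw [Set.disjoint_insert_left] at hJ
      rw [eq_bot_iff]
      rintro x ⟨hx1, hx2⟩
      rw [Vs_insert] at hx1
      obtain ⟨v, hv, y, hy, rfl⟩ := exists_mul_of_mem_sup hVc (hle i) (Vs_le fun j _ => hle j) hx1
      have h1 : v ∈ ⨆ (j) (_ : j ≠ i), Vf j := by
        have e : v = v * y * y⁻¹ := by group
        rw [e]
        have hle1 : ∀ K : Set ι, i ∉ K → Vs Vf K ≤ ⨆ (j) (_ : j ≠ i), Vf j := by
          intro K hK
          refine Vs_le fun j hj => ?_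
          exact le_biSup Vf (show j ≠ i from fun h => hK (h ▸ hj))
        exact mul_mem (hle1 J hJ.1 hx2) (inv_mem (hle1 I hi hy))
      have h2 : v = 1 := mem_bot.mp ((hind i).le_bot ⟨hv, h1⟩)
      subst h2
      have h3 := ih J hJ.2
      rw [one_mul] at hx2 ⊢
      rw [← h3]
      exact ⟨hy, hx2⟩
  exact key I (Set.toFinite I) J h

theorem Vs_sup_Vs {V : Subgroup G} (hsup : ⨆ i, Vf i = V) {I J : Set ι} (h : ∀ i, i ∈ I ∨ i ∈ J) :
    Vs Vf I ⊔ Vs Vf J = V := by
  rw [← hsup]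
  refine le_antisymm (sup_le (Vs_le fun i _ => le_iSup Vf i) (Vs_le fun i _ => le_iSup Vf i)) (iSup_le fun i => ?_)
  rcases h i with h | h
  · exact (le_Vs h).trans le_sup_left
  · exact (le_Vs h).trans le_sup_right

theorem cj_Vs_le {I J : Set ι} {x : G} (h : ∀ i ∈ I, ∃ j ∈ J, cj x (Vf i) = Vf j) : cj x (Vs Vf I) ≤ Vs Vf J := by
  rw [cj, Subgroup.map_le_iff_le_comap]
  refine Vs_le fun i hi => ?_
  rw [← Subgroup.map_le_iff_le_comap]
  obtain ⟨j, hj, e⟩ := h i hi
  exact e.le.trans (le_Vs hj)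

variable [Finite G]

/-- **(4)** : `|O| = 1` is impossible. -/
theorem single_fam [Finite ι] [Nontrivial ι] {S : Sylow 2 G} {P V W FF : Subgroup G} (h : Sit S P V)
    (hind : iSupIndep Vf) (hsup : ⨆ i, Vf i = V)
    (hperm : ∀ p ∈ P, ∀ i, ∃ j, cj p (Vf i) = Vf j) (htr : ∀ i j, ∃ p ∈ P, cj p (Vf i) = Vf j)
    (hWP : W ≤ P) (hW2 : IsPGroup 2 W) (hWV : ¬ W ≤ centralizer (V : Set G)) {i₀ : ι}
    (hWj : ∀ j, j ≠ i₀ → W ≤ centralizer (Vf j : Set G))
    (hFV : V ≤ centralizer (FF : Set G)) (hFc : FF ≤ centralizer (FF : Set G))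
    (hF2 : IsPGroup 2 FF) (hVF : ∀ j, j ≠ i₀ → Vf j ≤ FF) (hZF : V ⊓ zc (S : Subgroup G) ≤ FF) :
    V ≤ o2 (centralizer (FF : Set G)) := by
  classical
  have hle : ∀ i, Vf i ≤ V := fun i => hsup ▸ le_iSup Vf i
  -- no `Vf i` is trivial
  have hne0 : Vf i₀ ≠ ⊥ := by
    intro h0
    apply hWV
    rw [← hsup]
    intro w hw
    have : ⨆ i, Vf i ≤ centralizer ({w} : Set G) := by
      refine iSup_le fun i => ?_
      by_cases hi : i = i₀
      · subst hi; rw [h0]; exact bot_le
      · intro v hv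
        rw [mem_centralizer_singleton_iff]
        exact (mem_centralizer_iff.mp (hWj i hi hw) v hv)
    rw [mem_centralizer_iff]
    intro v hv
    exact (mem_centralizer_singleton_iff.mp (this hv))
  have hne : ∀ i, Vf i ≠ ⊥ := by
    intro i hi
    obtain ⟨p, -, hp⟩ := htr i i₀
    apply hne0
    rw [← hp, hi, cj, Subgroup.map_bot]
  have hinj : Function.Injective Vf := hind.injective hne
  -- the action on the indices
  have hcjm : ∀ (p q : G) (i j k : ι), cj p (Vf i) = Vf j → cj q (Vf j) = Vf k → cj (q * p) (Vf i) = Vf k := by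
    intro p q i j k h1 h2
    rw [← cj_cj, h1, h2]
  have hcji : ∀ (p : G) (i j : ι), cj p (Vf i) = Vf j → cj p⁻¹ (Vf j) = Vf i := by
    intro p i j h1
    rw [← h1, cj_cj, inv_mul_cancel, cj_one]
  -- `K`
  set K : Subgroup G := (⨆ p ∈ P, cj p W) ⊔ (P ⊓ centralizer (V : Set G)) with hK
  have hKP : K ≤ P := by
    refine sup_le (iSup₂_le fun p hp => ?_) inf_le_left
    rintro _ ⟨w, hw, rfl⟩
    exact mul_mem (mul_mem hp (hWP hw)) (inv_mem hp)
  have hPK : P ≤ normalizer (K : Set G) := by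
    intro x hx
    refine mem_normalizer_of_cj_le ?_
    rw [hK, cj, Subgroup.map_sup]
    refine sup_le ?_ ?_
    · rw [Subgroup.map_le_iff_le_comap]
      refine le_trans ?_ (Subgroup.comap_mono (le_sup_left :
        (⨆ p ∈ P, cj p W) ≤ (⨆ p ∈ P, cj p W) ⊔ (P ⊓ centralizer (V : Set G))))
      refine iSup₂_le fun p hp => ?_
      rw [← Subgroup.map_le_iff_le_comap]
      change cj x (cj p W) ≤ _
      rw [cj_cj]
      exact le_biSup (fun p => cj p W) (mul_mem hx hp)
    · refine le_trans ?_ le_sup_right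
      change cj x _ ≤ _
      rw [cj_inf, cj_eq_of_mem_normalizer (le_normalizer hx), cj_centralizer,
        cj_eq_of_mem_normalizer (h.norm hx)]
  -- `W` fixes `i₀`
  have hcen : ∀ {w : G} {i : ι}, w ∈ centralizer (Vf i : Set G) → cj w (Vf i) = Vf i := fun hw =>
    cj_eq_of_mem_normalizer (centralizer_le_normalizer _ hw)
  have hWi : ∀ w ∈ W, ∀ i, cj w (Vf i) = Vf i := by
    intro w hw i
    by_cases hi : i = i₀
    · subst hi
      obtain ⟨j, hj⟩ := hperm w (hWP hw) i
      by_cases hji : j = i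
      · rw [hj, hji]
      · exfalso
        have h1 := hcji w i j hj
        have h2 := hcen (inv_mem (hWj j hji hw))
        rw [h1] at h2
        exact hji (hinj h2).symm
    · exact hcen (hWj i hi hw)
  -- the conjugates of `W`
  have hWp : ∀ p ∈ P, ∃ i₁, cj p (Vf i₀) = Vf i₁ ∧ ∀ j, j ≠ i₁ → cj p W ≤ centralizer (Vf j : Set G) := by
    intro p hp
    obtain ⟨i₁, hi₁⟩ := hperm p hp i₀
    refine ⟨i₁, hi₁, fun j hj => ?_⟩
    obtain ⟨i, hi⟩ := hperm p⁻¹ (inv_mem hp) j
    have h1 : cj p (Vf i) = Vf j := by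
      have := hcji p⁻¹ j i hi
      rwa [inv_inv] at this
    have h2 : i ≠ i₀ := by
      rintro rfl
      rw [hi₁] at h1
      exact hj (hinj h1).symm
    rw [← h1, ← cj_centralizer]
    exact cj_mono p (hWj i h2)
  have hKi : ∀ k ∈ K, ∀ i, cj k (Vf i) = Vf i := by
    have h1 : K ≤ ⨅ i, normalizer (Vf i : Set G) := by
      refine sup_le (iSup₂_le fun p hp => le_iInf fun i => ?_) (le_iInf fun i => ?_)
      · rintro _ ⟨w, hw, rfl⟩
        change p * w * p⁻¹ ∈ _
        refine mem_normalizer_of_cj_le ?_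
        obtain ⟨j, hj⟩ := hperm p⁻¹ (inv_mem hp) i
        rw [← cj_cj, hj, ← cj_cj, hWi w hw j]
        have := hcji p⁻¹ i j hj
        rw [inv_inv] at this
        exact this.le
      · exact (inf_le_right.trans (centralizer_le (hle i))).trans (centralizer_le_normalizer _)
    intro k hk i
    exact cj_eq_of_mem_normalizer ((mem_iInf.mp (h1 hk)) i)
  -- `P = K S`
  have hKS : K ⊔ (S : Subgroup G) = P := by
    rcases h.par.sup_eq_or_inf_le S hKP hPK with h1 | h1
    · exact h1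
    · exfalso
      have hS : ChoiceSit.Syl (S : Subgroup G) P := ⟨h.par.le, S.isPGroup', fun R _ hR hSR => S.is_maximal' hR hSR⟩
      obtain ⟨R, hR, hWR⟩ := ChoiceSit.exists_syl hW2 hWP
      obtain ⟨p, hp, hpR⟩ := ChoiceSit.syl_conj hR hS
      have h2 : cj p W ≤ (S : Subgroup G) ⊓ K := by
        refine le_inf ?_ ?_
        · rw [← hpR]; exact cj_mono p hWR
        · exact (le_biSup (fun p => cj p W) hp).trans le_sup_left
      have h3 : cj p W ≤ centralizer (V : Set G) := by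
        exact (h2.trans h1).trans h.o2_le
      apply hWV
      have h4 := cj_mono p⁻¹ h3
      rw [cj_cj, inv_mul_cancel, cj_one, cj_centralizer,
        cj_eq_of_mem_normalizer (inv_mem (h.norm hp))] at h4
      exact h4
  have hdec : ∀ p ∈ P, ∃ k ∈ K, ∃ s ∈ (S : Subgroup G), k * s = p := by
    intro p hp
    have h1 : p ∈ (((S : Subgroup G) ⊔ K : Subgroup G) : Set G) := by
      rw [sup_comm, hKS]; exact hp
    rw [coe_mul_of_left_le_normalizer_right _ _ (h.par.le.trans hPK)] at h1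
    obtain ⟨s, hs, k, hk, rfl⟩ := h1
    refine ⟨s * k * s⁻¹, (mem_normalizer_iff.mp (hPK (h.par.le hs)) k).mp hk, s, hs, ?_⟩
    change s * k * s⁻¹ * s = s * k
    group
  -- `S` is transitive
  have hStr : ∀ i j, ∃ s ∈ (S : Subgroup G), cj s (Vf i) = Vf j := by
    intro i j
    obtain ⟨p, hp, hpij⟩ := htr i j
    obtain ⟨k, hk, s, hs, rfl⟩ := hdec p hp
    refine ⟨s, hs, ?_⟩
    obtain ⟨m, hm⟩ := hperm s (h.par.le hs) i
    rw [← cj_cj, hm, hKi k hk m] at hpij
    rw [hm, hpij]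
  -- `So`
  obtain ⟨So, hSo1, hSoS, hidx⟩ := Half.exists_index_two (T := (S : Subgroup G))
    (A := (S : Subgroup G) ⊓ normalizer (Vf i₀ : Set G)) S.isPGroup' inf_le_left (by
      intro h1
      obtain ⟨i₁, hi₁⟩ := exists_ne i₀
      obtain ⟨s, hs, hsi⟩ := hStr i₀ i₁
      have h2 := cj_eq_of_mem_normalizer (h1 hs).2
      rw [h2] at hsi
      exact hi₁ (hinj hsi).symm)
  set J₂ : Set ι := {i | ∃ s ∈ So, cj s (Vf i₀) = Vf i} with hJ₂
  set J₁ : Set ι := {i | ∃ s ∈ (S : Subgroup G), s ∉ So ∧ cj s (Vf i₀) = Vf i} with hJ₁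
  have hcov : ∀ i, i ∈ J₁ ∨ i ∈ J₂ := by
    intro i
    obtain ⟨s, hs, hsi⟩ := hStr i₀ i
    by_cases hso : s ∈ So
    · exact Or.inr ⟨s, hso, hsi⟩
    · exact Or.inl ⟨s, hs, hso, hsi⟩
  have hdisj : Disjoint J₁ J₂ := by
    rw [Set.disjoint_left]
    rintro i ⟨s, hs, hso, hsi⟩ ⟨t, ht, hti⟩
    apply hso
    have h1 : t⁻¹ * s ∈ So := by
      refine hSo1 ⟨Subgroup.mul_mem _ (Subgroup.inv_mem _ (hSoS ht)) hs, ?_⟩
      refine mem_normalizer_of_cj_le ?_
      rw [← cj_cj, hsi, hcji t _ _ hti]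
    have e : s = t * (t⁻¹ * s) := by group
    rw [e]
    exact So.mul_mem ht h1
  have hi₀ : i₀ ∈ J₂ := ⟨1, one_mem _, cj_one _⟩
  have hi₁ : i₀ ∉ J₁ := fun h1 => Set.disjoint_left.mp hdisj h1 hi₀
  -- the moves
  have mSoJ₂ : ∀ s ∈ So, ∀ i ∈ J₂, ∃ j ∈ J₂, cj s (Vf i) = Vf j := by
    rintro s hs i ⟨t, ht, hti⟩
    obtain ⟨j, hj⟩ := hperm s (h.par.le (hSoS hs)) i
    exact ⟨j, ⟨s * t, mul_mem hs ht, hcjm _ _ _ _ _ hti hj⟩, hj⟩
  have mSoJ₁ : ∀ s ∈ So, ∀ i ∈ J₁, ∃ j ∈ J₁, cj s (Vf i) = Vf j := by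
    rintro s hs i ⟨t, ht, hto, hti⟩
    obtain ⟨j, hj⟩ := hperm s (h.par.le (hSoS hs)) i
    refine ⟨j, ⟨s * t, mul_mem (hSoS hs) ht, ?_, hcjm _ _ _ _ _ hti hj⟩, hj⟩
    intro h1
    exact hto ((mul_mem_cancel_left hs).mp h1)
  have mSJ₂ : ∀ s ∈ (S : Subgroup G), s ∉ So → ∀ i ∈ J₂, ∃ j ∈ J₁, cj s (Vf i) = Vf j := by
    rintro s hs hso i ⟨t, ht, hti⟩
    obtain ⟨j, hj⟩ := hperm s (h.par.le hs) i
    refine ⟨j, ⟨s * t, mul_mem hs (hSoS ht), ?_, hcjm _ _ _ _ _ hti hj⟩, hj⟩
    intro h1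
    exact hso ((mul_mem_cancel_right ht).mp h1)
  have mSJ₁ : ∀ s ∈ (S : Subgroup G), s ∉ So → ∀ i ∈ J₁, ∃ j ∈ J₂, cj s (Vf i) = Vf j := by
    rintro s hs hso i ⟨t, ht, hto, hti⟩
    obtain ⟨j, hj⟩ := hperm s (h.par.le hs) i
    refine ⟨j, ⟨s * t, ?_, hcjm _ _ _ _ _ hti hj⟩, hj⟩
    exact (Half.mul_mem_of_index_two hidx hs ht).mpr (iff_of_false hso hto)
  set A : Subgroup G := Vs Vf J₁ with hA
  set B : Subgroup G := Vs Vf J₂ with hB
  have hAB : A ⊓ B = ⊥ := Vs_inf_Vs h.comm hle hind hdisj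
  have hABs : A ⊔ B = V := Vs_sup_Vs hsup hcov
  have hAV : A ≤ V := hABs ▸ le_sup_left
  have hBV : B ≤ V := hABs ▸ le_sup_right
  have hSoA : So ≤ normalizer (A : Set G) := fun s hs => mem_normalizer_of_cj_le (cj_Vs_le (mSoJ₁ s hs))
  have hSoB : So ≤ normalizer (B : Set G) := fun s hs => mem_normalizer_of_cj_le (cj_Vs_le (mSoJ₂ s hs))
  have hKA : K ≤ normalizer (A : Set G) := fun k hk =>
    mem_normalizer_of_cj_le (cj_Vs_le fun i hi => ⟨i, hi, hKi k hk i⟩)
  have hKB : K ≤ normalizer (B : Set G) := fun k hk =>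
    mem_normalizer_of_cj_le (cj_Vs_le fun i hi => ⟨i, hi, hKi k hk i⟩)
  have hsw : ∀ s ∈ (S : Subgroup G), s ∉ So → cj s A = B ∧ cj s B = A := by
    intro s hs hso
    have hso' : s⁻¹ ∉ So := fun h1 => hso (by simpa using inv_mem h1)
    have h1 : cj s A ≤ B := cj_Vs_le (mSJ₁ s hs hso)
    have h2 : cj s B ≤ A := cj_Vs_le (mSJ₂ s hs hso)
    have h3 : cj s⁻¹ A ≤ B := cj_Vs_le (mSJ₁ _ (inv_mem hs) hso')
    have h4 : cj s⁻¹ B ≤ A := cj_Vs_le (mSJ₂ _ (inv_mem hs) hso')
    refine ⟨le_antisymm h1 ?_, le_antisymm h2 ?_⟩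
    · have := cj_mono s h4
      rwa [cj_cj_inv] at this
    · have := cj_mono s h3
      rwa [cj_cj_inv] at this
  have hAne : A ≠ ⊥ := by
    intro h1
    obtain ⟨i₁, hi⟩ := exists_ne i₀
    -- `J₁` is not empty
    obtain ⟨s, hs, hso⟩ : ∃ s ∈ (S : Subgroup G), s ∉ So := by
      by_contra hcon
      push Not at hcon
      have : So.relIndex (S : Subgroup G) = 1 := relIndex_eq_one.mpr hcon
      omega
    obtain ⟨j, hj, -⟩ := mSJ₂ s hs hso i₀ hi₀
    exact hne j (le_bot_iff.mp (h1 ▸ le_Vs hj))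
  have hABne : A ≠ B := by
    intro h1
    rw [← h1, inf_idem] at hAB
    exact hAne hAB
  have hSA : (S : Subgroup G) ⊓ normalizer (A : Set G) ≤ So := by
    rintro s ⟨hs, hsA⟩
    by_contra hso
    have h1 := (hsw s hs hso).1
    rw [cj_eq_of_mem_normalizer hsA] at h1
    exact hABne h1
  have hSB : (S : Subgroup G) ⊓ normalizer (B : Set G) ≤ So := by
    rintro s ⟨hs, hsB⟩
    by_contra hso
    have h1 := (hsw s hs hso).2
    rw [cj_eq_of_mem_normalizer hsB] at h1
    exact hABne h1.symm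
  have hPA : P ⊓ normalizer (A : Set G) ≤ normalizer (B : Set G) := by
    rintro p ⟨hp, hpA⟩
    obtain ⟨k, hk, s, hs, rfl⟩ := hdec p hp
    have h1 : s ∈ normalizer (A : Set G) := by
      have e : s = k⁻¹ * (k * s) := by group
      rw [e]; exact mul_mem (inv_mem (hKA hk)) hpA
    exact mul_mem (hKB hk) (hSoB (hSA ⟨hs, h1⟩))
  have hPB : P ⊓ normalizer (B : Set G) ≤ normalizer (A : Set G) := by
    rintro p ⟨hp, hpA⟩
    obtain ⟨k, hk, s, hs, rfl⟩ := hdec p hp
    have h1 : s ∈ normalizer (B : Set G) := by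
      have e : s = k⁻¹ * (k * s) := by group
      rw [e]; exact mul_mem (inv_mem (hKB hk)) hpA
    exact mul_mem (hKA hk) (hSoA (hSB ⟨hs, h1⟩))
  have hPair : Pair S P V A B So := by
    refine ⟨hABs, hAB, hSoS, hidx, hSoA, hSoB, ?_, ?_, hSA, ?_, ?_⟩
    · by_contra hcon
      push Not at hcon
      have : So.relIndex (S : Subgroup G) = 1 := by
        refine relIndex_eq_one.mpr fun s hs => ?_
        by_contra hso
        exact hcon s hs (hsw s hs hso).1 (hsw s hs hso).2
      omega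
    · intro p hp
      refine mem_normalizer_of_cj_le ?_
      obtain ⟨k, hk, s, hs, rfl⟩ := hdec p hp
      by_cases hso : s ∈ So
      · rw [cj_inf, cj_eq_of_mem_normalizer (le_normalizer hp)]
        refine inf_le_inf_left _ ?_
        refine (cj_eq_of_mem_normalizer (le_normalizer ?_)).le
        exact mul_mem (hKA hk) (hSoA hso)
      · rw [cj_inf, cj_eq_of_mem_normalizer (le_normalizer hp)]
        refine le_inf inf_le_left ?_
        have h1 : cj (k * s) (normalizer (A : Set G)) = normalizer (B : Set G) := by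
          rw [cj_normalizer, ← cj_cj, (hsw s hs hso).1, cj_eq_of_mem_normalizer (hKB hk)]
        rw [h1]
        exact hPB
    · exact (inf_le_inf_left P (centralizer_le_normalizer _)).trans hPA
    · intro X hXB hDX hpr
      have hXV : X ≤ V := hXB.trans hBV
      -- `K` normalises `A X`
      have hKX : K ≤ normalizer ((A ⊔ X : Subgroup G) : Set G) := by
        refine sup_le (iSup₂_le fun p hp => ?_) ?_
        · obtain ⟨i₁, hi₁, hcen₁⟩ := hWp p hp
          have hpW : cj p W ≤ K := (le_biSup (fun p => cj p W) hp).trans le_sup_left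
          intro w hw
          refine mem_normalizer_of_cj_le ?_
          rw [cj, Subgroup.map_sup]
          refine sup_le_sup (cj_eq_of_mem_normalizer (hKA (hpW hw))).le ?_
          rcases hcov i₁ with h1 | h1
          · -- `w` centralises `B`
            have h2 : w ∈ centralizer (X : Set G) := by
              refine centralizer_le hXB ?_
              rw [mem_centralizer_iff]
              intro b hb
              have h3 : B ≤ centralizer ({w} : Set G) := by
                refine Vs_le fun j hj => ?_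
                intro v hv
                rw [mem_centralizer_singleton_iff]
                exact mem_centralizer_iff.mp (hcen₁ j (fun h => Set.disjoint_left.mp hdisj h1 (h ▸ hj)) hw) v hv
              exact mem_centralizer_singleton_iff.mp (h3 hb)
            exact (cj_eq_of_mem_normalizer (centralizer_le_normalizer _ h2)).le
          · -- `w` centralises `A`
            have h2 : w ∈ centralizer (A : Set G) := by
              rw [mem_centralizer_iff]
              intro a ha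
              have h3 : A ≤ centralizer ({w} : Set G) := by
                refine Vs_le fun j hj => ?_
                intro v hv
                rw [mem_centralizer_singleton_iff]
                exact mem_centralizer_iff.mp (hcen₁ j (fun h => Set.disjoint_left.mp hdisj hj (h ▸ h1)) hw) v hv
              exact mem_centralizer_singleton_iff.mp (h3 ha)
            exact (cj_eq_of_mem_normalizer (hDX ⟨hKP (hpW hw), h2⟩)).le
        · refine (inf_le_right.trans (centralizer_le ?_)).trans (centralizer_le_normalizer _)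
          exact sup_le hAV hXV
      -- `Z ≤ A X`
      have hZX : ∀ z ∈ V, z ∈ zc (S : Subgroup G) → z ∈ A ⊔ X := by
        intro z hzV' hz
        have hzV : z ∈ A ⊔ B := by rw [hABs]; exact hzV'
        obtain ⟨a, ha, b, hb, rfl⟩ := exists_mul_of_mem_sup h.comm hAV hBV hzV
        exact mul_mem_sup ha (hpr a ha b hb hz)
      have hVX : V ≤ A ⊔ X := by
        refine h.gen _ fun p hp z hzV hz => ?_
        obtain ⟨k, hk, s, hs, rfl⟩ := hdec p hp
        have h1 : s * z * s⁻¹ = z := by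
          have h0 := (ChoiceBase.mem_zc.1 hz).2.2 s hs
          calc s * z * s⁻¹ = z * s * s⁻¹ := by rw [h0]
            _ = z := by group
        have e : k * s * z * (k * s)⁻¹ = k * z * k⁻¹ := by
          calc k * s * z * (k * s)⁻¹ = k * (s * z * s⁻¹) * k⁻¹ := by group
            _ = k * z * k⁻¹ := by rw [h1]
        rw [e]
        exact (mem_normalizer_iff.mp (hKX hk) z).mp (hZX z hzV hz)
      intro b hb
      obtain ⟨a, ha, x, hx, e⟩ := exists_mul_of_mem_sup h.comm hAV hXV (hVX (hBV hb))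
      have h1 : a ∈ A ⊓ B := by
        refine ⟨ha, ?_⟩
        have : a = b * x⁻¹ := by rw [← e]; group
        rw [this]
        exact B.mul_mem hb (B.inv_mem (hXB hx))
      rw [hAB, mem_bot] at h1
      rw [h1, one_mul] at e
      rw [← e]; exact hx
  exact single h (fun h0 => hne i₀ (le_bot_iff.mp (h0 ▸ hle i₀))) hPair hFV hFc hF2 (Vs_le fun j hj => hVF j fun h1 => hi₁ (h1 ▸ hj)) hZF

end Cfsg.Agent.Omega.NO1.WRF.Single
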