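import Cfsg.Agent.Omega.NO1.WRF.Orbit
import Cfsg.Agent.Omega.FFThmM
import Cfsg.Agent.Omega.NOne.Flat.Six

/-!
# THEOREM WRF (bb OMEGA #16078), first part of step (3): `|O| = 2`

`TwoS V E F W Vf i j s` : `FlatM V E F W`, `V = ⊕ Vf k` permuted by `W`, `Vf i ≰ E`, `W` maps `Vf i` to `Vf i` or
`Vf j = (Vf i)ˢ`, the other members are in `F`; no offender in `W`; `|V/E| < |E/F|`.
Then `|Vf i| = 4` (`TwoS.card_four`) and `N_W(Vf i)` is nontrivial on `V` (`TwoS.exists_a`).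
-/

set_option autoImplicit false
set_option linter.unusedSectionVars false

namespace Cfsg.Agent.Omega.NO1.WRF

open Subgroup
open Cfsg.Agent.Omega.FFThm (ElemM OffM)
open Cfsg.Agent.Omega.NOne.Flat (Cos)

universe u v

variable {G : Type u} [Group G] {ι : Type v}

theorem relIndex_le_two' {H K : Subgroup G}
    (h : ∀ a ∈ K, ∀ b ∈ K, a ∉ H → b ∉ H → a⁻¹ * b ∈ H) : H.relIndex K ≤ 2 := by
  by_cases hle : K ≤ H
  · rw [relIndex_eq_one.mpr hle]; norm_num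
  obtain ⟨a, ha, haH⟩ := SetLike.not_le_iff_exists.1 hle
  have : H.relIndex K = 2 := by
    rw [relIndex_eq_two_iff_exists_notMem_and]
    refine ⟨a⁻¹, inv_mem ha, fun h1 => haH (by simpa using inv_mem h1), fun b hb => ?_⟩
    by_cases hbH : b ∈ H
    · exact Or.inr hbH
    · left
      have h1 := h b⁻¹ (inv_mem hb) a⁻¹ (inv_mem ha) (fun h1 => hbH (by simpa using inv_mem h1))
        (fun h1 => haH (by simpa using inv_mem h1))
      rwa [inv_inv] at h1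
  rw [this]

namespace FlatM

variable {V E F W : Subgroup G} (h : FlatM V E F W) (hVc : ∀ a ∈ V, ∀ b ∈ V, a * b = b * a)
include h hVc

/-- `[w,a] ∈ F` for one `w ∈ V - E` implies `[E,a] = 1`. -/
theorem cent_E {w a : G} (hw : w ∈ V) (hwE : w ∉ E) (ha : a ∈ W) (hc : w⁻¹ * (a * w * a⁻¹) ∈ F) {e : G}
    (he : e ∈ E) : a * e * a⁻¹ = e := by
  obtain ⟨t, ht, f, hf, rfl⟩ := h.reg w hw hwE e he
  obtain ⟨g, hg, hgd⟩ : ∃ g ∈ F, a * w * a⁻¹ = w * g := ⟨_, hc, by group⟩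
  have htw := h.norm t ht w hw
  have e1 : a * (t * w * t⁻¹) * a⁻¹ = (t * w * t⁻¹) * g := by
    rw [h.ab a ha t ht w hw, hgd]
    calc t * (w * g) * t⁻¹ = (t * w * t⁻¹) * (t * g * t⁻¹) := by group
      _ = _ := by rw [h.F_cent hg ht]
  have c1 := hVc g (h.F_le hg) (w⁻¹ * (t * w * t⁻¹)) (mul_mem (inv_mem hw) htw)
  calc a * (w⁻¹ * (t * w * t⁻¹) * f) * a⁻¹ = (a * w * a⁻¹)⁻¹ * (a * (t * w * t⁻¹) * a⁻¹) * (a * f * a⁻¹) := by
        group
    _ = (w * g)⁻¹ * ((t * w * t⁻¹) * g) * f := by rw [hgd, e1, h.F_cent hf ha]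
    _ = g⁻¹ * (w⁻¹ * (t * w * t⁻¹) * g) * f := by group
    _ = g⁻¹ * (g * (w⁻¹ * (t * w * t⁻¹))) * f := by rw [c1]
    _ = _ := by group

/-- `[w,a] ∈ F` for one `w ∈ V - E` implies `[V,a] ≤ F`. -/
theorem comm_F {w a : G} (hw : w ∈ V) (hwE : w ∉ E) (ha : a ∈ W) (hc : w⁻¹ * (a * w * a⁻¹) ∈ F) {v : G}
    (hv : v ∈ V) : v⁻¹ * (a * v * a⁻¹) ∈ F := by
  have hav := h.norm a ha v hv
  refine h.mem_F (mul_mem (inv_mem hv) hav) fun t ht => ?_
  have he := h.VE t ht v hv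
  obtain ⟨e, he, hed⟩ : ∃ e ∈ E, t * v * t⁻¹ = v * e := ⟨_, he, by group⟩
  have h1 := h.cent_E hVc hw hwE ha hc he
  have c1 := hVc e (h.le he) (v⁻¹ * (a * v * a⁻¹)) (mul_mem (inv_mem hv) hav)
  calc t * (v⁻¹ * (a * v * a⁻¹)) * t⁻¹ = (t * v * t⁻¹)⁻¹ * (t * (a * v * a⁻¹) * t⁻¹) := by group
    _ = (t * v * t⁻¹)⁻¹ * (a * (t * v * t⁻¹) * a⁻¹) := by rw [h.ab t ht a ha v hv]
    _ = (v * e)⁻¹ * ((a * v * a⁻¹) * (a * e * a⁻¹)) := by rw [hed]; group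
    _ = e⁻¹ * (v⁻¹ * (a * v * a⁻¹) * e) := by rw [h1]; group
    _ = e⁻¹ * (e * (v⁻¹ * (a * v * a⁻¹))) := by rw [c1]
    _ = _ := by group

omit hVc in
/-- `W` acts as an elementary abelian group -/
theorem elemM {A : Subgroup G} (hA : A ≤ W) : ElemM V A := by
  refine ⟨?_, ?_⟩
  · intro u hu
    rw [mem_centralizer_iff]
    intro v hv
    have h4 := h.inv u (hA hu) v hv
    have e : u * (u * v * u⁻¹) * u⁻¹ = u ^ 2 * v * (u ^ 2)⁻¹ := by rw [pow_two]; group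
    rw [e, mul_inv_eq_iff_eq_mul] at h4
    exact h4.symm
  · intro u hu t ht
    rw [mem_centralizer_iff]
    intro v hv
    have h4 := h.ab u (hA hu) t (hA ht) (t⁻¹ * (u⁻¹ * v * u) * t) (by
      have e : t⁻¹ * (u⁻¹ * v * u) * t = t⁻¹ * (u⁻¹ * v * u⁻¹⁻¹) * t⁻¹⁻¹ := by group
      rw [e]
      exact h.norm _ (inv_mem (hA ht)) _ (h.norm _ (inv_mem (hA hu)) v hv))
    have e1 : u * (t * (t⁻¹ * (u⁻¹ * v * u) * t) * t⁻¹) * u⁻¹ = v := by group
    have e2 : t * (u * (t⁻¹ * (u⁻¹ * v * u) * t) * u⁻¹) * t⁻¹ =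
        (u * t * u⁻¹ * t⁻¹)⁻¹ * v * (u * t * u⁻¹ * t⁻¹) := by group
    rw [e1, e2] at h4
    conv_rhs => rw [h4]
    group

end FlatM

/-- The configuration `|O| = 2`. -/
structure TwoS (V E F W : Subgroup G) (Vf : ι → Subgroup G) (i j : ι) (s : G) : Prop where
  flat : FlatM V E F W
  dec : Dec V Vf
  perm : Perm W Vf
  ne : ∀ k, Vf k ≠ ⊥
  lt : E.relIndex V < F.relIndex E
  hij : j ≠ i
  sW : s ∈ W
  sij : (Vf i).map (MulAut.conj s).toMonoidHom = Vf j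
  two : ∀ u ∈ W, (Vf i).map (MulAut.conj u).toMonoidHom = Vf i ∨ (Vf i).map (MulAut.conj u).toMonoidHom = Vf j
  nE : ¬ Vf i ≤ E
  hF : ∀ k, k ≠ i → k ≠ j → Vf k ≤ F
  noff : ∀ A : Subgroup G, A ≤ W → ¬ OffM V A
  pg : IsPGroup 2 V

namespace TwoS

variable {V E F W : Subgroup G} {Vf : ι → Subgroup G} {i j : ι} {s : G} (h : TwoS V E F W Vf i j s)
include h

/-- the stabiliser of `Vf i` in `W` -/
abbrev AA (W : Subgroup G) (Vf : ι → Subgroup G) (i : ι) : Subgroup G := W ⊓ normalizer (Vf i : Set G)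

omit h in
theorem map_of_mem {u : G} (hu : u ∈ AA W Vf i) : (Vf i).map (MulAut.conj u).toMonoidHom = Vf i := by
  refine map_eq_of (fun x hx => (mem_normalizer_iff.mp hu.2 x).mp hx) fun y hy => ?_
  refine ⟨u⁻¹ * y * u, ?_, by group⟩
  have h1 := (mem_normalizer_iff.mp (inv_mem hu.2) y).mp hy
  rwa [inv_inv] at h1

omit h in
theorem mem_of_map {u : G} (hu : u ∈ W) (h1 : (Vf i).map (MulAut.conj u).toMonoidHom = Vf i) : u ∈ AA W Vf i := by
  refine ⟨hu, mem_normalizer_iff.mpr fun x => ⟨fun hx => conj_mem_of_eq h1 hx, fun hx => ?_⟩⟩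
  have h2 := conj_mem_of_eq (map_inv h1) hx
  have e : u⁻¹ * (u * x * u⁻¹) * u⁻¹⁻¹ = x := by group
  rwa [e] at h2

theorem conj_i {u x : G} (hu : u ∈ AA W Vf i) (hx : x ∈ Vf i) : u * x * u⁻¹ ∈ Vf i :=
  (mem_normalizer_iff.mp hu.2 x).mp hx

theorem map_j {u : G} (hu : u ∈ AA W Vf i) : (Vf j).map (MulAut.conj u).toMonoidHom = Vf j := by
  have hle := h.dec.le i
  apply map_eq_of
  · intro y hy
    obtain ⟨x, hx, rfl⟩ := mem_of_conj_mem h.sij hy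
    rw [h.flat.ab u hu.1 s h.sW x (hle hx)]
    exact conj_mem_of_eq h.sij (conj_i h hu hx)
  · intro y hy
    obtain ⟨x, hx, rfl⟩ := mem_of_conj_mem h.sij hy
    obtain ⟨z, hz, rfl⟩ := mem_of_conj_mem (map_of_mem hu) hx
    exact ⟨s * z * s⁻¹, conj_mem_of_eq h.sij hz, h.flat.ab u hu.1 s h.sW z (hle hz)⟩

theorem map_k {u : G} (hu : u ∈ W) {k : ι} (hki : k ≠ i) (hkj : k ≠ j) :
    (Vf k).map (MulAut.conj u).toMonoidHom = Vf k := by
  have hk := h.hF k hki hkj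
  apply map_eq_of
  · intro y hy
    rw [h.flat.F_cent (hk hy) hu]
    exact hy
  · intro y hy
    exact ⟨y, hy, h.flat.F_cent (hk hy) hu⟩

variable [Finite ι]

/-- `F ∩ Vf i = 1` -/
theorem F_inf {x : G} (hx : x ∈ Vf i) (hxF : x ∈ F) : x = 1 := by
  have h1 := conj_mem_of_eq h.sij hx
  rw [h.flat.F_cent hxF h.sW] at h1
  have h2 := h.dec.cd_self h1
  rw [h.dec.cd_other hx h.hij] at h2
  exact h2.symm

/-- an element of `N_W(Vf i)` which centralises some `w ∈ Vf i - E` centralises `V` -/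
theorem cent {u w : G} (hu : u ∈ AA W Vf i) (hw : w ∈ Vf i) (hwE : w ∉ E) (hc : u * w * u⁻¹ = w) :
    u ∈ centralizer (V : Set G) := by
  have hle := h.dec.le i
  have h0 : w⁻¹ * (u * w * u⁻¹) ∈ F := by rw [hc, inv_mul_cancel]; exact one_mem _
  have h1 : ∀ x ∈ Vf i, u * x * u⁻¹ = x := by
    intro x hx
    have h2 := h.flat.comm_F h.dec.comm (hle hw) hwE hu.1 h0 (hle hx)
    have h3 := h.F_inf (mul_mem (inv_mem hx) (conj_i h hu hx)) h2
    exact (inv_mul_eq_one.mp h3).symm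
  have h2 : V ≤ centralizer ({u} : Set G) := by
    rw [← h.dec.sup]
    refine iSup_le fun k x hx => ?_
    rw [mem_centralizer_singleton_iff, eq_comm, ← mul_inv_eq_iff_eq_mul]
    by_cases hki : k = i
    · subst hki
      exact h1 x hx
    by_cases hkj : k = j
    · subst hkj
      obtain ⟨y, hy, rfl⟩ := mem_of_conj_mem h.sij hx
      rw [h.flat.ab u hu.1 s h.sW y (hle hy), h1 y hy]
    · exact h.flat.F_cent (h.hF k hki hkj hx) hu.1
  rw [mem_centralizer_iff]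
  intro v hv
  exact mem_centralizer_singleton_iff.mp (h2 hv)

/-- `N_W(Vf i)` is nontrivial on `V` -/
theorem exists_a [Finite G] : ∃ a ∈ AA W Vf i, a ∉ centralizer (V : Set G) := by
  by_contra hcon
  push Not at hcon
  obtain ⟨w, hw, hwE⟩ := SetLike.not_le_iff_exists.1 h.nE
  have hle := h.dec.le i
  have hwV := hle hw
  have hA : ∀ u ∈ AA W Vf i, u * w * u⁻¹ = w := fun u hu => by
    rw [← mem_centralizer_iff.mp (hcon u hu) w hwV, mul_assoc, mul_inv_cancel, mul_one]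
  have hW : ∀ u ∈ W, u * w * u⁻¹ = w ∨ u * w * u⁻¹ = s * w * s⁻¹ := by
    intro u hu
    rcases h.two u hu with h1 | h1
    · exact Or.inl (hA u (mem_of_map hu h1))
    · right
      have h2 : s⁻¹ * u ∈ AA W Vf i := mem_of_map (mul_mem (inv_mem h.sW) hu) (map_mul h1 (map_inv h.sij))
      have h3 := hA _ h2
      calc u * w * u⁻¹ = s * (s⁻¹ * u * w * (s⁻¹ * u)⁻¹) * s⁻¹ := by group
        _ = _ := by rw [h3]
  have h2 : F.relIndex E ≤ 2 := by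
    refine relIndex_le_two' fun a ha b hb haF hbF => ?_
    have key : ∀ e ∈ E, e ∉ F → w⁻¹ * (s * w * s⁻¹) * e⁻¹ ∈ F := by
      intro e he heF
      obtain ⟨u, hu, f, hf, rfl⟩ := h.flat.reg w hwV hwE e he
      rcases hW u hu with h3 | h3
      · exfalso
        apply heF
        rw [h3, inv_mul_cancel, one_mul]
        exact hf
      · rw [h3]
        have c1 := h.dec.comm (w⁻¹ * (s * w * s⁻¹)) (mul_mem (inv_mem hwV) (h.flat.norm s h.sW w hwV)) _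
          (h.flat.F_le hf)
        rw [c1, mul_inv_rev]
        have e1 : w⁻¹ * (s * w * s⁻¹) * ((w⁻¹ * (s * w * s⁻¹))⁻¹ * f⁻¹) = f⁻¹ := by group
        rw [e1]
        exact inv_mem hf
    have h3 := mul_mem (inv_mem (key a ha haF)) (key b hb hbF)
    have e1 : (w⁻¹ * (s * w * s⁻¹) * a⁻¹)⁻¹ * (w⁻¹ * (s * w * s⁻¹) * b⁻¹) = a * b⁻¹ := by group
    rw [e1] at h3
    have c1 := h.dec.comm a⁻¹ (inv_mem (h.flat.le ha)) b (h.flat.le hb)
    rw [c1]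
    have h4 := inv_mem h3
    rwa [mul_inv_rev, inv_inv] at h4
  have h3 : 2 ≤ E.relIndex V := by
    have h4 : E.relIndex V ≠ 1 := fun h4 => h.flat.ne' (relIndex_eq_one.mp h4)
    have h5 : E.relIndex V ≠ 0 := Subgroup.index_ne_zero_of_finite
    omega
  have := h.lt
  omega

/-- `E ∩ Vf i = C_{Vf i}(N_W(Vf i))` -/
theorem mem_E_iff [Finite G] {x : G} (hx : x ∈ Vf i) : x ∈ E ↔ ∀ u ∈ AA W Vf i, u * x * u⁻¹ = x := by
  have hle := h.dec.le i
  constructor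
  · intro hxE u hu
    have hf := h.flat.EF s h.sW x hxE
    have hsx := conj_mem_of_eq h.sij hx
    have hxV := hle hx
    have h1 := h.flat.cd_F h.dec h.perm h.ne hf hu.1 (map_of_mem hu)
    rw [h.dec.cd_mul (inv_mem hxV) (h.flat.norm s h.sW x hxV), h.dec.cd_inv hxV, h.dec.cd_self hx,
      h.dec.cd_other hsx h.hij.symm, mul_one] at h1
    have h2 : u * x * u⁻¹ = (u * x⁻¹ * u⁻¹)⁻¹ := by group
    rw [h2, ← h1, inv_inv]
  · intro h1
    by_contra hxE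
    obtain ⟨a, ha, haC⟩ := h.exists_a
    exact haC (h.cent ha hx hxE (h1 a ha))

/-- the `i`-coordinate of an element of `F` is in `E` -/
theorem cd_mem_E [Finite G] {f : G} (hf : f ∈ F) : h.dec.cd f i ∈ E := by
  rw [h.mem_E_iff (h.dec.cd_mem (h.flat.F_le hf) i)]
  intro u hu
  exact (h.flat.cd_F h.dec h.perm h.ne hf hu.1 (map_of_mem hu)).symm

/-- coordinates of `[w,u]f` -/
theorem cd_reg {w u f : G} (hw : w ∈ Vf i) (hu : u ∈ W) (hf : f ∈ F) :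
    (u ∈ AA W Vf i ∧ h.dec.cd (w⁻¹ * (u * w * u⁻¹) * f) i = w⁻¹ * (u * w * u⁻¹) * h.dec.cd f i) ∨
      h.dec.cd (w⁻¹ * (u * w * u⁻¹) * f) i = w⁻¹ * h.dec.cd f i := by
  have hwV := h.dec.le i hw
  have huw := h.flat.norm u hu w hwV
  have e : h.dec.cd (w⁻¹ * (u * w * u⁻¹) * f) i = w⁻¹ * h.dec.cd (u * w * u⁻¹) i * h.dec.cd f i := by
    rw [h.dec.cd_mul (mul_mem (inv_mem hwV) huw) (h.flat.F_le hf), h.dec.cd_mul (inv_mem hwV) huw,
      h.dec.cd_inv hwV, h.dec.cd_self hw]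
  rcases h.two u hu with h1 | h1
  · left
    have hu' := mem_of_map hu h1
    refine ⟨hu', ?_⟩
    rw [e, h.dec.cd_self (conj_i h hu' hw)]
  · right
    rw [e, h.dec.cd_other (conj_mem_of_eq h1 hw) h.hij.symm, mul_one]

/-- `|Vf i : Vf i ∩ E| = 2` -/
theorem index_mem [Finite G] {w w' : G} (hw : w ∈ Vf i) (hw' : w' ∈ Vf i) (hwE : w ∉ E) (hwE' : w' ∉ E) :
    w⁻¹ * w' ∈ E := by
  have hwV := h.dec.le i hw
  have hwV' := h.dec.le i hw'
  have hsw := conj_mem_of_eq h.sij hw'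
  obtain ⟨u, hu, f, hf, he⟩ := h.flat.reg w hwV hwE _ (h.flat.VE s h.sW w' hwV')
  have h1 : h.dec.cd (w'⁻¹ * (s * w' * s⁻¹)) i = w'⁻¹ := by
    rw [h.dec.cd_mul (inv_mem hwV') (h.flat.norm s h.sW w' hwV'), h.dec.cd_inv hwV', h.dec.cd_self hw',
      h.dec.cd_other hsw h.hij.symm, mul_one]
  have hfE := h.cd_mem_E hf
  rcases h.cd_reg hw hu hf with ⟨hu', h2⟩ | h2
  · exfalso
    apply hwE'
    rw [he, h2] at h1
    have h3 : w'⁻¹ ∈ E := by
      rw [← h1]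
      exact mul_mem (h.flat.VE u hu w hwV) hfE
    simpa using inv_mem h3
  · rw [he, h2] at h1
    have h3 : w⁻¹ * w' = (h.dec.cd f i)⁻¹ := by
      have e1 : w' = (h.dec.cd f i)⁻¹ * w := by rw [← inv_inj, ← h1]; group
      rw [h.dec.comm _ (inv_mem hwV) _ hwV', e1, mul_assoc, mul_inv_cancel, mul_one]
    rw [h3]
    exact inv_mem hfE

/-- `a ↦ [w,a]` is onto `Vf i ∩ E` -/
theorem surj [Finite G] {w e : G} (hw : w ∈ Vf i) (hwE : w ∉ E) (he : e ∈ Vf i) (heE : e ∈ E) :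
    ∃ a ∈ AA W Vf i, w⁻¹ * (a * w * a⁻¹) = e := by
  have hwV := h.dec.le i hw
  obtain ⟨u, hu, f, hf, hef⟩ := h.flat.reg w hwV hwE e heE
  have h1 := h.dec.cd_self he
  rcases h.cd_reg hw hu hf with ⟨hu', h2⟩ | h2
  · refine ⟨u, hu', ?_⟩
    have h3 : f ∈ Vf i := by
      have : f = (w⁻¹ * (u * w * u⁻¹))⁻¹ * e := by rw [hef]; group
      rw [this]
      exact mul_mem (inv_mem (mul_mem (inv_mem hw) (conj_i h hu' hw))) he
    have h4 := h.F_inf h3 hf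
    rw [hef, h4, mul_one]
  · exfalso
    apply hwE
    have h1' : w⁻¹ * h.dec.cd f i = e := by
      rw [← h2, ← hef]
      exact h1
    have h3 : w = h.dec.cd f i * e⁻¹ := by
      rw [← h1']
      group
    rw [h3]
    exact mul_mem (h.cd_mem_E hf) (inv_mem heE)

theorem card_A [Finite G] : Nat.card (AA W Vf i) =
    Nat.card ↥(Vf i ⊓ E) * Nat.card ↥(AA W Vf i ⊓ centralizer (V : Set G)) := by
  obtain ⟨w, hw, hwE⟩ := SetLike.not_le_iff_exists.1 h.nE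
  have hwV := h.dec.le i hw
  have hc : Cos (fun a => w⁻¹ * (a * w * a⁻¹)) (AA W Vf i) (AA W Vf i ⊓ centralizer (V : Set G)) (Vf i ⊓ E) ⊥ := by
    constructor
    · intro a ha
      exact mem_inf.mpr ⟨mul_mem (inv_mem hw) (conj_i h ha hw), h.flat.VE a ha.1 w hwV⟩
    · intro a ha b hb
      have hab : a⁻¹ * b ∈ AA W Vf i := mul_mem (inv_mem ha) hb
      rw [mem_bot]
      have e1 : (w⁻¹ * (a * w * a⁻¹))⁻¹ * (w⁻¹ * (b * w * b⁻¹)) = (a * w * a⁻¹)⁻¹ * (b * w * b⁻¹) := by group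
      simp only [e1]
      rw [inv_mul_eq_one]
      constructor
      · intro h1
        refine ⟨hab, h.cent hab hw hwE ?_⟩
        have e2 : a⁻¹ * b * w * (a⁻¹ * b)⁻¹ = a⁻¹ * (b * w * b⁻¹) * a := by group
        rw [e2, ← h1]
        group
      · intro h1
        have h2 := mem_centralizer_iff.mp h1.2 w hwV
        have e2 : b * w * b⁻¹ = a * (a⁻¹ * b * w) * b⁻¹ := by group
        rw [e2, ← h2]
        group
  have h1 := hc.eq_of_surj (fun e he => by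
    obtain ⟨a, ha, h1⟩ := h.surj hw hwE he.1 he.2
    refine ⟨a, ha, ?_⟩
    rw [mem_bot]
    simp only [h1, inv_mul_cancel])
  have h2 := Cfsg.Agent.Omega.NOne.Flat.card_mul_relIndex'
    (inf_le_left : AA W Vf i ⊓ centralizer (V : Set G) ≤ AA W Vf i)
  rw [h1, relIndex_bot_left] at h2
  rw [← h2, mul_comm]

/-- the subgroup `{v ∈ V : v_i ∈ E}` -/
def X1 (h : TwoS V E F W Vf i j s) : Subgroup G where
  carrier := {v | v ∈ V ∧ h.dec.cd v i ∈ E}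
  one_mem' := ⟨one_mem V, by rw [h.dec.cd_one]; exact one_mem E⟩
  mul_mem' := fun {a b} ha hb => ⟨mul_mem ha.1 hb.1, by rw [h.dec.cd_mul ha.1 hb.1]; exact mul_mem ha.2 hb.2⟩
  inv_mem' := fun {a} ha => ⟨inv_mem ha.1, by rw [h.dec.cd_inv ha.1]; exact inv_mem ha.2⟩

/-- the subgroup `{v ∈ V : v_j ∈ Eˢ}` -/
def X2 (h : TwoS V E F W Vf i j s) : Subgroup G where
  carrier := {v | v ∈ V ∧ s⁻¹ * h.dec.cd v j * s ∈ E}
  one_mem' := ⟨one_mem V, by rw [h.dec.cd_one]; simp⟩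
  mul_mem' := fun {a b} ha hb => ⟨mul_mem ha.1 hb.1, by
    rw [h.dec.cd_mul ha.1 hb.1]
    have e : s⁻¹ * (h.dec.cd a j * h.dec.cd b j) * s = (s⁻¹ * h.dec.cd a j * s) * (s⁻¹ * h.dec.cd b j * s) := by
      group
    rw [e]
    exact mul_mem ha.2 hb.2⟩
  inv_mem' := fun {a} ha => ⟨inv_mem ha.1, by
    rw [h.dec.cd_inv ha.1]
    have e : s⁻¹ * (h.dec.cd a j)⁻¹ * s = (s⁻¹ * h.dec.cd a j * s)⁻¹ := by group
    rw [e]
    exact inv_mem ha.2⟩

theorem X_le [Finite G] : h.X1 ⊓ h.X2 ≤ V ⊓ centralizer (AA W Vf i : Set G) := by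
  rintro v ⟨⟨hv, h1⟩, -, h2⟩
  refine mem_inf.mpr ⟨hv, mem_centralizer_iff.mpr fun u hu => ?_⟩
  rw [← mul_inv_eq_iff_eq_mul]
  have hle := h.dec.le i
  refine h.dec.ext (h.flat.norm u hu.1 v hv) hv fun k => ?_
  by_cases hki : k = i
  · subst hki
    rw [h.dec.cd_conj h.ne (h.perm u hu.1) hv (map_of_mem hu)]
    exact (h.mem_E_iff (h.dec.cd_mem hv k)).mp h1 u hu
  by_cases hkj : k = j
  · subst hkj
    rw [h.dec.cd_conj h.ne (h.perm u hu.1) hv (map_j h hu)]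
    obtain ⟨y, hy, hys⟩ := mem_of_conj_mem h.sij (h.dec.cd_mem hv k)
    have e : s⁻¹ * h.dec.cd v k * s = y := by rw [← hys]; group
    rw [e] at h2
    rw [← hys, h.flat.ab u hu.1 s h.sW y (hle hy), (h.mem_E_iff hy).mp h2 u hu]
  · rw [h.dec.cd_conj h.ne (h.perm u hu.1) hv (map_k h hu.1 hki hkj)]
    exact h.flat.F_cent (h.hF k hki hkj (h.dec.cd_mem hv k)) hu.1

theorem relIndex_X1 [Finite G] : h.X1.relIndex V ≤ 2 := by
  refine relIndex_le_two' fun a ha b hb ha' hb' => ?_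
  refine ⟨mul_mem (inv_mem ha) hb, ?_⟩
  rw [h.dec.cd_mul (inv_mem ha) hb, h.dec.cd_inv ha]
  exact h.index_mem (h.dec.cd_mem ha i) (h.dec.cd_mem hb i) (fun h1 => ha' ⟨ha, h1⟩) fun h1 => hb' ⟨hb, h1⟩

theorem relIndex_X2 [Finite G] : h.X2.relIndex V ≤ 2 := by
  refine relIndex_le_two' fun a ha b hb ha' hb' => ?_
  refine ⟨mul_mem (inv_mem ha) hb, ?_⟩
  rw [h.dec.cd_mul (inv_mem ha) hb, h.dec.cd_inv ha]
  obtain ⟨x, hx, hxs⟩ := mem_of_conj_mem h.sij (h.dec.cd_mem ha j)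
  obtain ⟨y, hy, hys⟩ := mem_of_conj_mem h.sij (h.dec.cd_mem hb j)
  have ex : s⁻¹ * h.dec.cd a j * s = x := by rw [← hxs]; group
  have ey : s⁻¹ * h.dec.cd b j * s = y := by rw [← hys]; group
  have e : s⁻¹ * ((h.dec.cd a j)⁻¹ * h.dec.cd b j) * s = x⁻¹ * y := by
    rw [← hxs, ← hys]; group
  rw [e]
  refine h.index_mem hx hy (fun h1 => ha' ⟨ha, ?_⟩) fun h1 => hb' ⟨hb, ?_⟩
  · rw [ex]; exact h1
  · rw [ey]; exact h1

/-- `|V : C_V(N_W(Vf i))| ≤ 4` -/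
theorem card_V_le [Finite G] : Nat.card V ≤ 4 * Nat.card ↥(V ⊓ centralizer (AA W Vf i : Set G)) := by
  have h1 : (h.X1 ⊓ h.X2).relIndex V ≤ 4 :=
    relIndex_inf_le.trans (Nat.mul_le_mul h.relIndex_X1 h.relIndex_X2)
  have hle : h.X1 ⊓ h.X2 ≤ V := h.X_le.trans inf_le_left
  have h2 := Cfsg.Agent.Omega.NOne.Flat.card_mul_relIndex' hle
  rw [← h2, mul_comm]
  exact Nat.mul_le_mul h1 (Subgroup.card_le_of_le h.X_le)

/-- `|Vf i| = 4` -/
theorem card_four [Finite G] : Nat.card (Vf i) = 4 := by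
  have h1 : (Vf i ⊓ E).relIndex (Vf i) = 2 := by
    have h2 : (Vf i ⊓ E).relIndex (Vf i) ≤ 2 := relIndex_le_two' fun a ha b hb ha' hb' =>
      mem_inf.mpr ⟨mul_mem (inv_mem ha) hb, h.index_mem ha hb (fun h1 => ha' ⟨ha, h1⟩) fun h1 => hb' ⟨hb, h1⟩⟩
    have h3 : (Vf i ⊓ E).relIndex (Vf i) ≠ 1 := fun h3 => h.nE ((relIndex_eq_one.mp h3).trans inf_le_right)
    have h4 : (Vf i ⊓ E).relIndex (Vf i) ≠ 0 := Subgroup.index_ne_zero_of_finite
    omega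
  have h2 := Cfsg.Agent.Omega.NOne.Flat.card_mul_relIndex' (inf_le_left : Vf i ⊓ E ≤ Vf i)
  rw [h1] at h2
  have h3 : Nat.card ↥(Vf i ⊓ E) < 4 := by
    by_contra hcon
    obtain ⟨a, ha, haC⟩ := h.exists_a
    refine h.noff (AA W Vf i) inf_le_left ⟨h.flat.elemM inf_le_left, fun h1 => haC (h1 ha), ?_⟩
    · rw [h.card_A]
      calc Nat.card V * Nat.card ↥(AA W Vf i ⊓ centralizer (V : Set G))
          ≤ 4 * Nat.card ↥(V ⊓ centralizer (AA W Vf i : Set G)) *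
            Nat.card ↥(AA W Vf i ⊓ centralizer (V : Set G)) := Nat.mul_le_mul_right _ h.card_V_le
        _ ≤ Nat.card ↥(Vf i ⊓ E) * Nat.card ↥(V ⊓ centralizer (AA W Vf i : Set G)) *
            Nat.card ↥(AA W Vf i ⊓ centralizer (V : Set G)) :=
            Nat.mul_le_mul_right _ (Nat.mul_le_mul_right _ (not_lt.mp hcon))
        _ = _ := by ring
  have h5 : Nat.card ↥(Vf i ⊓ E) ≠ 1 := by
    intro h6
    obtain ⟨a, ha, haC⟩ := h.exists_a
    have h7 := h.card_A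
    rw [h6, one_mul] at h7
    have h8 : AA W Vf i ⊓ centralizer (V : Set G) = AA W Vf i := eq_of_le_of_card_ge inf_le_left h7.le
    exact haC (inf_eq_left.mp h8 ha)
  have hp : IsPGroup 2 ↥(Vf i ⊓ E) := h.pg.to_le (inf_le_left.trans (h.dec.le i))
  have : Fact (Nat.Prime 2) := ⟨Nat.prime_two⟩
  obtain ⟨n, hn⟩ := IsPGroup.iff_card.1 hp
  rw [hn] at h3 h5 h2
  rcases n with _ | _ | n
  · exact absurd (pow_zero 2) h5
  · rw [← h2]; norm_num
  · exfalso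
    have : 2 ^ (n + 1 + 1) = 4 * 2 ^ n := by ring
    have h9 : 1 ≤ 2 ^ n := Nat.one_le_two_pow
    omega

end TwoS

end Cfsg.Agent.Omega.NO1.WRF
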